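import Groth.Agent.GIT.K701.ClOrb
import Mathlib.AlgebraicGeometry.Morphisms.Separated
import Mathlib.AlgebraicGeometry.Morphisms.Flat
import Mathlib.FieldTheory.IsAlgClosed.AlgebraicClosure

/-!
# The action on `X ⊗ T`; closedness of orbits before and after base change
-/

set_option autoImplicit false

universe u

open CategoryTheory CategoryTheory.Limits MonoidalCategory CartesianMonoidalCategory MonObj AlgebraicGeometry
  TopologicalSpace Topology

namespace K701.ActT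

open K689.ActBasic K701.ClOrb

variable {S : Scheme.{u}} {G X T T' : Over S} [GrpObj G]

/-- `a'` is the action on `X ⊗ T` through the first factor -/
structure IsBc (a : AlgGrp.Action G X) (a' : AlgGrp.Action G (X ⊗ T)) : Prop where
  fst : a'.act ≫ fst X T = (G ◁ fst X T) ≫ a.act
  snd : a'.act ≫ snd X T = snd G (X ⊗ T) ≫ snd X T

/-- the action on `X ⊗ T` -/
noncomputable def actT (a : AlgGrp.Action G X) (T : Over S) : AlgGrp.Action G (X ⊗ T) where
  act := lift ((G ◁ fst X T) ≫ a.act) (snd G (X ⊗ T) ≫ snd X T)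
  one_act := by
    apply CartesianMonoidalCategory.hom_ext
    · rw [Category.assoc, lift_fst, ← whisker_exchange_assoc, a.one_act]
      simp
    · rw [Category.assoc, lift_snd, whiskerRight_snd_assoc]
      rfl
  mul_act := by
    apply CartesianMonoidalCategory.hom_ext
    · rw [Category.assoc, lift_fst, ← whisker_exchange_assoc, a.mul_act]
      simp only [Category.assoc, lift_fst]
      rw [← MonoidalCategory.whiskerLeft_comp_assoc, lift_fst]
      simp
    · simp

theorem isBc_actT (a : AlgGrp.Action G X) (T : Over S) : IsBc a (actT a T) := ⟨lift_fst _ _, lift_snd _ _⟩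

variable {a : AlgGrp.Action G X} {a' : AlgGrp.Action G (X ⊗ T)} {a'' : AlgGrp.Action G (X ⊗ T')}

/-- base changes are compatible with morphisms of the bases -/
theorem IsBc.whisker (h' : IsBc a a') (h'' : IsBc a a'') (u : T' ⟶ T) :
    a''.act ≫ (X ◁ u) = (G ◁ (X ◁ u)) ≫ a'.act := by
  apply CartesianMonoidalCategory.hom_ext
  · rw [Category.assoc, whiskerLeft_fst, h''.fst, Category.assoc, h'.fst, ← MonoidalCategory.whiskerLeft_comp_assoc,
      whiskerLeft_fst]
  · rw [Category.assoc, whiskerLeft_snd, ← Category.assoc, h''.snd, Category.assoc, Category.assoc, h'.snd]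
    simp

/-- the closed immersion `X ⊗ Z ⟶ (X ⊗ T) ⊗ Z` given by a point `Z ⟶ T` -/
noncomputable def gr (X : Over S) {Z : Over S} (t : Z ⟶ T) : X ⊗ Z ⟶ (X ⊗ T) ⊗ Z :=
  lift (lift (fst X Z) (snd X Z ≫ t)) (snd X Z)

theorem gr_fst {Z : Over S} (t : Z ⟶ T) : gr X t ≫ fst (X ⊗ T) Z = X ◁ t := by
  rw [gr, lift_fst]
  ext <;> simp

theorem psi_gr (h' : IsBc a a') {Z : Over S} (f : Z ⟶ X ⊗ T) :
    GIT.psi a' f = GIT.psi a (f ≫ fst X T) ≫ gr X (f ≫ snd X T) := by
  apply CartesianMonoidalCategory.hom_ext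
  · rw [GIT.psi, lift_fst, Category.assoc, gr_fst]
    apply CartesianMonoidalCategory.hom_ext
    · rw [Category.assoc, h'.fst, Category.assoc, whiskerLeft_fst, GIT.psi, lift_fst,
        ← MonoidalCategory.whiskerLeft_comp_assoc]
    · rw [Category.assoc, h'.snd, Category.assoc, whiskerLeft_snd, GIT.psi, lift_snd_assoc]
      simp
  · rw [GIT.psi, lift_snd, Category.assoc, gr, lift_snd, GIT.psi, lift_snd]

theorem isClosedImmersion_gr [IsSeparated T.hom] {Z : Over S} (t : Z ⟶ T) : IsClosedImmersion (gr X t).left := by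
  have h1 : gr X t ≫ (fst X T ▷ Z) = 𝟙 _ := by
    apply CartesianMonoidalCategory.hom_ext <;> simp [gr]
  have h2 : (gr X t).left ≫ (fst X T ▷ Z).left = 𝟙 _ := by
    rw [← Over.comp_left, h1]; rfl
  have h3 : IsSeparated (fst X T).left :=
    MorphismProperty.of_isPullback (IsPullback.of_hasPullback X.hom T.hom).flip ‹IsSeparated T.hom›
  have h4 : IsSeparated (fst X T ▷ Z).left :=
    MorphismProperty.of_isPullback (isPullback_whiskerRight (fst X T) Z) h3
  have h5 : IsClosedImmersion ((gr X t).left ≫ (fst X T ▷ Z).left) := by rw [h2]; infer_instance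
  exact IsClosedImmersion.of_comp (gr X t).left (fst X T ▷ Z).left

theorem range_psi_gr (h' : IsBc a a') {Z : Over S} (f : Z ⟶ X ⊗ T) :
    Set.range (GIT.psi a' f).left.base =
      (gr X (f ≫ snd X T)).left.base '' Set.range (GIT.psi a (f ≫ fst X T)).left.base := by
  rw [← Set.range_comp, psi_gr h' f, Over.comp_left]
  rfl

theorem comp_left_apply {X Y Z : Over S} (f : X ⟶ Y) (g : Y ⟶ Z) (x : X.left) : (f ≫ g).left x = g.left (f.left x) := by
  rw [Over.comp_left, Scheme.Hom.comp_apply]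

/-- closedness of orbits after base change to `T` can be seen on `X ⊗ Z` -/
theorem isClosed_iff [IsSeparated T.hom] (h' : IsBc a a') {Z : Over S} (f : Z ⟶ X ⊗ T) (U : (X ⊗ T).left.Opens) :
    IsClosed ((fun p : (fst (X ⊗ T) Z).left ⁻¹ᵁ U => (p : ((X ⊗ T) ⊗ Z).left)) ⁻¹'
        Set.range (GIT.psi a' f).left.base) ↔
      IsClosed ((fun p : (X ◁ (f ≫ snd X T)).left ⁻¹ᵁ U => (p : (X ⊗ Z).left)) ⁻¹'
        Set.range (GIT.psi a (f ≫ fst X T)).left.base) := by
  have := isClosedImmersion_gr (X := X) (f ≫ snd X T)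
  rw [range_psi_gr h']
  have hW : ∀ y, y ∈ (X ◁ (f ≫ snd X T)).left ⁻¹ᵁ U ↔
      (gr X (f ≫ snd X T)).left y ∈ (fst (X ⊗ T) Z).left ⁻¹ᵁ U := by
    intro y
    change (X ◁ (f ≫ snd X T)).left y ∈ U ↔ (fst (X ⊗ T) Z).left ((gr X (f ≫ snd X T)).left y) ∈ U
    rw [← comp_left_apply, gr_fst]
  constructor
  · intro h
    exact isClosed_restrict_of_image (gr X (f ≫ snd X T)).left.continuous
      (gr X (f ≫ snd X T)).left.isEmbedding.injective _ _ hW _ h
  · intro h
    exact isClosed_restrict_image (gr X (f ≫ snd X T)).left.isClosedEmbedding _ _ hW _ h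

/-- closed orbits pull back -/
theorem closedOrbitsOn_fst [IsSeparated T.hom] (h' : IsBc a a') (U : X.left.Opens) (hU : GLinSh.ClosedOrbitsOn a U) :
    GLinSh.ClosedOrbitsOn a' ((fst X T).left ⁻¹ᵁ U) := by
  intro Ω _ _ Z e f hf
  rw [isClosed_iff h']
  have h1 := hU Ω Z e (f ≫ fst X T) (by
    rintro _ ⟨z, rfl⟩
    have := hf ⟨z, rfl⟩
    change (f ≫ fst X T).left z ∈ U
    rw [comp_left_apply]
    exact this)
  have h2 : (X ◁ (f ≫ snd X T)).left ⁻¹ᵁ ((fst X T).left ⁻¹ᵁ U) = (fst X Z).left ⁻¹ᵁ U := by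
    have : (X ◁ (f ≫ snd X T)).left ⁻¹ᵁ ((fst X T).left ⁻¹ᵁ U) = ((X ◁ (f ≫ snd X T)) ≫ fst X T).left ⁻¹ᵁ U := rfl
    rw [this, whiskerLeft_fst]
  rw [h2]
  exact h1

theorem closedOrbitsOn_whisker [IsSeparated T.hom] [IsSeparated T'.hom] (h' : IsBc a a') (h'' : IsBc a a'')
    (u : T' ⟶ T) (U : (X ⊗ T).left.Opens) (hU : GLinSh.ClosedOrbitsOn a' U) :
    GLinSh.ClosedOrbitsOn a'' ((X ◁ u).left ⁻¹ᵁ U) := by
  intro Ω _ _ Z e f hf
  rw [isClosed_iff h'']
  have h1 := hU Ω Z e (f ≫ (X ◁ u)) (by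
    rintro _ ⟨z, rfl⟩
    have := hf ⟨z, rfl⟩
    change (f ≫ (X ◁ u)).left z ∈ U
    rw [comp_left_apply]
    exact this)
  rw [isClosed_iff h'] at h1
  have e1 : (f ≫ (X ◁ u)) ≫ fst X T = f ≫ fst X T' := by rw [Category.assoc, whiskerLeft_fst]
  have h2 : (X ◁ (f ≫ snd X T')).left ⁻¹ᵁ ((X ◁ u).left ⁻¹ᵁ U) = (X ◁ ((f ≫ (X ◁ u)) ≫ snd X T)).left ⁻¹ᵁ U := by
    have : (X ◁ (f ≫ snd X T')).left ⁻¹ᵁ ((X ◁ u).left ⁻¹ᵁ U) = ((X ◁ (f ≫ snd X T')) ≫ (X ◁ u)).left ⁻¹ᵁ U := rfl
    rw [this, ← MonoidalCategory.whiskerLeft_comp, Category.assoc, Category.assoc, whiskerLeft_snd]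
  rw [h2, ← e1]
  exact h1

section Field

variable {k : Type u} [Field k] {G X T : Over (Spec (CommRingCat.of k))} [GrpObj G] {a : AlgGrp.Action G X}
  {a' : AlgGrp.Action G (X ⊗ T)}

/-- the pull-back square of orbit maps -/
theorem mem_range_psi_iff {S : Scheme.{u}} {G X : Over S} [GrpObj G] (a : AlgGrp.Action G X) {Z Z' : Over S}
    (f : Z ⟶ X) (z : Z' ⟶ Z) (y : (X ⊗ Z').left) :
    y ∈ Set.range (GIT.psi a (z ≫ f)).left.base ↔ (X ◁ z).left y ∈ Set.range (GIT.psi a f).left.base := by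
  have h0 : GIT.psi a (z ≫ f) ≫ (X ◁ z) = (G ◁ z) ≫ GIT.psi a f := by
    apply CartesianMonoidalCategory.hom_ext
    · simp [GIT.psi]
    · simp [GIT.psi]
  have H : IsPullback (G ◁ z) (GIT.psi a (z ≫ f)) (GIT.psi a f) (X ◁ z) := by
    refine ⟨⟨h0.symm⟩, ⟨PullbackCone.IsLimit.mk _
      (fun s => lift (s.fst ≫ fst G Z) (s.snd ≫ snd X Z')) ?_ ?_ ?_⟩⟩
    · intro s
      have h1 := congrArg (· ≫ snd X Z) s.condition
      simp only [Category.assoc, whiskerLeft_snd, GIT.psi, lift_snd] at h1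
      apply CartesianMonoidalCategory.hom_ext
      · simp
      · simp [h1]
    · intro s
      have h1 := congrArg (· ≫ snd X Z) s.condition
      have h2 := congrArg (· ≫ fst X Z) s.condition
      simp only [Category.assoc, whiskerLeft_snd, whiskerLeft_fst, GIT.psi, lift_snd, lift_fst] at h1 h2
      apply CartesianMonoidalCategory.hom_ext
      · simp only [GIT.psi, Category.assoc, lift_fst]
        rw [← h2, ← Category.assoc, ← Category.assoc]
        congr 1
        apply CartesianMonoidalCategory.hom_ext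
        · simp
        · simp [reassoc_of% h1]
      · simp [GIT.psi]
    · intro s m h1 h2
      apply CartesianMonoidalCategory.hom_ext
      · rw [lift_fst, ← h1]; simp
      · rw [lift_snd, ← h2]; simp [GIT.psi]
  have H' : IsPullback (G ◁ z).left (GIT.psi a (z ≫ f)).left (GIT.psi a f).left (X ◁ z).left :=
    H.map (Over.forget S)
  constructor
  · rintro ⟨w, hw⟩
    refine ⟨(G ◁ z).left w, ?_⟩
    have h3 : (GIT.psi a f).left ((G ◁ z).left w) = (X ◁ z).left ((GIT.psi a (z ≫ f)).left w) := by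
      rw [← Scheme.Hom.comp_apply, ← Scheme.Hom.comp_apply, H'.w]
    refine h3.trans ?_
    exact congrArg _ hw
  · rintro ⟨w, hw⟩
    obtain ⟨v, -, hv⟩ := exists_point H' w y hw
    exact ⟨v, hv⟩

/-- a common geometric point -/
theorem exists_common (Z : Over (Spec (CommRingCat.of k))) [Nonempty Z.left] [Nonempty T.left] :
    ∃ (Ω : Type u) (_ : Field Ω) (_ : IsAlgClosed Ω) (Z' : Over (Spec (CommRingCat.of k)))
      (_ : Z'.left ≅ Spec (CommRingCat.of Ω)) (_ : Z' ⟶ Z) (_ : Z' ⟶ T), True := by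
  have hsub : Subsingleton ↥(Spec (CommRingCat.of k)) := inferInstanceAs (Subsingleton (PrimeSpectrum k))
  have hne : Nonempty (Z ⊗ T).left := by
    obtain ⟨z⟩ := ‹Nonempty Z.left›
    obtain ⟨t⟩ := ‹Nonempty T.left›
    obtain ⟨w, -⟩ := exists_point (IsPullback.of_hasPullback Z.hom T.hom) z t (Subsingleton.elim _ _)
    exact ⟨w⟩
  obtain ⟨w⟩ := hne
  let Ω := AlgebraicClosure ((Z ⊗ T).left.residueField w)
  let g : Spec (CommRingCat.of Ω) ⟶ (Z ⊗ T).left :=
    Spec.map (CommRingCat.ofHom (algebraMap ((Z ⊗ T).left.residueField w) Ω)) ≫ (Z ⊗ T).left.fromSpecResidueField w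
  let Z' : Over (Spec (CommRingCat.of k)) := Over.mk (g ≫ (Z ⊗ T).hom)
  let u : Z' ⟶ Z ⊗ T := Over.homMk g rfl
  exact ⟨Ω, inferInstance, inferInstance, Z', Iso.refl _, u ≫ fst Z T, u ≫ snd Z T, trivial⟩

/-- closedness of orbits descends -/
theorem closedOrbitsOn_of_fst [IsSeparated T.hom] [Nonempty T.left] (h' : IsBc a a') (U : X.left.Opens)
    (hU : GLinSh.ClosedOrbitsOn a' ((fst X T).left ⁻¹ᵁ U)) : GLinSh.ClosedOrbitsOn a U := by
  intro Ω _ _ Z e f hf
  have hneZ : Nonempty Z.left := ⟨e.inv (IsLocalRing.closedPoint Ω)⟩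
  obtain ⟨Ω', _, _, Z', e', z, t, -⟩ := exists_common (T := T) Z
  have h1 := hU Ω' Z' e' (lift (z ≫ f) t) (by
    rintro _ ⟨w, rfl⟩
    change (fst X T).left ((lift (z ≫ f) t).left w) ∈ U
    rw [← comp_left_apply, lift_fst, comp_left_apply]
    exact hf ⟨_, rfl⟩)
  rw [isClosed_iff h'] at h1
  have h2 : (X ◁ (lift (z ≫ f) t ≫ snd X T)).left ⁻¹ᵁ ((fst X T).left ⁻¹ᵁ U) = (fst X Z').left ⁻¹ᵁ U := by
    have : (X ◁ (lift (z ≫ f) t ≫ snd X T)).left ⁻¹ᵁ ((fst X T).left ⁻¹ᵁ U) =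
      ((X ◁ (lift (z ≫ f) t ≫ snd X T)) ≫ fst X T).left ⁻¹ᵁ U := rfl
    rw [this, whiskerLeft_fst]
  rw [h2, lift_fst] at h1
  -- the projection `X ⊗ Z' ⟶ X ⊗ Z` is a quotient map
  have hsubZ : Subsingleton Z.left := by
    have : Function.Injective e.hom := (Scheme.homeoOfIso e).injective
    exact this.subsingleton
  have hintZ : IsIntegral Z.left := isIntegral_of_isOpenImmersion e.hom
  have hneZ' : Nonempty Z'.left := ⟨e'.inv (IsLocalRing.closedPoint Ω')⟩
  have hfl : Flat z.left := inferInstance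
  have hsurj : Surjective z.left := ⟨fun y => by
    obtain ⟨w⟩ := hneZ'
    exact ⟨w, Subsingleton.elim _ _⟩⟩
  have haff' : IsAffine Z'.left := .of_isIso e'.hom
  have haff : IsAffine Z.left := .of_isIso e.hom
  have hqc : QuasiCompact z.left := inferInstance
  have HP : IsPullback (snd X Z').left (X ◁ z).left z.left (snd X Z).left := isPullback_snd_left (G := X) z
  have i1 : Flat (X ◁ z).left := MorphismProperty.of_isPullback HP hfl
  have i2 : Surjective (X ◁ z).left := MorphismProperty.of_isPullback HP hsurj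
  have i3 : QuasiCompact (X ◁ z).left := MorphismProperty.of_isPullback HP hqc
  have hq : IsQuotientMap (X ◁ z).left := Flat.isQuotientMap_of_surjective (X ◁ z).left
  have hq' := hq.restrictPreimage_isOpen ((fst X Z).left ⁻¹ᵁ U).2
  refine hq'.isClosed_preimage.1 ?_
  have h3 : (X ◁ z).left ⁻¹' (((fst X Z).left ⁻¹ᵁ U : (X ⊗ Z).left.Opens) : Set (X ⊗ Z).left) =
      (((fst X Z').left ⁻¹ᵁ U : (X ⊗ Z').left.Opens) : Set (X ⊗ Z').left) := by
    ext y
    change (fst X Z).left ((X ◁ z).left y) ∈ U ↔ (fst X Z').left y ∈ U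
    rw [← comp_left_apply, whiskerLeft_fst]
  obtain ⟨C, hC, hCe⟩ := isClosed_induced_iff.1 h1
  refine isClosed_induced_iff.2 ⟨C, hC, ?_⟩
  ext ⟨y, hy⟩
  have hy' : y ∈ (((fst X Z').left ⁻¹ᵁ U : (X ⊗ Z').left.Opens) : Set (X ⊗ Z').left) := by rw [← h3]; exact hy
  have h4 := Set.ext_iff.1 hCe ⟨y, hy'⟩
  exact h4.trans (mem_range_psi_iff a f z y)

end Field

end K701.ActT
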