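import Groth.Agent.GIT.K701.WtComp
import Groth.Agent.GIT.K689.Avoid

/-!
# Weight components of global functions on a linearised line bundle; they preserve invariance
-/

set_option autoImplicit false

universe u

open CategoryTheory CategoryTheory.Limits MonoidalCategory CartesianMonoidalCategory MonObj GrpObj AlgebraicGeometry
  TopologicalSpace Opposite

namespace K701.Bun

open K689.SchGlue K689.Coord K689.CoordUP K689.Weight K689.Ratio K689.PullBun K689.Compat K689.LinBunBasic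
  K689.ActBasic K689.InvRatio K701.WtComp

section Sch

variable {X V : Scheme.{u}} {p : V ⟶ X} {chart : ∀ U : X.Opens, Set (Γ(V, p ⁻¹ᵁ U))}

theorem top_le_pre {X V : Scheme.{u}} (p : V ⟶ X) : (⊤ : V.Opens) ≤ p ⁻¹ᵁ ⊤ := fun _ _ => trivial

/-- the weight-`n` component of a global function -/
noncomputable def gwc (A : Atl p chart) (n : ℕ) (f : Γ(V, ⊤)) : Γ(V, ⊤) :=
  rsec (top_le_pre p) (wc A n (tt p f))

theorem tt_gwc (A : Atl p chart) (n : ℕ) (f : Γ(V, ⊤)) : tt p (gwc A n f) = wc A n (tt p f) := by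
  have h : (p ⁻¹ᵁ ⊤ : V.Opens) ≤ ⊤ := le_top
  change rsec h (gwc A n f) = _
  rw [gwc, rsec_rsec, rsec_self]

theorem gwc_eq (A : Atl p chart) (n : ℕ) {f g : Γ(V, ⊤)} (h : wc A n (tt p f) = tt p g) : gwc A n f = g := by
  apply tt_injective p
  rw [tt_gwc, h]

theorem gwc_add (A : Atl p chart) (n : ℕ) (f g : Γ(V, ⊤)) : gwc A n (f + g) = gwc A n f + gwc A n g := by
  apply tt_injective p
  have e : ∀ f g : Γ(V, ⊤), tt p (f + g) = tt p f + tt p g := fun f g => map_add _ _ _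
  rw [tt_gwc, e, e, wc_add, tt_gwc, tt_gwc]

theorem gwc_zero (A : Atl p chart) (n : ℕ) : gwc A n (0 : Γ(V, ⊤)) = 0 := by
  have := gwc_add A n (0 : Γ(V, ⊤)) 0
  rw [add_zero] at this
  exact left_eq_add.1 this

theorem gwc_sum (A : Atl p chart) (n : ℕ) {J : Type*} (s : Finset J) (f : J → Γ(V, ⊤)) :
    gwc A n (∑ i ∈ s, f i) = ∑ i ∈ s, gwc A n (f i) := by
  classical
  induction s using Finset.induction_on with
  | empty => simp [gwc_zero]
  | insert i s hi ih => rw [Finset.sum_insert hi, Finset.sum_insert hi, gwc_add, ih]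

theorem gwc_base_mul (A : Atl p chart) (n : ℕ) (c : Γ(X, ⊤)) (f : Γ(V, ⊤)) :
    gwc A n (p.appTop c * f) = p.appTop c * gwc A n f := by
  apply tt_injective p
  have e : ∀ f g : Γ(V, ⊤), tt p (f * g) = tt p f * tt p g := fun f g => map_mul _ _ _
  have e2 : tt p (p.appTop c) = p.app ⊤ c := rs_self (p := p) (U := ⊤) _
  rw [tt_gwc, e, e, e2, wc_base_mul, tt_gwc]

variable {X' V' : Scheme.{u}} {p' : V' ⟶ X'} {h : X' ⟶ X} {q : V' ⟶ V}
  {chart' : ∀ U : X'.Opens, Set (Γ(V', p' ⁻¹ᵁ U))}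

theorem tt_pull (hc : p' ≫ h = q ≫ p) (f : Γ(V, ⊤)) :
    q.appLE (p ⁻¹ᵁ ⊤) (p' ⁻¹ᵁ (h ⁻¹ᵁ ⊤)) (sqle hc ⊤) (tt p f) = tt p' (q.appTop f) := by
  have e := appLE_tt hc ⊤ f
  rw [rs_self] at e
  exact e.trans (rs_self (p := p') (U := ⊤) _)

theorem gwc_pull [IsAffineHom p'] (m : MorS p p' h q chart chart') (A : Atl p chart) (A' : Atl p' chart') (n : ℕ)
    (f : Γ(V, ⊤)) : q.appTop (gwc A n f) = gwc A' n (q.appTop f) := by
  apply tt_injective p'
  rw [tt_gwc, ← tt_pull m.comm, ← tt_pull m.comm, tt_gwc]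
  exact m.wc A A' n (tt p f)

theorem nv_pull' [IsAffineHom p] [IsAffineHom p'] (m : MorS p p' h q chart chart') (A : Atl p chart)
    (A' : Atl p' chart') {n : ℕ} {f : Γ(V, ⊤)} (hf : Wt p chart n ⊤ (tt p f)) :
    K689.Weight.nv p' (tt p' (q.appTop f)) = h ⁻¹' K689.Weight.nv p (tt p f) := by
  rw [← tt_pull m.comm]
  exact m.nv A A' hf

end Sch

section Bun

variable {S : Scheme.{u}} {G X : Over S} [GrpObj G] {a : AlgGrp.Action G X} (B : GLinSh.LinBun G a)

/-- the weight-`n` component of a global function on the total space -/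
noncomputable def comp (n : ℕ) (f : Γ(B.V.left, ⊤)) : Γ(B.V.left, ⊤) := gwc (atl B.atlas) n f

theorem hasWeight_comp (n : ℕ) (f : Γ(B.V.left, ⊤)) : GLinSh.HasWeight B.atlas.chart n (comp B n f) := by
  rw [hasWeight_iff, comp, tt_gwc]
  exact wt_wc _ _ _

theorem comp_of_hasWeight {n : ℕ} {f : Γ(B.V.left, ⊤)} (hf : GLinSh.HasWeight B.atlas.chart n f) :
    comp B n f = f := by
  rw [hasWeight_iff] at hf
  exact gwc_eq _ _ (wc_of_wt _ hf)

theorem hasWeight_iff_comp {n : ℕ} {f : Γ(B.V.left, ⊤)} :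
    GLinSh.HasWeight B.atlas.chart n f ↔ comp B n f = f :=
  ⟨comp_of_hasWeight B, fun h => h ▸ hasWeight_comp B n f⟩

/-- the atlas of `G × V ⟶ G × X` pulled back along the second projections -/
def gchart : ∀ U : (G ⊗ X).left.Opens, Set (Γ((G ⊗ B.V).left, (G ◁ B.π).left ⁻¹ᵁ U)) :=
  bchart (isPullback_snd_left (G := G) B.π).w.symm B.atlas.chart

instance isAffineHom_whisker : IsAffineHom (G ◁ B.π).left :=
  MorphismProperty.of_isPullback (isPullback_snd_left (G := G) B.π) inferInstance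

theorem gatl : Atl (G ◁ B.π).left (gchart B) := bcAtl (isPullback_snd_left (G := G) B.π) (atl B.atlas)

theorem morS_snd : MorS B.π.left (G ◁ B.π).left (snd G X).left (snd G B.V).left B.atlas.chart (gchart B) where
  comm := (isPullback_snd_left (G := G) B.π).w.symm
  crd U y hy := Crd.of_adm (gatl B) (adm_of_mem ⟨U, le_rfl, y, hy, rfl⟩)

theorem morS_act : MorS B.π.left (G ◁ B.π).left a.act.left B.lift.act.left B.atlas.chart (gchart B) where
  comm := (isPullback_act_left a B.lift B.π B.lift_π).w.symm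
  crd U' y' hy' := by
    have Hact := isPullback_act_left a B.lift B.π B.lift_π
    refine Crd.of_isCoord (gatl B) ?_ ?_
    · apply Wt.of_local (gatl B)
      intro z hz
      obtain ⟨U, hzU, y, hy⟩ := B.atlas.cover ((snd G X).left z)
      refine ⟨a.act.left ⁻¹ᵁ U' ⊓ (snd G X).left ⁻¹ᵁ U, inf_le_left, ⟨hz, hzU⟩, ?_⟩
      obtain ⟨c, hc⟩ := B.lift_linear U U' y y' hy hy'
      -- the left side
      have e1 : rs (G ◁ B.π).left (inf_le_left : a.act.left ⁻¹ᵁ U' ⊓ (snd G X).left ⁻¹ᵁ U ≤ a.act.left ⁻¹ᵁ U')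
          (B.lift.act.left.appLE (B.π.left ⁻¹ᵁ U') ((G ◁ B.π).left ⁻¹ᵁ (a.act.left ⁻¹ᵁ U')) (sqle Hact.w.symm U') y') =
          B.lift.act.left.appLE (B.π.left ⁻¹ᵁ U') (GLinSh.liftOpen a B.π U U')
            (GLinSh.liftOpen_le_act a B.π B.lift B.lift_π) y' :=
        rsec_appLE _ _ _ _ _
      rw [e1, hc]
      -- the right side
      have e2 : (snd G B.V).left.appLE (B.π.left ⁻¹ᵁ U) (GLinSh.liftOpen a B.π U U')
          (GLinSh.liftOpen_le_snd a B.π) y =
          rs (G ◁ B.π).left (inf_le_right : a.act.left ⁻¹ᵁ U' ⊓ (snd G X).left ⁻¹ᵁ U ≤ (snd G X).left ⁻¹ᵁ U)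
          ((snd G B.V).left.appLE (B.π.left ⁻¹ᵁ U) ((G ◁ B.π).left ⁻¹ᵁ ((snd G X).left ⁻¹ᵁ U))
            (sqle (isPullback_snd_left (G := G) B.π).w.symm U) y) := (rsec_appLE _ _ _ _ _).symm
      have hadm : Adm (G ◁ B.π).left (gchart B) (a.act.left ⁻¹ᵁ U' ⊓ (snd G X).left ⁻¹ᵁ U)
          (rs (G ◁ B.π).left (inf_le_right : a.act.left ⁻¹ᵁ U' ⊓ (snd G X).left ⁻¹ᵁ U ≤ (snd G X).left ⁻¹ᵁ U)
          ((snd G B.V).left.appLE (B.π.left ⁻¹ᵁ U) ((G ◁ B.π).left ⁻¹ᵁ ((snd G X).left ⁻¹ᵁ U))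
            (sqle (isPullback_snd_left (G := G) B.π).w.symm U) y)) :=
        ⟨_, inf_le_right, _, ⟨U, le_rfl, y, hy, rfl⟩, rfl⟩
      have e3 : (G ◁ B.π).left.appLE _ (GLinSh.liftOpen a B.π U U') (GLinSh.liftOpen_le_base a B.π) c =
          (G ◁ B.π).left.app (a.act.left ⁻¹ᵁ U' ⊓ (snd G X).left ⁻¹ᵁ U) c := appLE_self_app _ _ c
      rw [e2, e3]
      have := Wt.of_adm (n := 1) (gatl B) hadm c
      rwa [pow_one] at this
    · exact IsCoord.baseChange (B.atlas.coord U' y' hy' : IsCoord B.π.left U' y') Hact (a.act.left ⁻¹ᵁ U') le_rfl _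

/-- the weight components of an invariant function are invariant -/
theorem isInvFn_comp (n : ℕ) {f : Γ(B.V.left, ⊤)} (hf : GLinSh.IsInvFn B.lift f) :
    GLinSh.IsInvFn B.lift (comp B n f) := by
  have e1 := gwc_pull (morS_act B) (atl B.atlas) (gatl B) n f
  have e2 := gwc_pull (morS_snd B) (atl B.atlas) (gatl B) n f
  change B.lift.act.left.appTop (gwc (atl B.atlas) n f) = (snd G B.V).left.appTop (gwc (atl B.atlas) n f)
  rw [e1, e2, hf]

theorem isInvSection_comp (n : ℕ) {f : Γ(B.V.left, ⊤)} (hf : GLinSh.IsInvFn B.lift f) :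
    B.IsInvSection n (comp B n f) := ⟨hasWeight_comp B n f, isInvFn_comp B n hf⟩

end Bun

section Iso

/-- a morphism over `X` between affine lines matching coordinates locally is an isomorphism -/
theorem isIso_of_coord {V V' X : Scheme.{u}} {p : V ⟶ X} {p' : V' ⟶ X} [IsAffineHom p] [IsAffineHom p'] (c : V' ⟶ V)
    (hc : c ≫ p = p')
    (H : ∀ x : X, ∃ (W : X.Opens) (y : Γ(V, p ⁻¹ᵁ W)), IsAffineOpen W ∧ x ∈ W ∧ IsCoord p W y ∧
      ∀ (le : p' ⁻¹ᵁ W ≤ c ⁻¹ᵁ (p ⁻¹ᵁ W)), IsCoord p' W (c.appLE (p ⁻¹ᵁ W) (p' ⁻¹ᵁ W) le y)) : IsIso c := by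
  subst hc
  have hca : IsAffineHom c := MorphismProperty.of_postcomp (W := @IsAffineHom) (W' := @IsSeparated) c p
    inferInstance inferInstance
  choose W y hW hxW hy hy' using H
  have hcov : ⨆ x, (p ⁻¹ᵁ (W x)) = ⊤ := by
    rw [eq_top_iff]
    intro v _
    exact Opens.mem_iSup.2 ⟨p v, hxW (p v)⟩
  have key := (IsZariskiLocalAtTarget.iff_of_iSup_eq_top (P := MorphismProperty.isomorphisms Scheme.{u}) (f := c)
    (fun x => p ⁻¹ᵁ (W x)) hcov).2 (by
    intro x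
    have h1 : IsIso (c.app (p ⁻¹ᵁ (W x))) := by
      rw [ConcreteCategory.isIso_iff_bijective]
      have e1 := hy x (W x) (hW x) le_rfl
      have e2 := hy' x le_rfl (W x) (hW x) le_rfl
      rw [rs_self] at e1 e2
      have e3 : ⇑(Polynomial.eval₂RingHom ((c ≫ p).app (W x)).hom (c.appLE (p ⁻¹ᵁ W x) ((c ≫ p) ⁻¹ᵁ W x) le_rfl (y x))) =
          ⇑(c.app (p ⁻¹ᵁ (W x))).hom ∘ ⇑(Polynomial.eval₂RingHom (p.app (W x)).hom (y x)) := by
        funext Q
        have e4 := Polynomial.hom_eval₂ Q (p.app (W x)).hom (c.app (p ⁻¹ᵁ (W x))).hom (y x)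
        refine Eq.trans ?_ e4.symm
        have e5 : c.appLE (p ⁻¹ᵁ W x) ((c ≫ p) ⁻¹ᵁ W x) le_rfl (y x) = c.app (p ⁻¹ᵁ (W x)) (y x) :=
          appLE_self_app c le_rfl (y x)
        rw [e5]
        rfl
      rw [e3] at e2
      exact (Function.Bijective.of_comp_iff _ e1).1 e2
    exact (isIso_morphismRestrict_iff_isIso_app c ((hW x).preimage p)).2 h1)
  exact key

end Iso

section Mor

variable {S : Scheme.{u}} {G X X' : Over S} [GrpObj G] {a : AlgGrp.Action G X} {a' : AlgGrp.Action G X'}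
  {h : X' ⟶ X} {B : GLinSh.LinBun G a} {B' : GLinSh.LinBun G a'} {q : B'.V ⟶ B.V}

theorem morS_of_mor (m : Mor h B B' q) :
    MorS B.π.left B'.π.left h.left q.left B.atlas.chart B'.atlas.chart where
  comm := m.comm_left
  crd U y hy := Crd.of_adm (atl B'.atlas) (adm_of_mem (m.chart U _ y hy))

theorem comp_pull (m : Mor h B B' q) (n : ℕ) (f : Γ(B.V.left, ⊤)) :
    q.left.appTop (comp B n f) = comp B' n (q.left.appTop f) :=
  gwc_pull (morS_of_mor m) (atl B.atlas) (atl B'.atlas) n f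

/-- a morphism of line bundles is cartesian -/
theorem isPullback_of_mor (m : Mor h B B' q) : IsPullback q.left B'.π.left B.π.left h.left := by
  -- compare with the standard pull-back
  let c : B'.V.left ⟶ pullback B.π.left h.left := pullback.lift q.left B'.π.left m.comm_left.symm
  have hc1 : c ≫ pullback.fst _ _ = q.left := pullback.lift_fst _ _ _
  have hc2 : c ≫ pullback.snd _ _ = B'.π.left := pullback.lift_snd _ _ _
  have : IsIso c := by
    have H := IsPullback.of_hasPullback B.π.left h.left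
    have haff : IsAffineHom (pullback.snd B.π.left h.left) := MorphismProperty.of_isPullback H inferInstance
    refine isIso_of_coord (p := pullback.snd B.π.left h.left) (p' := B'.π.left) c hc2 ?_
    intro x
    obtain ⟨U, hxU, y, hy⟩ := B.atlas.cover (h.left x)
    obtain ⟨W, hW, hWU, hxW⟩ := exists_affine_le (X := X'.left) (U := h.left ⁻¹ᵁ U) (x := x) hxU
    have hle : pullback.snd B.π.left h.left ⁻¹ᵁ W ≤ pullback.fst B.π.left h.left ⁻¹ᵁ (B.π.left ⁻¹ᵁ U) :=
      ((pullback.snd B.π.left h.left).preimage_mono hWU).trans (sqle H.w.symm U)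
    refine ⟨W, (pullback.fst B.π.left h.left).appLE (B.π.left ⁻¹ᵁ U) _ hle y, hW, hxW,
      IsCoord.baseChange (B.atlas.coord U y hy : IsCoord B.π.left U y) H W hWU hle, ?_⟩
    intro le
    have h1 := (atl B'.atlas).adm_coord (Adm.restrict (adm_of_mem (m.chart U (sqle m.comm_left U) y hy)) hWU)
    have h2 : c.appLE (pullback.snd B.π.left h.left ⁻¹ᵁ W) (B'.π.left ⁻¹ᵁ W) le
        ((pullback.fst B.π.left h.left).appLE (B.π.left ⁻¹ᵁ U) _ hle y) =
        rs B'.π.left hWU (q.left.appLE (B.π.left ⁻¹ᵁ U) (B'.π.left ⁻¹ᵁ (h.left ⁻¹ᵁ U)) (sqle m.comm_left U) y) := by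
      have l1 : B'.π.left ⁻¹ᵁ W ≤ (c ≫ pullback.fst B.π.left h.left) ⁻¹ᵁ (B.π.left ⁻¹ᵁ U) := le.trans (c.preimage_mono hle)
      have l2 : B'.π.left ⁻¹ᵁ W ≤ q.left ⁻¹ᵁ (B.π.left ⁻¹ᵁ U) := by rw [← hc1]; exact l1
      rw [appLE_appLE c (pullback.fst B.π.left h.left) hle le l1, appLE_hom_congr hc1 l1 l2]
      exact (rsec_appLE _ _ _ _ _).symm
    rw [h2]
    exact h1
  exact IsPullback.of_iso (IsPullback.of_hasPullback B.π.left h.left) (asIso c).symm (Iso.refl _) (Iso.refl _)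
    (Iso.refl _) (by simp [hc1]) (by simp [hc2]) (by simp) (by simp)

end Mor

end K701.Bun
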