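import Groth.Prelude.Def_GLinSh
import Groth.Agent.GIT.K689.ActBasic
import Mathlib.AlgebraicGeometry.Morphisms.ClosedImmersion

/-!
# Closedness of orbits and equivariant closed immersions
-/

set_option autoImplicit false

universe u

open CategoryTheory CategoryTheory.Limits MonoidalCategory CartesianMonoidalCategory MonObj AlgebraicGeometry
  TopologicalSpace Topology

namespace K701.ClOrb

open K689.ActBasic

section Top

variable {Y' Y : Type*} [TopologicalSpace Y'] [TopologicalSpace Y] {φ : Y' → Y}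

theorem isClosed_restrict_image (hφ : IsClosedEmbedding φ) (W : Set Y) (W' : Set Y') (hW : ∀ y, y ∈ W' ↔ φ y ∈ W)
    (R : Set Y') (h : IsClosed ((fun p : W' => (p : Y')) ⁻¹' R)) :
    IsClosed ((fun p : W => (p : Y)) ⁻¹' (φ '' R)) := by
  obtain ⟨C, hC, he⟩ := isClosed_induced_iff.1 h
  refine isClosed_induced_iff.2 ⟨φ '' C, hφ.isClosedMap _ hC, ?_⟩
  ext ⟨y, hy⟩
  constructor
  · rintro ⟨y', hy', e⟩
    subst e
    have h1 : (⟨y', (hW y').2 hy⟩ : W') ∈ (Subtype.val ⁻¹' C : Set W') := hy'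
    rw [he] at h1
    exact ⟨y', h1, rfl⟩
  · rintro ⟨y', hy', e⟩
    subst e
    have h1 : (⟨y', (hW y').2 hy⟩ : W') ∈ ((fun p : W' => (p : Y')) ⁻¹' R) := hy'
    rw [← he] at h1
    exact ⟨y', h1, rfl⟩

theorem isClosed_restrict_of_image (hφ : Continuous φ) (hinj : Function.Injective φ) (W : Set Y) (W' : Set Y')
    (hW : ∀ y, y ∈ W' ↔ φ y ∈ W)
    (R : Set Y') (h : IsClosed ((fun p : W => (p : Y)) ⁻¹' (φ '' R))) :
    IsClosed ((fun p : W' => (p : Y')) ⁻¹' R) := by
  let ψ : W' → W := fun p => ⟨φ p, (hW p).1 p.2⟩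
  have hψ : Continuous ψ := (hφ.comp continuous_subtype_val).subtype_mk _
  have e : ((fun p : W' => (p : Y')) ⁻¹' R) = ψ ⁻¹' ((fun p : W => (p : Y)) ⁻¹' (φ '' R)) := by
    ext ⟨y, hy⟩
    constructor
    · intro h; exact ⟨y, h, rfl⟩
    · rintro ⟨z, hz, e⟩
      have : z = y := hinj e
      subst this
      exact hz
  rw [e]
  exact h.preimage hψ

end Top

variable {S : Scheme.{u}} {G X Xr : Over S} [GrpObj G] {a : AlgGrp.Action G X} {ar : AlgGrp.Action G Xr}

omit [GrpObj G] in
theorem isPullback_whiskerRight (j : Xr ⟶ X) (T : Over S) :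
    IsPullback (fst Xr T).left (j ▷ T).left j.left (fst X T).left := by
  have h : IsPullback (fst Xr T) (j ▷ T) j (fst X T) := by
    refine ⟨⟨by simp⟩, ⟨PullbackCone.IsLimit.mk _ (fun s => lift s.fst (s.snd ≫ snd X T)) ?_ ?_ ?_⟩⟩
    · intro s; simp
    · intro s
      apply CartesianMonoidalCategory.hom_ext
      · simp [s.condition]
      · simp
    · intro s m h1 h2
      apply CartesianMonoidalCategory.hom_ext
      · rw [lift_fst, ← h1]
      · rw [lift_snd, ← h2]; simp
  exact h.map (Over.forget S)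

/-- orbit maps and equivariant morphisms -/
theorem psi_whisker {j : Xr ⟶ X} (hj : ar.act ≫ j = (G ◁ j) ≫ a.act) {T : Over S} (f : T ⟶ Xr) :
    GIT.psi ar f ≫ (j ▷ T) = GIT.psi a (f ≫ j) := by
  apply CartesianMonoidalCategory.hom_ext
  · rw [Category.assoc, whiskerRight_fst, GIT.psi, GIT.psi, lift_fst_assoc, lift_fst, Category.assoc, hj,
      MonoidalCategory.whiskerLeft_comp, Category.assoc]
  · rw [Category.assoc, whiskerRight_snd, GIT.psi, GIT.psi, lift_snd, lift_snd]

theorem range_psi_whisker {j : Xr ⟶ X} (hj : ar.act ≫ j = (G ◁ j) ≫ a.act) {T : Over S} (f : T ⟶ Xr) :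
    Set.range (GIT.psi a (f ≫ j)).left.base = (j ▷ T).left.base '' Set.range (GIT.psi ar f).left.base := by
  rw [← Set.range_comp]
  have h := congrArg (fun φ => φ.left) (psi_whisker hj f)
  have h' : (GIT.psi ar f).left ≫ (j ▷ T).left = (GIT.psi a (f ≫ j)).left := by
    rw [← Over.comp_left]; exact h
  rw [← h']
  rfl

theorem isClosedImmersion_whisker (j : Xr ⟶ X) [IsClosedImmersion j.left] (T : Over S) :
    IsClosedImmersion (j ▷ T).left :=
  MorphismProperty.of_isPullback (isPullback_whiskerRight j T) inferInstance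

theorem closedOrbitsOn_of_closedImmersion {j : Xr ⟶ X} [IsClosedImmersion j.left]
    (hj : ar.act ≫ j = (G ◁ j) ≫ a.act) (U : X.left.Opens) (hU : GLinSh.ClosedOrbitsOn a U) :
    GLinSh.ClosedOrbitsOn ar (j.left ⁻¹ᵁ U) := by
  intro Ω _ _ T e f hf
  have := isClosedImmersion_whisker j T
  have h1 := hU Ω T e (f ≫ j) (by
    rintro _ ⟨t, rfl⟩
    exact hf ⟨t, rfl⟩)
  rw [range_psi_whisker hj] at h1
  refine isClosed_restrict_of_image (j ▷ T).left.continuous (j ▷ T).left.isEmbedding.injective _ _ ?_ _ h1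
  intro y
  have h2 : (fst X T).left ((j ▷ T).left y) = j.left ((fst Xr T).left y) := by
    rw [← Scheme.Hom.comp_apply, ← Scheme.Hom.comp_apply, (isPullback_whiskerRight j T).w]
  change (fst Xr T).left y ∈ j.left ⁻¹ᵁ U ↔ (fst X T).left ((j ▷ T).left y) ∈ U
  rw [h2]
  rfl

/-- a morphism from a reduced scheme factors through a surjective closed immersion -/
theorem exists_factor {j : Xr ⟶ X} [IsClosedImmersion j.left] (hs : Function.Surjective j.left) {T : Over S}
    [IsReduced T.left] (f : T ⟶ X) : ∃ g : T ⟶ Xr, g ≫ j = f := by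
  have hs' : Surjective j.left := ⟨hs⟩
  have h1 : IsClosedImmersion (pullback.fst f.left j.left) := inferInstance
  have h2 : Surjective (pullback.fst f.left j.left) := inferInstance
  have h3 : IsIso (pullback.fst f.left j.left) := isIso_of_isClosedImmersion_of_surjective _
  let g₀ : T.left ⟶ Xr.left := inv (pullback.fst f.left j.left) ≫ pullback.snd f.left j.left
  have hg₀ : g₀ ≫ j.left = f.left := by
    simp only [g₀, Category.assoc]
    rw [← pullback.condition, IsIso.inv_hom_id_assoc]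
  refine ⟨Over.homMk g₀ (by rw [← Over.w j, ← Category.assoc, hg₀, Over.w]), ?_⟩
  ext1
  exact hg₀

theorem closedOrbitsOn_of_red {j : Xr ⟶ X} [IsClosedImmersion j.left] (hs : Function.Surjective j.left)
    (hj : ar.act ≫ j = (G ◁ j) ≫ a.act) (U : X.left.Opens) (hU : GLinSh.ClosedOrbitsOn ar (j.left ⁻¹ᵁ U)) :
    GLinSh.ClosedOrbitsOn a U := by
  intro Ω _ _ T e f hf
  have := isClosedImmersion_whisker j T
  have hred : IsReduced T.left := isReduced_of_isOpenImmersion e.hom
  obtain ⟨g, rfl⟩ := exists_factor hs f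
  have h1 := hU Ω T e g (by
    rintro _ ⟨t, rfl⟩
    exact hf ⟨t, rfl⟩)
  rw [range_psi_whisker hj]
  refine isClosed_restrict_image (j ▷ T).left.isClosedEmbedding _ _ ?_ _ h1
  intro y
  have h2 : (fst X T).left ((j ▷ T).left y) = j.left ((fst Xr T).left y) := by
    rw [← Scheme.Hom.comp_apply, ← Scheme.Hom.comp_apply, (isPullback_whiskerRight j T).w]
  change (fst Xr T).left y ∈ j.left ⁻¹ᵁ U ↔ (fst X T).left ((j ▷ T).left y) ∈ U
  rw [h2]
  rfl

end K701.ClOrb
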