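import Groth.Agent.GIT.K701.MorE
import Groth.Agent.SGA3.K206.Comm

/-!
# Translations by points of the base and cosets of an open subgroup
-/

set_option autoImplicit false
set_option linter.unusedSectionVars false

universe u

open CategoryTheory CategoryTheory.Limits MonoidalCategory CartesianMonoidalCategory MonObj GrpObj AlgebraicGeometry
  TopologicalSpace Opposite

namespace K701.Coset

open K689.ActBasic K689.PullBun K689.Compat K689.LinBunBasic K689.Weight K689.SchGlue K689.Avoid K701.WtComp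
  K701.Bun K701.MorE

section Tl

variable {S : Scheme.{u}} {G₀ G X T : Over S} [GrpObj G₀] [GrpObj G]

/-- translation by a `T`-valued point of the group -/
noncomputable def tl (a : AlgGrp.Action G X) (τ : X ⟶ T) (h : T ⟶ G) : X ⟶ X := lift (τ ≫ h) (𝟙 X) ≫ a.act

theorem comp_tl (a : AlgGrp.Action G X) (τ : X ⟶ T) (h : T ⟶ G) {Z : Over S} (x : Z ⟶ X) :
    x ≫ tl a τ h = lift (x ≫ τ ≫ h) x ≫ a.act := by
  rw [tl, comp_lift_assoc, Category.comp_id]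

variable {a : AlgGrp.Action G X} {τ : X ⟶ T}

theorem act_tau (hτ : a.act ≫ τ = snd G X ≫ τ) {Z : Over S} (g : Z ⟶ G) (x : Z ⟶ X) :
    (lift g x ≫ a.act) ≫ τ = x ≫ τ := by
  rw [Category.assoc, hτ, lift_snd_assoc]

theorem tl_tau (hτ : a.act ≫ τ = snd G X ≫ τ) (h : T ⟶ G) : tl a τ h ≫ τ = τ := by
  rw [tl, act_tau hτ, Category.id_comp]

theorem tl_one : tl a τ 1 = 𝟙 X := by
  rw [tl, MonObj.comp_one]
  exact lift_one_act a (𝟙 X)

theorem tl_mul (hτ : a.act ≫ τ = snd G X ≫ τ) (g h : T ⟶ G) : tl a τ h ≫ tl a τ g = tl a τ (g * h) := by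
  rw [comp_tl, ← Category.assoc, tl_tau hτ, tl, ← lift_mul_act, ← MonObj.comp_mul, ← tl]

theorem tl_inv (hτ : a.act ≫ τ = snd G X ≫ τ) (g : T ⟶ G) : tl a τ g ≫ tl a τ g⁻¹ = 𝟙 X := by
  rw [tl_mul hτ, inv_mul_cancel, tl_one]

theorem tl_inv' (hτ : a.act ≫ τ = snd G X ≫ τ) (g : T ⟶ G) : tl a τ g⁻¹ ≫ tl a τ g = 𝟙 X := by
  rw [tl_mul hτ, mul_inv_cancel, tl_one]

theorem isIso_tl (hτ : a.act ≫ τ = snd G X ≫ τ) (g : T ⟶ G) : IsIso (tl a τ g) :=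
  ⟨tl a τ g⁻¹, tl_inv hτ g, tl_inv' hτ g⟩

theorem isIso_tl_left (hτ : a.act ≫ τ = snd G X ≫ τ) (g : T ⟶ G) : IsIso (tl a τ g).left := by
  have := isIso_tl hτ g
  exact inferInstanceAs (IsIso ((Over.forget S).map (tl a τ g)))

/-- `(g₀, y) ↦ (g₀ h(y), y)` -/
noncomputable def rho (i : G₀ ⟶ G) {Y : Over S} (τ : Y ⟶ T) (h : T ⟶ G) : G₀ ⊗ Y ⟶ G ⊗ Y :=
  lift ((fst G₀ Y ≫ i) * (snd G₀ Y ≫ τ ≫ h)) (snd G₀ Y)

/-- `(g, y) ↦ g h(y)⁻¹` -/
noncomputable def kap {Y : Over S} (τ : Y ⟶ T) (h : T ⟶ G) : G ⊗ Y ⟶ G := fst G Y * (snd G Y ≫ τ ≫ h)⁻¹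

theorem comp_kap {Y : Over S} (τ : Y ⟶ T) (h : T ⟶ G) {Z : Over S} (z : Z ⟶ G ⊗ Y) :
    z ≫ kap τ h = (z ≫ fst G Y) * (z ≫ snd G Y ≫ τ ≫ h)⁻¹ := by
  rw [kap, MonObj.comp_mul, GrpObj.comp_inv]

theorem isPullback_rho (i : G₀ ⟶ G) {Y : Over S} (τ : Y ⟶ T) (h : T ⟶ G) :
    IsPullback (rho i τ h) (fst G₀ Y) (kap τ h) i := by
  have hw : rho i τ h ≫ kap τ h = fst G₀ Y ≫ i := by
    rw [kap, MonObj.comp_mul, GrpObj.comp_inv, rho, lift_fst, lift_snd_assoc, mul_inv_cancel_right]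
  refine ⟨⟨hw⟩, ⟨PullbackCone.IsLimit.mk _ (fun s => lift s.snd (s.fst ≫ snd G Y)) ?_ ?_ ?_⟩⟩
  · intro s
    have hc : s.fst ≫ kap τ h = s.snd ≫ i := s.condition
    have hc2 : (s.fst ≫ fst G Y) * (s.fst ≫ snd G Y ≫ τ ≫ h)⁻¹ = s.snd ≫ i :=
      (comp_kap τ h s.fst).symm.trans hc
    rw [mul_inv_eq_iff_eq_mul] at hc2
    apply CartesianMonoidalCategory.hom_ext
    · rw [Category.assoc, rho, lift_fst, MonObj.comp_mul, lift_fst_assoc, lift_snd_assoc, hc2, Category.assoc]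
    · rw [Category.assoc, rho, lift_snd, lift_snd]
  · intro s
    rw [lift_fst]
  · intro s m h1 h2
    apply CartesianMonoidalCategory.hom_ext
    · rw [lift_fst, h2]
    · rw [lift_snd, ← h1, Category.assoc, rho, lift_snd]

theorem isOpenImmersion_rho (i : G₀ ⟶ G) [IsOpenImmersion i.left] {Y : Over S} (τ : Y ⟶ T) (h : T ⟶ G) :
    IsOpenImmersion (rho i τ h).left := by
  have H : IsPullback (rho i τ h).left (fst G₀ Y).left (kap τ h).left i.left :=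
    (isPullback_rho i τ h).map (Over.forget S)
  exact MorphismProperty.of_isPullback (P := @IsOpenImmersion) H.flip inferInstance

theorem mem_range_rho (i : G₀ ⟶ G) {Y : Over S} (τ : Y ⟶ T) (h : T ⟶ G) (w : (G ⊗ Y).left) :
    w ∈ Set.range (rho i τ h).left ↔ (kap τ h).left w ∈ Set.range i.left := by
  have H : IsPullback (rho i τ h).left (fst G₀ Y).left (kap τ h).left i.left :=
    (isPullback_rho i τ h).map (Over.forget S)
  constructor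
  · rintro ⟨z, rfl⟩
    refine ⟨(fst G₀ Y).left z, ?_⟩
    rw [← Scheme.Hom.comp_apply, ← Scheme.Hom.comp_apply, H.w]
  · rintro ⟨g, hg⟩
    obtain ⟨z, hz, -⟩ := exists_point H w g hg.symm
    exact ⟨z, hz⟩

theorem kap_whisker {Y Y' : Over S} (τ : Y ⟶ T) (h : T ⟶ G) (u : Y' ⟶ Y) :
    (G ◁ u) ≫ kap τ h = kap (u ≫ τ) h := by
  rw [kap, MonObj.comp_mul, GrpObj.comp_inv, whiskerLeft_fst, whiskerLeft_snd_assoc, kap, Category.assoc]

/-- the translates of an open subgroup by finitely many points cover -/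
def Covers (i : G₀ ⟶ G) {J : Type*} (h : J → (T ⟶ G)) : Prop :=
  ∀ w : (G ⊗ T).left, ∃ j, (kap (𝟙 T) (h j)).left w ∈ Set.range i.left

theorem Covers.exists {i : G₀ ⟶ G} {J : Type*} {h : J → (T ⟶ G)} (hc : Covers i h) {Y : Over S} (τ : Y ⟶ T)
    (w : (G ⊗ Y).left) : ∃ j, w ∈ Set.range (rho i τ (h j)).left := by
  obtain ⟨j, hj⟩ := hc ((G ◁ τ).left w)
  refine ⟨j, (mem_range_rho i τ (h j) w).2 ?_⟩
  rw [← Scheme.Hom.comp_apply, ← Over.comp_left, kap_whisker, Category.comp_id] at hj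
  exact hj

theorem Covers.factor {i : G₀ ⟶ G} [IsOpenImmersion i.left] {J : Type*} {h : J → (T ⟶ G)} (hc : Covers i h)
    [Subsingleton T.left] [Nonempty T.left] (g : T ⟶ G) : ∃ (j : J) (g₀ : T ⟶ G₀), g = (g₀ ≫ i) * h j := by
  obtain ⟨t⟩ := ‹Nonempty T.left›
  obtain ⟨j, hj⟩ := hc ((lift g (𝟙 T)).left t)
  refine ⟨j, ?_⟩
  rw [← Scheme.Hom.comp_apply, ← Over.comp_left, kap, MonObj.comp_mul, GrpObj.comp_inv, lift_fst, lift_snd_assoc,
    Category.id_comp, Category.id_comp] at hj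
  obtain ⟨g₀, hg₀⟩ := K206.Comm.exists_lift_of_open i (g * (h j)⁻¹) (by
    rintro _ ⟨t', rfl⟩
    rw [Subsingleton.elim t' t]
    exact hj)
  exact ⟨g₀, by rw [hg₀, inv_mul_cancel_right]⟩

end Tl

section Inv

variable {S : Scheme.{u}} {G₀ G X T : Over S} [GrpObj G₀] [GrpObj G] {i : G₀ ⟶ G} {a : AlgGrp.Action G X}
  {a₀ : AlgGrp.Action G₀ X} {τ : X ⟶ T}

theorem lift_act₀ (ha₀ : a₀.act = (i ▷ X) ≫ a.act) {Z : Over S} (g₀ : Z ⟶ G₀) (x : Z ⟶ X) :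
    lift g₀ x ≫ a₀.act = lift (g₀ ≫ i) x ≫ a.act := by
  rw [ha₀, lift_whiskerRight_assoc]

theorem act₀_tl (ha₀ : a₀.act = (i ▷ X) ≫ a.act) (hN : AlgGrp.IsNormalHom i) (hτ : a.act ≫ τ = snd G X ≫ τ)
    (h : T ⟶ G) {Z : Over S} (g₀ : Z ⟶ G₀) (x : Z ⟶ X) :
    ∃ g₀' : Z ⟶ G₀, g₀' ≫ i = (x ≫ τ ≫ h) * (g₀ ≫ i) * (x ≫ τ ≫ h)⁻¹ ∧
      (lift g₀ x ≫ a₀.act) ≫ tl a τ h = lift g₀' (x ≫ tl a τ h) ≫ a₀.act := by
  obtain ⟨n, hn⟩ := hN Z (x ≫ τ ≫ h) g₀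
  refine ⟨n, hn.symm, ?_⟩
  rw [comp_tl, lift_act₀ ha₀, ← Category.assoc, act_tau hτ, ← lift_mul_act, Category.assoc, lift_act₀ ha₀, ← hn, comp_tl,
    ← lift_mul_act, inv_mul_cancel_right]

theorem rho_act (ha₀ : a₀.act = (i ▷ X) ≫ a.act) (h : T ⟶ G) :
    rho i τ h ≫ a.act = lift (fst G₀ X) (snd G₀ X ≫ tl a τ h) ≫ a₀.act := by
  rw [rho, lift_mul_act, lift_act₀ ha₀, comp_tl]

theorem tl_coset (ha₀ : a₀.act = (i ▷ X) ≫ a.act) (g₀ : T ⟶ G₀) (h : T ⟶ G) :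
    tl a τ ((g₀ ≫ i) * h) = lift (τ ≫ g₀) (tl a τ h) ≫ a₀.act := by
  rw [tl, MonObj.comp_mul, lift_mul_act, lift_act₀ ha₀, Category.assoc, ← tl]

/-- pull-back of functions along two morphisms with the same target -/
theorem appTop_congr {Y Z : Over S} {f g : Y ⟶ Z} (e : f = g) (s : Γ(Z.left, ⊤)) :
    f.left.appTop s = g.left.appTop s := by rw [e]

theorem comp_appTop'' {X Y Z : Over S} (f : X ⟶ Y) (g : Y ⟶ Z) (s : Γ(Z.left, ⊤)) :
    (f ≫ g).left.appTop s = f.left.appTop (g.left.appTop s) := by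
  rw [Over.comp_left, Scheme.Hom.comp_appTop]
  rfl

theorem isInvFn_apply {f : Γ(X.left, ⊤)} (hf : GLinSh.IsInvFn a f) {Z : Over S} (g : Z ⟶ G) (x : Z ⟶ X) :
    (lift g x ≫ a.act).left.appTop f = x.left.appTop f := by
  have e : lift g x ≫ snd G X = x := lift_snd _ _
  rw [comp_appTop'']
  have h1 : a.act.left.appTop f = (snd G X).left.appTop f := hf
  rw [h1, ← comp_appTop'', e]

theorem isInvFn_pl (ha₀ : a₀.act = (i ▷ X) ≫ a.act) (hN : AlgGrp.IsNormalHom i) (hτ : a.act ≫ τ = snd G X ≫ τ)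
    (h : T ⟶ G) {f : Γ(X.left, ⊤)} (hf : GLinSh.IsInvFn a₀ f) :
    GLinSh.IsInvFn a₀ ((tl a τ h).left.appTop f) := by
  obtain ⟨g₀', -, e⟩ := act₀_tl ha₀ hN hτ h (fst G₀ X) (snd G₀ X)
  have e1 : lift (fst G₀ X) (snd G₀ X) = 𝟙 _ := by
    apply CartesianMonoidalCategory.hom_ext <;> simp
  rw [e1, Category.id_comp] at e
  change a₀.act.left.appTop ((tl a τ h).left.appTop f) = (snd G₀ X).left.appTop ((tl a τ h).left.appTop f)
  rw [← comp_appTop'', ← comp_appTop'', e, isInvFn_apply hf]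

theorem pl_coset (ha₀ : a₀.act = (i ▷ X) ≫ a.act) (g₀ : T ⟶ G₀) (h : T ⟶ G) {f : Γ(X.left, ⊤)}
    (hf : GLinSh.IsInvFn a₀ f) : (tl a τ ((g₀ ≫ i) * h)).left.appTop f = (tl a τ h).left.appTop f := by
  rw [tl_coset ha₀, isInvFn_apply hf]

theorem pl_mul (hτ : a.act ≫ τ = snd G X ≫ τ) (g h : T ⟶ G) (f : Γ(X.left, ⊤)) :
    (tl a τ h).left.appTop ((tl a τ g).left.appTop f) = (tl a τ (g * h)).left.appTop f := by
  rw [← comp_appTop'', tl_mul hτ]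

theorem pl_one (f : Γ(X.left, ⊤)) : (tl a τ 1).left.appTop f = f := by
  rw [tl_one, Over.id_left, Scheme.Hom.id_appTop]
  rfl

theorem rsec_eq_of_appTop {Y Z : Scheme.{u}} (ρ : Y ⟶ Z) [IsOpenImmersion ρ] {s t : Γ(Z, ⊤)}
    (h : ρ.appTop s = ρ.appTop t) :
    rsec (le_top : ρ.opensRange ≤ ⊤) s = rsec (le_top : ρ.opensRange ≤ ⊤) t := by
  have e : ρ = ρ.isoOpensRange.hom ≫ ρ.opensRange.ι := ρ.isoOpensRange_hom_ι.symm
  have h1 : ρ.opensRange.ι.appTop s = ρ.opensRange.ι.appTop t := by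
    have h2 : ρ.isoOpensRange.hom.appTop (ρ.opensRange.ι.appTop s) =
        ρ.isoOpensRange.hom.appTop (ρ.opensRange.ι.appTop t) := by
      have h3 : ∀ s, ρ.appTop s = ρ.isoOpensRange.hom.appTop (ρ.opensRange.ι.appTop s) := by
        intro s
        rw [← CommRingCat.comp_apply, ← Scheme.Hom.comp_appTop, ← e]
      rw [← h3, ← h3, h]
    have : IsIso ρ.isoOpensRange.hom.appTop := inferInstanceAs (IsIso (ρ.isoOpensRange.hom.app ⊤))
    exact (ConcreteCategory.bijective_of_isIso ρ.isoOpensRange.hom.appTop).1 h2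
  rw [← topIso_ι_appTop, ← topIso_ι_appTop, h1]

/-- a function invariant under the subgroup and under representatives of the cosets is invariant -/
theorem isInvFn_of_pl [IsOpenImmersion i.left] (ha₀ : a₀.act = (i ▷ X) ≫ a.act) {J : Type*} {h : J → (T ⟶ G)}
    (hc : Covers i h) {f : Γ(X.left, ⊤)} (hf : GLinSh.IsInvFn a₀ f)
    (hp : ∀ j, (tl a τ (h j)).left.appTop f = f) : GLinSh.IsInvFn a f := by
  change a.act.left.appTop f = (snd G X).left.appTop f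
  apply section_ext
  intro w _
  obtain ⟨j, hj⟩ := hc.exists τ w
  have := isOpenImmersion_rho i τ (h j)
  refine ⟨(rho i τ (h j)).left.opensRange, le_top, hj, ?_⟩
  apply rsec_eq_of_appTop
  rw [← comp_appTop'', ← comp_appTop'', rho_act ha₀, isInvFn_apply hf, comp_appTop'', hp, rho, lift_snd]

end Inv

end K701.Coset
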