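import Groth.Agent.Agf.H612.GalSub
import Mathlib.FieldTheory.IsAlgClosed.Classification
import Mathlib.FieldTheory.AlgebraicClosure
import Mathlib.RingTheory.AlgebraicIndependent.TranscendenceBasis

/-!
# The fixed field of `Aut (K/k)` for `K` algebraically closed and `k` perfect
-/

set_option autoImplicit false

open MvPolynomial

namespace K701.FixField

/-- automorphisms of the polynomial ring on a transcendence basis extend -/
theorem exists_ext {R Ω ι : Type*} [Field R] [Field Ω] [IsAlgClosed Ω] [Algebra R Ω] {v : ι → Ω}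
    (hv : IsTranscendenceBasis R v) (e : MvPolynomial ι R ≃+* MvPolynomial ι R) :
    ∃ σ : Ω ≃+* Ω, ∀ p : MvPolynomial ι R, σ (aeval v p) = aeval v (e p) := by
  letI := IsAlgClosed.isAlgClosure_of_transcendence_basis v hv
  let A := Algebra.adjoin R (Set.range v)
  let e' : A ≃+* A := (hv.1.aevalEquiv.symm.toRingEquiv.trans e).trans hv.1.aevalEquiv.toRingEquiv
  refine ⟨IsAlgClosure.equivOfEquiv Ω Ω e', fun p => ?_⟩
  have h1 : algebraMap A Ω (hv.1.aevalEquiv p) = aeval v p := by
    exact hv.1.algebraMap_aevalEquiv p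
  have h2 : e' (hv.1.aevalEquiv p) = hv.1.aevalEquiv (e p) := by
    change hv.1.aevalEquiv (e (hv.1.aevalEquiv.symm (hv.1.aevalEquiv p))) = _
    rw [AlgEquiv.symm_apply_apply]
  rw [← h1, IsAlgClosure.equivOfEquiv_algebraMap, h2]
  exact hv.1.algebraMap_aevalEquiv (e p)

theorem exists_ext_alg (k L Ω : Type*) [Field k] [Field L] [Field Ω] [IsAlgClosed Ω] [Algebra k L] [Algebra L Ω]
    [Algebra k Ω] [IsScalarTower k L Ω] (σ : L ≃ₐ[k] L) :
    ∃ τ : Ω ≃ₐ[k] Ω, ∀ l : L, τ (algebraMap L Ω l) = algebraMap L Ω (σ l) := by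
  obtain ⟨ι, v, hv⟩ := exists_isTranscendenceBasis' L Ω
  obtain ⟨τ, hτ⟩ := exists_ext hv (MvPolynomial.mapEquiv ι σ.toRingEquiv)
  have key : ∀ l : L, τ (algebraMap L Ω l) = algebraMap L Ω (σ l) := by
    intro l
    have := hτ (C l)
    simpa using this
  refine ⟨AlgEquiv.ofRingEquiv (f := τ) (fun c => ?_), key⟩
  rw [IsScalarTower.algebraMap_apply k L Ω, key, AlgEquiv.commutes]

/-- `X_i ↦ X_i + 1` for one `i` -/
noncomputable def translate {ι : Type*} [DecidableEq ι] (R : Type*) [CommRing R] (i : ι) :
    MvPolynomial ι R ≃ₐ[R] MvPolynomial ι R :=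
  AlgEquiv.ofAlgHom (aeval fun j => if j = i then X j + 1 else X j) (aeval fun j => if j = i then X j - 1 else X j)
    (by
      ext j
      by_cases h : j = i
      · simp [h]
      · simp [h])
    (by
      ext j
      by_cases h : j = i
      · simp [h]
      · simp [h])

theorem exists_move (k Ω : Type*) [Field k] [Field Ω] [IsAlgClosed Ω] [Algebra k Ω] (c : Ω)
    (hc : Transcendental k c) : ∃ τ : Ω ≃ₐ[k] Ω, τ c ≠ c := by
  classical
  have hs : AlgebraicIndepOn k id ({c} : Set Ω) := by
    have : AlgebraicIndependent k (fun x : ({c} : Set Ω) => (x : Ω)) := by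
      rw [algebraicIndependent_unique_type_iff]
      exact hc
    exact this
  obtain ⟨t, hct, ht⟩ := exists_isTranscendenceBasis_superset hs
  let i : t := ⟨c, hct rfl⟩
  obtain ⟨τ, hτ⟩ := exists_ext ht (translate k i).toRingEquiv
  refine ⟨AlgEquiv.ofRingEquiv (f := τ) (fun a => ?_), ?_⟩
  · have := hτ (C a)
    have h2 : (translate k i).toRingEquiv (C a) = C a := (translate k i).commutes a
    rw [h2] at this
    simpa using this
  · have := hτ (X i)
    have h2 : (translate k i).toRingEquiv (X i) = X i + 1 := by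
      change (translate k i) (X i) = _
      simp [translate]
    rw [h2, map_add, aeval_X, map_one] at this
    change τ c ≠ c
    intro h
    have h3 : τ c = c + 1 := this
    rw [h] at h3
    exact one_ne_zero (left_eq_add.1 h3)

/-- the fixed field of `Aut (K/k)` -/
theorem mem_range_of_fixed (k K : Type*) [Field k] [Field K] [Algebra k K] [PerfectField k]
    [IsAlgClosed K] (c : K) (h : ∀ σ : K ≃ₐ[k] K, σ c = c) : c ∈ (algebraMap k K).range := by
  by_cases hc : IsAlgebraic k c
  · let L := algebraicClosure k K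
    let c' : L := ⟨c, mem_algebraicClosure_iff.2 hc⟩
    have hL : IsAlgClosed L := (inferInstance : IsAlgClosure k L).isAlgClosed
    have h1 : c' ∈ (algebraMap k L).range := by
      apply Groth.Agent.Agf.H612.GalSub.mem_range_of_fixed k L
      intro σ
      obtain ⟨τ, hτ⟩ := exists_ext_alg k L K σ
      apply Subtype.ext
      have h2 := hτ c'
      have h3 : τ c = c := h τ
      change τ c = _ at h2
      rw [h3] at h2
      exact h2.symm
    obtain ⟨a, ha⟩ := h1
    exact ⟨a, congrArg Subtype.val ha⟩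
  · exfalso
    obtain ⟨τ, hτ⟩ := exists_move k K c hc
    exact hτ (h τ)

end K701.FixField
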