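import Groth.Agent.GIT.K701.MorE
import Groth.Agent.GIT.K686.Haar
import Groth.Agent.GIT.K686.BcAct
import Groth.Agent.GIT.K701.ActT
import Groth.Agent.GIT.K701.FixField
import Groth.Agent.Sga3C.FlatGeneric
import Groth.Agent.S0082
import Groth.Agent.Pi1C.PuncturedSections2

/-!
# Descent of good invariant sections along an extension of the base field
-/

set_option autoImplicit false

universe u

open CategoryTheory CategoryTheory.Limits MonoidalCategory CartesianMonoidalCategory MonObj GrpObj AlgebraicGeometry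
  TopologicalSpace Opposite TensorProduct

namespace K701.FieldDesc

open K689.PullBun K689.Compat K689.LinBunBasic K689.ActBasic K689.Avoid K701.WtComp K701.Bun K701.MorE K701.ActT
  K701.ClOrb

section Lift

variable {S : Scheme.{u}} {G X X' X'' : Over S} [GrpObj G] {a : AlgGrp.Action G X} {a' : AlgGrp.Action G X'}
  {a'' : AlgGrp.Action G X''} {h : X' ⟶ X} {h'' : X'' ⟶ X} {B : GLinSh.LinBun G a} {B' : GLinSh.LinBun G a'}
  {B'' : GLinSh.LinBun G a''} {q : B'.V ⟶ B.V} {q'' : B''.V ⟶ B.V}

/-- a morphism of bases lifts to the total spaces -/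
theorem exists_lift (m' : EMor h B B' q) (m'' : EMor h'' B B'' q'') (g : X'' ⟶ X') (hg : g ≫ h = h'')
    (hga : a''.act ≫ g = (G ◁ g) ≫ a'.act) :
    ∃ θ : B''.V ⟶ B'.V, EMor g B' B'' θ ∧ θ ≫ q = q'' ∧ θ ≫ B'.π = B''.π ≫ g := by
  have hpb := m'.isPullback
  have hpb' : IsPullback q B'.π B.π h := K686.isPullback_over hpb
  let θ := hpb'.lift q'' (B''.π ≫ g) (by rw [Category.assoc, hg, m''.comm])
  have h1 : θ ≫ q = q'' := hpb'.lift_fst _ _ _
  have h2 : θ ≫ B'.π = B''.π ≫ g := hpb'.lift_snd _ _ _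
  refine ⟨θ, EMor.of_comp m' m'' θ g ?_ h2.symm hg h1, h1, h2⟩
  apply hpb'.hom_ext
  · rw [Category.assoc, h1, m''.lift, Category.assoc, m'.lift, ← MonoidalCategory.whiskerLeft_comp_assoc, h1]
  · rw [Category.assoc, h2, ← Category.assoc, B''.lift_π, Category.assoc, hga, Category.assoc, B'.lift_π,
      ← MonoidalCategory.whiskerLeft_comp_assoc, ← MonoidalCategory.whiskerLeft_comp_assoc, h2]

end Lift

section Vanish

variable {S : Scheme.{u}} {G X : Over S} [GrpObj G] {a : AlgGrp.Action G X} {B : GLinSh.LinBun G a}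

/-- `x` lies outside of `X_f` -/
theorem notMem_nonvanishing_add {n : ℕ} {f g : Γ(B.V.left, ⊤)} (hf : GLinSh.HasWeight B.atlas.chart n f)
    (hg : GLinSh.HasWeight B.atlas.chart n g) {x : X.left} (hx : x ∉ GLinSh.nonvanishing B.π f)
    (hx' : x ∉ GLinSh.nonvanishing B.π g) : x ∉ GLinSh.nonvanishing B.π (f + g) := by
  intro hxs
  have hneg : GLinSh.HasWeight B.atlas.chart n (-f) := by
    have := hf
    rw [hasWeight_iff] at *
    have e : tt B.π.left (-f) = - tt B.π.left f := map_neg _ _
    rw [e]; exact this.neg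
  have hxf' : x ∉ GLinSh.nonvanishing B.π (-f) := by
    have e : B.V.left.basicOpen (-f) = B.V.left.basicOpen f := by
      have e1 : -f = (-1) * f := by ring
      rw [e1, Scheme.basicOpen_mul, B.V.left.basicOpen_of_isUnit (by simp)]
      simp
    rw [GLinSh.nonvanishing, e]
    exact hx
  have := mem_nonvanishing_add (weight_add B hf hg) hneg (x := x) hxs hxf'
  rw [add_neg_cancel_comm] at this
  exact hx' this

theorem nonvanishing_mul_subset (c f : Γ(B.V.left, ⊤)) :
    GLinSh.nonvanishing B.π (c * f) ⊆ GLinSh.nonvanishing B.π f := by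
  apply Set.image_mono
  rw [Scheme.basicOpen_mul]
  exact fun x hx => hx.2

theorem good_zero' {Q : Prop} {n : ℕ} (hn : n ≠ 0) : Good B Q n 0 := by
  refine ⟨invSection_zero n, hn, ⊥, ?_, isAffineOpen_bot _, ?_⟩
  · rw [nonvanishing_zero]; rfl
  · intro _ Ω _ _ T e f hf
    exfalso
    have : Nonempty T.left := ⟨e.inv (IsLocalRing.closedPoint Ω)⟩
    obtain ⟨t⟩ := this
    exact hf ⟨t, rfl⟩

end Vanish

variable {k : Type u} [Field k] {G X T : Over (Spec (CommRingCat.of k))} [GrpObj G] {a : AlgGrp.Action G X}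
  {a' : AlgGrp.Action G (X ⊗ T)} {B : GLinSh.LinBun G a} {B' : GLinSh.LinBun G a'} {q : B'.V ⟶ B.V}

theorem isPullback_T (m : EMor (fst X T) B B' q) :
    IsPullback q.left (B'.π ≫ snd X T).left B.V.hom T.hom := by
  have h1 := m.isPullback
  have h2 : IsPullback (fst X T).left (snd X T).left X.hom T.hom := IsPullback.of_hasPullback X.hom T.hom
  have h3 := h1.paste_vert h2.flip.flip
  have e1 : B.π.left ≫ X.hom = B.V.hom := Over.w B.π
  have e2 : B'.π.left ≫ (snd X T).left = (B'.π ≫ snd X T).left := by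
    rw [Over.comp_left]
  rw [e1, e2] at h3
  exact h3

/-- good sections descend -/
theorem good_descend (m : EMor (fst X T) B B' q) (ha : IsBc a a') [IsSeparated T.hom] [Nonempty T.left]
    [IsAffine T.left] {Q : Prop} {n : ℕ} {v : Γ(B.V.left, ⊤)} (hv : Good B' Q n (q.left.appTop v)) :
    Good B Q n v := by
  have hsub : Subsingleton ↥(Spec (CommRingCat.of k)) := inferInstanceAs (Subsingleton (PrimeSpectrum k))
  have hT1 : Flat T.hom := inferInstance
  have hT2 : Surjective T.hom := ⟨fun y => by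
    obtain ⟨t⟩ := ‹Nonempty T.left›
    exact ⟨t, Subsingleton.elim _ _⟩⟩
  have hT3 : QuasiCompact T.hom := inferInstance
  have hpb := isPullback_T m
  have hq1 : Flat q.left := MorphismProperty.of_isPullback hpb.flip hT1
  have hq2 : Surjective q.left := MorphismProperty.of_isPullback hpb.flip hT2
  have HG : IsPullback (snd G B'.V).left (G ◁ q).left q.left (snd G B.V).left := isPullback_snd_left (G := G) q
  have hG1 : Flat (G ◁ q).left := MorphismProperty.of_isPullback HG hq1
  have hG2 : Surjective (G ◁ q).left := MorphismProperty.of_isPullback HG hq2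
  obtain ⟨⟨h1, h2⟩, hn, U', hU', hUa', hUc'⟩ := hv
  have hw : GLinSh.HasWeight B.atlas.chart n v := by
    rw [hasWeight_iff_comp]
    apply Groth.Agent.Sga3C.FlatGeneric.app_injective_of_flat_surjective q.left ⊤
    change q.left.appTop (comp B n v) = q.left.appTop v
    rw [m.comp_pull]
    exact comp_of_hasWeight B' h1
  have hi : GLinSh.IsInvFn B.lift v := by
    apply Groth.Agent.Sga3C.FlatGeneric.app_injective_of_flat_surjective (G ◁ q).left ⊤
    change (G ◁ q).left.appTop (B.lift.act.left.appTop v) = (G ◁ q).left.appTop ((snd G B.V).left.appTop v)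
    rw [← K686.Haar.comp_appTop', ← K686.Haar.comp_appTop', ← m.lift, whiskerLeft_snd, K686.Haar.comp_appTop',
      K686.Haar.comp_appTop']
    exact h2
  let U : X.left.Opens := ⟨GLinSh.nonvanishing B.π v, isOpen_nonvanishing hw⟩
  have hUU : (fst X T).left ⁻¹ᵁ U = U' := by
    ext x
    have := m.nonvanishing hw
    rw [← hU'] at this
    exact (Set.ext_iff.1 this x).symm
  refine ⟨⟨hw, hi⟩, hn, U, rfl, ?_, fun hq => ?_⟩
  · -- affineness descends
    have hpU : IsPullback ((fst X T).left ∣_ U) ((fst X T).left ⁻¹ᵁ U).ι U.ι (fst X T).left :=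
      isPullback_morphismRestrict (fst X T).left U
    have h3 : IsPullback (fst X T).left (snd X T).left X.hom T.hom := IsPullback.of_hasPullback X.hom T.hom
    have h4 := hpU.paste_vert h3
    have h5 : IsAffineHom (((fst X T).left ⁻¹ᵁ U).ι ≫ (snd X T).left) := by
      have : IsAffine ((fst X T).left ⁻¹ᵁ U).toScheme := by rw [hUU]; exact hUa'
      infer_instance
    have h6 : IsAffineHom (U.ι ≫ X.hom) :=
      (Groth.Agent.S0082.result.{u}).of_isPullback (f := T.hom) h4.flip ⟨⟨hT2, hT1⟩, hT3⟩ h5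
    exact isAffine_of_isAffineHom (U.ι ≫ X.hom)
  · exact closedOrbitsOn_of_fst ha U (by rw [hUU]; exact hUc' hq)

end K701.FieldDesc
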