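import Mathlib.RingTheory.Polynomial.Vieta
import Mathlib.RingTheory.LocalRing.MaximalIdeal.Basic

/-!
# Elementary symmetric functions of a finite set of elements
-/

set_option autoImplicit false

namespace K701.SymFn

open Polynomial

/-- a ring homomorphism permuting a finite set fixes its elementary symmetric functions -/
theorem map_esymm {R : Type*} [CommRing R] (s : Finset R) (φ : R →+* R) (hinj : Function.Injective φ)
    (hmap : ∀ r ∈ s, φ r ∈ s) (k : ℕ) : φ (s.val.esymm k) = s.val.esymm k := by
  classical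
  have h1 : s.image φ = s :=
    Finset.eq_of_subset_of_card_le (Finset.image_subset_iff.2 hmap) (Finset.card_image_of_injective s hinj).ge
  have h2 : s.val.map φ = s.val := by
    rw [← Finset.image_val_of_injOn (f := φ) (s := s) hinj.injOn, h1]
  conv_rhs => rw [← h2]
  rw [Multiset.esymm, Multiset.esymm, Multiset.powersetCard_map, map_multiset_sum, Multiset.map_map, Multiset.map_map]
  congr 1
  apply Multiset.map_congr rfl
  intro t _
  simp only [Function.comp_apply, map_multiset_prod]

/-- if an element of the multiset is a unit somewhere, so is a symmetric function of positive degree -/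
theorem exists_isUnit_esymm {R L : Type*} [CommRing R] [CommRing L] [IsLocalRing L] (φ : R →+* L) (s : Multiset R)
    {r : R} (hr : r ∈ s) (hu : IsUnit (φ r)) : ∃ k, k ≠ 0 ∧ IsUnit (φ (s.esymm k)) := by
  by_contra hcon
  push Not at hcon
  have h1 := Multiset.prod_X_sub_X_eq_sum_esymm s
  have h2 := congrArg (Polynomial.eval r) h1
  have h3 : Polynomial.eval r (s.map fun t => X - C t).prod = 0 := by
    rw [Polynomial.eval_multiset_prod, Multiset.map_map]
    apply Multiset.prod_eq_zero
    refine Multiset.mem_map.2 ⟨r, hr, ?_⟩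
    simp
  rw [h3, Polynomial.eval_finsetSum, Finset.sum_range_succ'] at h2
  have h4 := congrArg φ h2
  rw [map_zero, map_add, map_sum] at h4
  have h5 : φ (Polynomial.eval r ((-1) ^ 0 * (C (s.esymm 0) * X ^ (Multiset.card s - 0)))) =
      φ r ^ (Multiset.card s) := by
    simp [Multiset.esymm]
  rw [h5] at h4
  have h6 : (∑ x ∈ Finset.range (Multiset.card s), φ (Polynomial.eval r ((-1) ^ (x + 1) *
      (C (s.esymm (x + 1)) * X ^ (Multiset.card s - (x + 1)))))) ∈ IsLocalRing.maximalIdeal L := by
    refine Submodule.sum_mem _ fun x _ => ?_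
    have : φ (Polynomial.eval r ((-1) ^ (x + 1) *
      (C (s.esymm (x + 1)) * X ^ (Multiset.card s - (x + 1))))) =
      (-1) ^ (x + 1) * φ r ^ (Multiset.card s - (x + 1)) * φ (s.esymm (x + 1)) := by
      simp
      ring
    rw [this]
    exact Ideal.mul_mem_left _ _ ((IsLocalRing.mem_maximalIdeal _).2 (hcon (x + 1) (Nat.succ_ne_zero x)))
  have h7 : φ r ^ (Multiset.card s) ∈ IsLocalRing.maximalIdeal L := by
    have : φ r ^ (Multiset.card s) = -(∑ x ∈ Finset.range (Multiset.card s), φ (Polynomial.eval r ((-1) ^ (x + 1) *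
      (C (s.esymm (x + 1)) * X ^ (Multiset.card s - (x + 1)))))) := by
      rw [eq_neg_iff_add_eq_zero, add_comm]
      exact h4.symm
    rw [this]
    exact neg_mem h6
  exact (IsLocalRing.mem_maximalIdeal _).1 h7 (hu.pow _)

/-- symmetric functions of good elements are good -/
theorem good_esymm {R : Type*} [CommRing R] (Inv Good : ℕ → R → Prop) (h1 : Inv 0 1)
    (hmul : ∀ n m f g, Inv n f → Inv m g → Inv (n + m) (f * g)) (hgi : ∀ n f, Good n f → Inv n f)
    (hgm : ∀ n m f g, Inv m g → Good n f → Good (m + n) (g * f))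
    (hga : ∀ n f g, Good n f → Good n g → Good n (f + g)) (h0 : ∀ n, n ≠ 0 → Good n 0)
    {n : ℕ} (hn : n ≠ 0) (s : Multiset R) (hs : ∀ r ∈ s, Good n r) (k : ℕ) (hk : k ≠ 0) :
    Good (k * n) (s.esymm k) := by
  have hinv : ∀ t : Multiset R, (∀ r ∈ t, Good n r) → Inv (Multiset.card t * n) t.prod := by
    intro t
    induction t using Multiset.induction_on with
    | empty => intro _; simpa using h1
    | cons a t ih =>
      intro ht
      have e1 := hmul _ _ _ _ (hgi n a (ht a (Multiset.mem_cons_self a t)))
        (ih fun r hr => ht r (Multiset.mem_cons_of_mem hr))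
      rw [Multiset.card_cons, Multiset.prod_cons, Nat.add_mul, one_mul, add_comm]
      exact e1
  have hgood : ∀ t : Multiset R, Multiset.card t ≠ 0 → (∀ r ∈ t, Good n r) → Good (Multiset.card t * n) t.prod := by
    intro t ht0 ht
    obtain ⟨a, ha⟩ := Multiset.card_pos_iff_exists_mem.1 (Nat.pos_of_ne_zero ht0)
    obtain ⟨t', rfl⟩ := Multiset.exists_cons_of_mem ha
    have e1 := hgm _ _ _ _ (hinv t' fun r hr => ht r (Multiset.mem_cons_of_mem hr)) (ht a (Multiset.mem_cons_self a t'))
    rw [Multiset.card_cons, Multiset.prod_cons, Nat.add_mul, one_mul, mul_comm a]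
    exact e1
  have hsum : ∀ (N : ℕ) (_ : N ≠ 0) (t : Multiset R), (∀ r ∈ t, Good N r) → Good N t.sum := by
    intro N hN t
    induction t using Multiset.induction_on with
    | empty => intro _; simpa using h0 N hN
    | cons a t ih =>
      intro ht
      rw [Multiset.sum_cons]
      exact hga _ _ _ (ht a (Multiset.mem_cons_self a t)) (ih fun r hr => ht r (Multiset.mem_cons_of_mem hr))
  apply hsum _ (Nat.mul_ne_zero hk hn)
  intro r hr
  obtain ⟨t, ht, rfl⟩ := Multiset.mem_map.1 hr
  obtain ⟨hts, htc⟩ := Multiset.mem_powersetCard.1 ht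
  rw [← htc]
  exact hgood t (by rw [htc]; exact hk) fun r hr => hs r (Multiset.mem_of_le hts hr)

end K701.SymFn
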