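import Groth.Agent.GIT.K701.Coset
import Groth.Agent.GIT.K701.SymFn
import Groth.Agent.GIT.K701.FieldDesc

/-!
# Good sections for an open normal subgroup and for the whole group
-/

set_option autoImplicit false
set_option linter.unusedSectionVars false

universe u

open CategoryTheory CategoryTheory.Limits MonoidalCategory CartesianMonoidalCategory MonObj GrpObj AlgebraicGeometry
  TopologicalSpace Opposite

namespace K701.CosetGood

open K689.ActBasic K689.PullBun K689.Compat K689.LinBunBasic K689.Weight K689.SchGlue K689.Avoid K701.WtComp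
  K701.Bun K701.MorE K701.Coset K701.ClOrb K701.ActT K701.FieldDesc

section Sch

variable {X V X' V' X'' V'' : Scheme.{u}} {p : V ⟶ X} {p' : V' ⟶ X'} {p'' : V'' ⟶ X''} [IsAffineHom p]
  [IsAffineHom p'] [IsAffineHom p''] {h : X' ⟶ X} {q : V' ⟶ V} {h' : X'' ⟶ X'} {q' : V'' ⟶ V'}
  {chart : ∀ U : X.Opens, Set (Γ(V, p ⁻¹ᵁ U))} {chart' : ∀ U : X'.Opens, Set (Γ(V', p' ⁻¹ᵁ U))}
  {chart'' : ∀ U : X''.Opens, Set (Γ(V'', p'' ⁻¹ᵁ U))}

theorem crd_pull (m : MorS p p' h q chart chart') (A : Atl p chart) (A' : Atl p' chart') {U : X.Opens}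
    {y : Γ(V, p ⁻¹ᵁ U)} (hy : Crd p chart U y) :
    Crd p' chart' (h ⁻¹ᵁ U) (q.appLE (p ⁻¹ᵁ U) (p' ⁻¹ᵁ (h ⁻¹ᵁ U)) (sqle m.comm U) y) :=
  ⟨m.wt A A' hy.1, by
    rw [m.nv A A' hy.1]
    exact fun x hx => hy.2 hx⟩

theorem morS_comp (m : MorS p p' h q chart chart') (m' : MorS p' p'' h' q' chart' chart'')
    (A' : Atl p' chart') (A'' : Atl p'' chart'') : MorS p p'' (h' ≫ h) (q' ≫ q) chart chart'' where
  comm := by rw [← Category.assoc, m'.comm, Category.assoc, m.comm, Category.assoc]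
  crd U y hy := by
    have h1 := crd_pull m' A' A'' (m.crd U y hy)
    have l : p'' ⁻¹ᵁ (h' ⁻¹ᵁ (h ⁻¹ᵁ U)) ≤ (q' ≫ q) ⁻¹ᵁ (p ⁻¹ᵁ U) :=
      (sqle m'.comm _).trans (q'.preimage_mono (sqle m.comm U))
    rw [appLE_appLE q' q (sqle m.comm U) (sqle m'.comm _) l] at h1
    exact h1

theorem appLE_id {V : Scheme.{u}} (U : V.Opens) (l : U ≤ (𝟙 V : V ⟶ V) ⁻¹ᵁ U) (y : Γ(V, U)) :
    (𝟙 V : V ⟶ V).appLE U U l y = y := by
  have e : (𝟙 V : V ⟶ V).appLE U U l = 𝟙 _ := by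
    rw [Scheme.Hom.appLE, Scheme.Hom.id_app]
    exact (Category.id_comp _).trans (V.presheaf.map_id _)
  rw [e]
  rfl

theorem morS_id (A : Atl p chart) : MorS p p (𝟙 X) (𝟙 V) chart chart where
  comm := by rw [Category.comp_id, Category.id_comp]
  crd U y hy := by
    have l : p ⁻¹ᵁ U ≤ (𝟙 V : V ⟶ V) ⁻¹ᵁ (p ⁻¹ᵁ U) := le_of_eq rfl
    have h1 : Crd p chart U ((𝟙 V : V ⟶ V).appLE (p ⁻¹ᵁ U) (p ⁻¹ᵁ U) l y) :=
      (appLE_id (p ⁻¹ᵁ U) l y).symm ▸ Crd.of_adm A (adm_of_mem hy)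
    exact h1

end Sch

section Trans

variable {S : Scheme.{u}} {G X T : Over S} [GrpObj G] {a : AlgGrp.Action G X} (B : GLinSh.LinBun G a) {τ : X ⟶ T}

theorem lift_tau (hτ : a.act ≫ τ = snd G X ≫ τ) : B.lift.act ≫ (B.π ≫ τ) = snd G B.V ≫ (B.π ≫ τ) := by
  rw [← Category.assoc, B.lift_π, Category.assoc, hτ, ← Category.assoc, whiskerLeft_snd, Category.assoc]

theorem tl_π (h : T ⟶ G) : tl B.lift (B.π ≫ τ) h ≫ B.π = B.π ≫ tl a τ h := by
  rw [tl, Category.assoc, B.lift_π, lift_whiskerLeft_assoc, Category.id_comp, comp_tl, Category.assoc]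

/-- translations are morphisms of line bundles -/
theorem morS_tl (h : T ⟶ G) : MorS B.π.left B.π.left (tl a τ h).left (tl B.lift (B.π ≫ τ) h).left
    B.atlas.chart B.atlas.chart := by
  have hπ : IsAffineHom B.π.left := B.atlas.affine
  have m1 : MorS (G ◁ B.π).left B.π.left (lift (τ ≫ h) (𝟙 X)).left (lift ((B.π ≫ τ) ≫ h) (𝟙 B.V)).left (gchart B)
      B.atlas.chart := by
    refine MorS.of_comp (morS_snd B) (morS_id (atl B.atlas)) (atl B.atlas) (gatl B) (atl B.atlas) _ _ ?_ ?_ ?_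
    · rw [← Over.comp_left, ← Over.comp_left]
      congr 1
      apply CartesianMonoidalCategory.hom_ext <;> simp
    · rw [← Over.comp_left, lift_snd]; rfl
    · rw [← Over.comp_left, lift_snd]; rfl
  have m2 := morS_comp (morS_act B) m1 (gatl B) (atl B.atlas)
  rw [← Over.comp_left, ← Over.comp_left] at m2
  exact m2

end Trans

section Orb

variable {S : Scheme.{u}} {G₀ G X T : Over S} [GrpObj G₀] [GrpObj G] {i : G₀ ⟶ G} {a : AlgGrp.Action G X}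
  {a₀ : AlgGrp.Action G₀ X} {τ : X ⟶ T}

/-- orbits of the subgroup and cosets -/
theorem rho_psi (ha₀ : a₀.act = (i ▷ X) ≫ a.act) (h : T ⟶ G) {Z : Over S} (f : Z ⟶ X) :
    rho i (f ≫ τ) h ≫ GIT.psi a f = GIT.psi a₀ (f ≫ tl a τ h) := by
  apply CartesianMonoidalCategory.hom_ext
  · rw [Category.assoc, GIT.psi, GIT.psi, lift_fst, lift_fst, ← Category.assoc]
    have e1 : rho i (f ≫ τ) h ≫ (G ◁ f) = lift ((fst G₀ Z ≫ i) * (snd G₀ Z ≫ (f ≫ τ) ≫ h)) (snd G₀ Z ≫ f) := by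
      rw [rho, lift_whiskerLeft]
    have e2 : G₀ ◁ (f ≫ tl a τ h) = lift (fst G₀ Z) ((snd G₀ Z ≫ f) ≫ tl a τ h) := by
      apply CartesianMonoidalCategory.hom_ext <;> simp
    rw [e1, e2, lift_mul_act, lift_act₀ ha₀, comp_tl]
    simp only [Category.assoc]
  · rw [Category.assoc, GIT.psi, GIT.psi, lift_snd, lift_snd, rho, lift_snd]

theorem range_psi (ha₀ : a₀.act = (i ▷ X) ≫ a.act) {J : Type*} {h : J → (T ⟶ G)} (hc : Covers i h) {Z : Over S}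
    (f : Z ⟶ X) : Set.range (GIT.psi a f).left.base =
      ⋃ j, Set.range (GIT.psi a₀ (f ≫ tl a τ (h j))).left.base := by
  have e : ∀ j z, (GIT.psi a₀ (f ≫ tl a τ (h j))).left z = (GIT.psi a f).left ((rho i (f ≫ τ) (h j)).left z) := by
    intro j z
    rw [← rho_psi ha₀, Over.comp_left, Scheme.Hom.comp_apply]
  ext y
  constructor
  · rintro ⟨w, rfl⟩
    obtain ⟨j, z, rfl⟩ := hc.exists (f ≫ τ) w
    exact Set.mem_iUnion.2 ⟨j, z, e j z⟩
  · intro hy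
    obtain ⟨j, z, hz⟩ := Set.mem_iUnion.1 hy
    exact ⟨_, (e j z).symm.trans hz⟩

/-- orbits of the whole group are closed if those of the subgroup are -/
theorem closedOrbitsOn_of_res (ha₀ : a₀.act = (i ▷ X) ≫ a.act) {J : Type*} [Finite J] {h : J → (T ⟶ G)}
    (hc : Covers i h) (U : X.left.Opens) (hinv : ∀ w : (G ⊗ X).left, (snd G X).left w ∈ U → a.act.left w ∈ U)
    (hU : GLinSh.ClosedOrbitsOn a₀ U) (τ : X ⟶ T) : GLinSh.ClosedOrbitsOn a U := by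
  intro Ω _ _ Z e f hf
  rw [range_psi (τ := τ) ha₀ hc f, Set.preimage_iUnion]
  refine isClosed_iUnion_of_finite fun j => hU Ω Z e _ ?_
  rintro _ ⟨z, rfl⟩
  change (f ≫ tl a τ (h j)).left z ∈ U
  rw [comp_tl, comp_left_apply]
  apply hinv
  rw [← comp_left_apply, lift_snd]
  exact hf ⟨z, rfl⟩

theorem image_range_sub (ha₀ : a₀.act = (i ▷ X) ≫ a.act) (hN : AlgGrp.IsNormalHom i)
    (hτ : a.act ≫ τ = snd G X ≫ τ) (h : T ⟶ G) {Z : Over S} (f : Z ⟶ X) :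
    (tl a τ h ▷ Z).left '' Set.range (GIT.psi a₀ f).left.base ⊆
      Set.range (GIT.psi a₀ (f ≫ tl a τ h)).left.base := by
  obtain ⟨g₀', -, e⟩ := act₀_tl ha₀ hN hτ h (fst G₀ Z) (snd G₀ Z ≫ f)
  have e1 : G₀ ◁ f = lift (fst G₀ Z) (snd G₀ Z ≫ f) := by
    apply CartesianMonoidalCategory.hom_ext <;> simp
  have e2 : GIT.psi a₀ f ≫ (tl a τ h ▷ Z) = lift g₀' (snd G₀ Z) ≫ GIT.psi a₀ (f ≫ tl a τ h) := by
    apply CartesianMonoidalCategory.hom_ext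
    · have hR : (lift g₀' (snd G₀ Z) ≫ GIT.psi a₀ (f ≫ tl a τ h)) ≫ fst X Z =
          lift g₀' (snd G₀ Z ≫ f ≫ tl a τ h) ≫ a₀.act := by
        rw [Category.assoc, GIT.psi, lift_fst, lift_whiskerLeft_assoc]
      rw [hR, Category.assoc, whiskerRight_fst, GIT.psi, lift_fst_assoc, e1, e, Category.assoc]
    · rw [Category.assoc, whiskerRight_snd, GIT.psi, lift_snd, GIT.psi, Category.assoc, lift_snd, lift_snd]
  rintro _ ⟨_, ⟨w, rfl⟩, rfl⟩
  have e3 := congrArg (fun φ : (G₀ ⊗ Z).left ⟶ (X ⊗ Z).left => φ w) (congrArg Over.Hom.left e2)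
  simp only [Over.comp_left, Scheme.Hom.comp_apply] at e3
  exact ⟨_, e3.symm⟩

theorem image_range (ha₀ : a₀.act = (i ▷ X) ≫ a.act) (hN : AlgGrp.IsNormalHom i)
    (hτ : a.act ≫ τ = snd G X ≫ τ) (h : T ⟶ G) {Z : Over S} (f : Z ⟶ X) :
    (tl a τ h ▷ Z).left '' Set.range (GIT.psi a₀ f).left.base =
      Set.range (GIT.psi a₀ (f ≫ tl a τ h)).left.base := by
  apply Set.Subset.antisymm (image_range_sub ha₀ hN hτ h f)
  intro y hy
  have h1 := image_range_sub ha₀ hN hτ h⁻¹ (f ≫ tl a τ h) ⟨y, hy, rfl⟩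
  rw [Category.assoc, tl_inv hτ, Category.comp_id] at h1
  refine ⟨_, h1, ?_⟩
  rw [← comp_left_apply, ← MonoidalCategory.comp_whiskerRight, tl_inv' hτ]
  simp

theorem closedOrbitsOn_tl (ha₀ : a₀.act = (i ▷ X) ≫ a.act) (hN : AlgGrp.IsNormalHom i)
    (hτ : a.act ≫ τ = snd G X ≫ τ) (h : T ⟶ G) (U : X.left.Opens) (hU : GLinSh.ClosedOrbitsOn a₀ U) :
    GLinSh.ClosedOrbitsOn a₀ ((tl a τ h).left ⁻¹ᵁ U) := by
  intro Ω _ _ Z e f hf
  have h1 := hU Ω Z e (f ≫ tl a τ h) (by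
    rintro _ ⟨z, rfl⟩
    have := hf ⟨z, rfl⟩
    change (f ≫ tl a τ h).left z ∈ U
    rw [comp_left_apply]
    exact this)
  rw [← image_range ha₀ hN hτ h f] at h1
  refine isClosed_restrict_of_image (tl a τ h ▷ Z).left.continuous ?_ _ _ ?_ _ h1
  · intro y y' hyy
    have e1 : ∀ y, (tl a τ h⁻¹ ▷ Z).left ((tl a τ h ▷ Z).left y) = y := by
      intro y
      rw [← comp_left_apply, ← MonoidalCategory.comp_whiskerRight, tl_inv hτ]
      simp
    rw [← e1 y, ← e1 y', hyy]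
  · intro y
    change (tl a τ h).left ((fst X Z).left y) ∈ U ↔ (fst X Z).left ((tl a τ h ▷ Z).left y) ∈ U
    rw [← comp_left_apply, ← comp_left_apply, whiskerRight_fst]

end Orb

section Main

variable {S : Scheme.{u}} {G₀ G X T : Over S} [GrpObj G₀] [GrpObj G] {i : G₀ ⟶ G} {a : AlgGrp.Action G X}
  {a₀ : AlgGrp.Action G₀ X} {τ : X ⟶ T} (B : GLinSh.LinBun G a) (Φ₀ : AlgGrp.Action G₀ B.V)
  (hΦ₀ : Φ₀.act = (i ▷ B.V) ≫ B.lift.act) (hπ₀ : Φ₀.act ≫ B.π = (G₀ ◁ B.π) ≫ a₀.act)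
  (hl₀ : GLinSh.IsLinearLift a₀ B.π Φ₀ B.atlas.chart hπ₀)

/-- the bundle for the subgroup -/
abbrev res : GLinSh.LinBun G₀ a₀ := ⟨B.V, B.π, B.atlas, Φ₀, hπ₀, hl₀⟩

include hΦ₀

theorem good_pl (ha₀ : a₀.act = (i ▷ X) ≫ a.act) (hN : AlgGrp.IsNormalHom i)
    (hτ : a.act ≫ τ = snd G X ≫ τ) (h : T ⟶ G) {Q : Prop} {n : ℕ} {f : Γ(B.V.left, ⊤)}
    (hf : Good (res B Φ₀ hπ₀ hl₀) Q n f) :
    Good (res B Φ₀ hπ₀ hl₀) Q n ((tl B.lift (B.π ≫ τ) h).left.appTop f) := by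
  obtain ⟨⟨hw, hi⟩, hn, U, hU, hUa, hUc⟩ := hf
  have m := morS_tl B (τ := τ) h
  have hw' : GLinSh.HasWeight B.atlas.chart n ((tl B.lift (B.π ≫ τ) h).left.appTop f) := by
    rw [hasWeight_iff_comp]
    have e := gwc_pull m (atl B.atlas) (atl B.atlas) n f
    have e2 : gwc (atl B.atlas) n f = f := comp_of_hasWeight B hw
    rw [e2] at e
    exact e.symm
  have hnv : GLinSh.nonvanishing B.π ((tl B.lift (B.π ≫ τ) h).left.appTop f) =
      (tl a τ h).left ⁻¹' GLinSh.nonvanishing B.π f := by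
    rw [nonvanishing_eq, nonvanishing_eq]
    exact nv_pull' m (atl B.atlas) (atl B.atlas) ((hasWeight_iff _ _ _).1 hw)
  have hiso := isIso_tl_left hτ h
  refine ⟨⟨hw', isInvFn_pl hΦ₀ hN (lift_tau B hτ) h hi⟩, hn, (tl a τ h).left ⁻¹ᵁ U, ?_, hUa.preimage _,
    fun q => closedOrbitsOn_tl ha₀ hN hτ h U (hUc q)⟩
  change _ = GLinSh.nonvanishing B.π _
  rw [hnv]
  change (tl a τ h).left ⁻¹' (U : Set X.left) = _
  rw [hU]

theorem exists_good_of_res [IsOpenImmersion i.left] [Subsingleton T.left] [Nonempty T.left]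
    (ha₀ : a₀.act = (i ▷ X) ≫ a.act) (hN : AlgGrp.IsNormalHom i)
    (hτ : a.act ≫ τ = snd G X ≫ τ) {J : Type*} [Finite J] {h : J → (T ⟶ G)} (hc : Covers i h) {Q : Prop} {n : ℕ}
    {f : Γ(B.V.left, ⊤)} (hf : Good (res B Φ₀ hπ₀ hl₀) Q n f) {x : X.left} (hx : x ∈ GLinSh.nonvanishing B.π f) :
    ∃ (n' : ℕ) (F : Γ(B.V.left, ⊤)), Good B Q n' F ∧ x ∈ GLinSh.nonvanishing B.π F := by
  classical
  have hτV := lift_tau B hτ
  let pl : (T ⟶ G) → Γ(B.V.left, ⊤) → Γ(B.V.left, ⊤) := fun g r => (tl B.lift (B.π ≫ τ) g).left.appTop r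
  have hpm : ∀ g g' r, pl g' (pl g r) = pl (g * g') r := fun g g' r => pl_mul hτV g g' r
  have hp1 : ∀ r, pl 1 r = r := fun r => pl_one r
  let Fs : Finset Γ(B.V.left, ⊤) := (Set.finite_range fun j => pl (h j) f).toFinset
  have hmem : ∀ g, pl g f ∈ Fs := by
    intro g
    obtain ⟨j, g₀, rfl⟩ := hc.factor g
    rw [Set.Finite.mem_toFinset]
    exact ⟨j, (pl_coset hΦ₀ g₀ (h j) hf.1.2).symm⟩
  have hFs : ∀ r ∈ Fs, ∃ g, r = pl g f := by
    intro r hr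
    rw [Set.Finite.mem_toFinset] at hr
    obtain ⟨j, rfl⟩ := hr
    exact ⟨h j, rfl⟩
  have hinj : ∀ g, Function.Injective (pl g) := by
    intro g r r' e
    have := congrArg (pl g⁻¹) e
    rwa [hpm, hpm, mul_inv_cancel, hp1, hp1] at this
  have hmap : ∀ g, ∀ r ∈ Fs, pl g r ∈ Fs := by
    intro g r hr
    obtain ⟨g', rfl⟩ := hFs r hr
    rw [hpm]
    exact hmem _
  have hinvk : ∀ g k, pl g (Fs.val.esymm k) = Fs.val.esymm k := fun g k =>
    SymFn.map_esymm Fs (tl B.lift (B.π ≫ τ) g).left.appTop.hom (hinj g) (hmap g) k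
  have hgood : ∀ k, k ≠ 0 → Good (res B Φ₀ hπ₀ hl₀) Q (k * n) (Fs.val.esymm k) := by
    intro k hk
    refine SymFn.good_esymm (fun n f => (res B Φ₀ hπ₀ hl₀).IsInvSection n f) (Good (res B Φ₀ hπ₀ hl₀) Q)
      invSection_one (fun _ _ _ _ h h' => invSection_mul (res B Φ₀ hπ₀ hl₀) h h') (fun _ _ h => h.1)
      (fun _ _ _ _ h h' => Good.mul h h') (fun _ _ _ h h' => Good.add h h') (fun n hn => good_zero' hn) hf.2.1
      Fs.val ?_ k hk
    intro r hr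
    obtain ⟨g, rfl⟩ := hFs r hr
    exact good_pl B Φ₀ hΦ₀ hπ₀ hl₀ ha₀ hN hτ g hf
  obtain ⟨v, hv, rfl⟩ := hx
  have hfFs : f ∈ Fs.val := by
    have := hmem 1
    rwa [hp1] at this
  obtain ⟨k, hk, hu⟩ := SymFn.exists_isUnit_esymm (B.V.left.presheaf.germ ⊤ v trivial).hom Fs.val hfFs
    ((B.V.left.mem_basicOpen_top f v).1 hv)
  have hg := hgood k hk
  have hF : GLinSh.IsInvFn B.lift (Fs.val.esymm k) :=
    isInvFn_of_pl hΦ₀ hc hg.1.2 (fun j => hinvk (h j) k)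
  refine ⟨k * n, Fs.val.esymm k, ?_, ⟨v, (B.V.left.mem_basicOpen_top _ v).2 hu, rfl⟩⟩
  obtain ⟨⟨hw, -⟩, hn, U, hU, hUa, hUc⟩ := hg
  refine ⟨⟨hw, hF⟩, hn, U, hU, hUa, fun q => closedOrbitsOn_of_res ha₀ hc U ?_ (hUc q) τ⟩
  intro w hw'
  have h1 : (snd G X).left w ∈ GLinSh.nonvanishing B.π (Fs.val.esymm k) := by
    rw [← hU]; exact hw'
  have h2 := (nonvanishing_invariant hF w).2 h1
  have h3 : a.act.left w ∈ (U : Set X.left) := by
    rw [hU]; exact h2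
  exact h3

end Main

end K701.CosetGood
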