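import Groth.Agent.GIT.K701.PowLift
import Groth.Agent.GIT.K688.ActRes
import Groth.Agent.GIT.K686.Haar
import Groth.Agent.GIT.K689.LocGeom

/-!
# Lifting invariant functions along an equivariant nilpotent thickening, up to powers
-/

set_option autoImplicit false

universe u

open CategoryTheory CategoryTheory.Limits MonoidalCategory CartesianMonoidalCategory MonObj AlgebraicGeometry
  TopologicalSpace Opposite

namespace K701.EqLift

open K689.SchGlue K689.PullBun K689.CoordUP K701.PowLift K688.ActRes K686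

section Sch

variable {V Vr : Scheme.{u}} (q : Vr ⟶ V) (D : V.Opens)

theorem appLE_top {T Z : Scheme.{u}} (f : T ⟶ Z) (h : (⊤ : T.Opens) ≤ f ⁻¹ᵁ ⊤) (s : Γ(Z, ⊤)) :
    f.appLE ⊤ ⊤ h s = f.appTop s := by
  rw [Scheme.Hom.appTop, Scheme.Hom.app_eq_appLE]
  rfl

/-- the function on `D` given by a global function of the open subscheme -/
noncomputable def ofTop (φ : Γ((D : Scheme.{u}), ⊤)) : Γ(V, D) := D.topIso.hom φ

theorem ι_ofTop (φ : Γ((D : Scheme.{u}), ⊤)) (h : ⊤ ≤ D.ι ⁻¹ᵁ D) : D.ι.appLE D ⊤ h (ofTop D φ) = φ := by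
  rw [ι_appLE_top]
  change (D.topIso.hom ≫ D.topIso.inv) φ = φ
  rw [Iso.hom_inv_id]
  rfl

theorem ofTop_ι (f : Γ(V, ⊤)) : ofTop D (D.ι.appTop f) = rsec le_top f := topIso_ι_appTop D f

theorem ofTop_pow (φ : Γ((D : Scheme.{u}), ⊤)) (n : ℕ) : ofTop D (φ ^ n) = ofTop D φ ^ n := map_pow _ _ _

theorem app_ofTop (φ : Γ((D : Scheme.{u}), ⊤)) (f : Γ(Vr, ⊤))
    (h : (q ∣_ D).appTop φ = (q ⁻¹ᵁ D).ι.appTop f) : q.app D (ofTop D φ) = rsec le_top f := by
  have k0 : ⊤ ≤ D.ι ⁻¹ᵁ D := fun x _ => x.2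
  have k1 : ⊤ ≤ (q ⁻¹ᵁ D).ι ⁻¹ᵁ (q ⁻¹ᵁ D) := fun x _ => x.2
  have hinj : Function.Injective ((q ⁻¹ᵁ D).ι.appLE (q ⁻¹ᵁ D) ⊤ k1) := by
    rw [ι_appLE_top]
    exact (ConcreteCategory.bijective_of_isIso (q ⁻¹ᵁ D).topIso.inv).1
  apply hinj
  have k2 : ⊤ ≤ ((q ⁻¹ᵁ D).ι ≫ q) ⁻¹ᵁ D := fun x _ => x.2
  have k3 : ⊤ ≤ ((q ∣_ D) ≫ D.ι) ⁻¹ᵁ D := by rw [morphismRestrict_ι]; exact k2
  have k4 : (⊤ : ((q ⁻¹ᵁ D : Vr.Opens) : Scheme.{u}).Opens) ≤ (q ∣_ D) ⁻¹ᵁ ⊤ := fun x _ => trivial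
  have k5 : (⊤ : ((q ⁻¹ᵁ D : Vr.Opens) : Scheme.{u}).Opens) ≤ (q ⁻¹ᵁ D).ι ⁻¹ᵁ ⊤ := fun x _ => trivial
  rw [app_appLE (q ⁻¹ᵁ D).ι q k1 k2, appLE_hom_congr (morphismRestrict_ι q D).symm k2 k3,
    ← appLE_appLE (q ∣_ D) D.ι k0 k4 k3, ι_ofTop D φ k0, appLE_top, h,
    appLE_rsec (q ⁻¹ᵁ D).ι le_top k1 k5, appLE_top]

end Sch

variable {S : Scheme.{u}} {G V Vr : Over S} [GrpObj G]

theorem inv_of_comp {Φ : AlgGrp.Action G V} {Φr : AlgGrp.Action G Vr} {q : Vr ⟶ V}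
    (hq : Φr.act ≫ q = (G ◁ q) ≫ Φ.act) {f : Γ(V.left, ⊤)} (hf : Haar.Inv Φ f) :
    Haar.Inv Φr (q.left.appTop f) := by
  rw [Haar.Inv, ← Haar.comp_appTop', ← Haar.comp_appTop', hq, ← whiskerLeft_snd G q, Haar.comp_appTop',
    Haar.comp_appTop', hf]

/-- the non-vanishing locus of an invariant function is invariant -/
theorem mem_basicOpen_iff {Φ : AlgGrp.Action G V} {f : Γ(V.left, ⊤)} (hf : Haar.Inv Φ f) (z : (G ⊗ V).left) :
    Φ.act.left z ∈ V.left.basicOpen f ↔ (snd G V).left z ∈ V.left.basicOpen f := by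
  have e1 := Scheme.preimage_basicOpen_top Φ.act.left f
  have e2 := Scheme.preimage_basicOpen_top (snd G V).left f
  have e3 : Φ.act.left ⁻¹ᵁ V.left.basicOpen f = (snd G V).left ⁻¹ᵁ V.left.basicOpen f := by
    rw [e1, e2, hf]
  have : z ∈ Φ.act.left ⁻¹ᵁ V.left.basicOpen f ↔ z ∈ (snd G V).left ⁻¹ᵁ V.left.basicOpen f := by rw [e3]
  exact this

theorem surjective_whiskerLeft (G : Over S) {X Y : Over S} (q : X ⟶ Y) (h : Function.Surjective q.left) :
    Function.Surjective (G ◁ q).left := by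
  have H : IsPullback (snd G X).left (G ◁ q).left q.left (snd G Y).left :=
    K689.ActBasic.isPullback_snd_left (G := G) q
  have hs : Surjective q.left := ⟨h⟩
  have : Surjective (G ◁ q).left := MorphismProperty.of_isPullback H hs
  exact this.surj

/-- equivariant lifting up to powers -/
theorem exists_inv_lift (H : Haar G) (Φ : AlgGrp.Action G V) (Φr : AlgGrp.Action G Vr) (q : Vr ⟶ V)
    (hq : Φr.act ≫ q = (G ◁ q) ≫ Φ.act) [IsClosedImmersion q.left] (hs : Function.Surjective q.left)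
    [CompactSpace V.left] [QuasiSeparatedSpace V.left] [CompactSpace (G ⊗ V).left] [IsReduced Vr.left]
    (f : Γ(Vr.left, ⊤)) (hf : Haar.Inv Φr f) (D : V.left.Opens) (hD : q.left ⁻¹ᵁ D = Vr.left.basicOpen f)
    (hDa : IsAffineOpen D) :
    ∃ (M : ℕ) (σ : Γ(V.left, ⊤)), M ≠ 0 ∧ Haar.Inv Φ σ ∧ q.left.appTop σ = f ^ M := by
  have hGs := surjective_whiskerLeft G q hs
  -- the restricted actions
  obtain ⟨ΦD, hΦD⟩ := exists_restrict Φ (inc V D) (by
    intro z hz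
    have hr : Set.range (inc V D).left = (D : Set V.left) := Scheme.Opens.range_ι _
    rw [hr] at hz ⊢
    obtain ⟨w, rfl⟩ := hGs z
    have e1 : (snd G V).left ((G ◁ q).left w) = q.left ((snd G Vr).left w) := by
      rw [← Scheme.Hom.comp_apply, ← Scheme.Hom.comp_apply, ← Over.comp_left, ← Over.comp_left, whiskerLeft_snd]
    have e2 : Φ.act.left ((G ◁ q).left w) = q.left (Φr.act.left w) := by
      rw [← Scheme.Hom.comp_apply, ← Scheme.Hom.comp_apply, ← Over.comp_left, ← Over.comp_left, hq]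
    rw [e1] at hz
    rw [e2]
    have h1 : (snd G Vr).left w ∈ q.left ⁻¹ᵁ D := hz
    rw [hD, ← mem_basicOpen_iff hf, ← hD] at h1
    exact h1)
  obtain ⟨ΦrD, hΦrD⟩ := exists_restrict Φr (inc Vr (q.left ⁻¹ᵁ D)) (by
    intro z hz
    have hr : Set.range (inc Vr (q.left ⁻¹ᵁ D)).left = ((q.left ⁻¹ᵁ D : Vr.left.Opens) : Set Vr.left) :=
      Scheme.Opens.range_ι _
    rw [hr] at hz ⊢
    have h1 : (snd G Vr).left z ∈ q.left ⁻¹ᵁ D := hz
    rw [hD, ← mem_basicOpen_iff hf, ← hD] at h1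
    exact h1)
  have hqD : ΦrD.act ≫ phiW q D = (G ◁ phiW q D) ≫ ΦD.act := by
    rw [← cancel_mono (inc V D), Category.assoc, phiW_inc, reassoc_of% hΦrD, hq, Category.assoc, hΦD,
      ← whiskerLeft_comp_assoc, ← whiskerLeft_comp_assoc, phiW_inc]
  have haff : IsAffine (op V D).left := hDa
  have hclim : IsClosedImmersion (phiW q D).left := by
    change IsClosedImmersion (q.left ∣_ D)
    infer_instance
  have haff' : IsAffine (op Vr (q.left ⁻¹ᵁ D)).left :=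
    (IsClosedImmersion.isAffine_surjective_of_isAffine (phiW q D).left).1
  obtain ⟨φ₀, hφ₀⟩ := (IsClosedImmersion.isAffine_surjective_of_isAffine (phiW q D).left).2
    ((inc Vr (q.left ⁻¹ᵁ D)).left.appTop f)
  have hfD : Haar.Inv ΦrD ((inc Vr (q.left ⁻¹ᵁ D)).left.appTop f) := inv_of_comp hΦrD hf
  -- the invariant lift on `D`
  let φ := H.E ΦD φ₀
  have hφi : Haar.Inv ΦD φ := H.inv_E ΦD φ₀
  have hφ : (phiW q D).left.appTop φ = (inc Vr (q.left ⁻¹ᵁ D)).left.appTop f := by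
    rw [H.map_E ΦrD ΦD (phiW q D) hqD, hφ₀, H.E_of_inv ΦrD hfD]
  obtain ⟨M, σ, hM, h1, h2⟩ := exists_lift q.left hs f D hD (ofTop D φ) (app_ofTop q.left D φ f hφ)
  have h3 : (inc V D).left.appTop σ = φ ^ M := by
    have k0 : ⊤ ≤ D.ι ⁻¹ᵁ D := fun x _ => x.2
    have k5 : (⊤ : (D : Scheme.{u}).Opens) ≤ D.ι ⁻¹ᵁ ⊤ := fun x _ => trivial
    have e1 := congrArg (D.ι.appLE D ⊤ k0) h1
    rw [appLE_rsec D.ι le_top k0 k5, appLE_top, ← ofTop_pow, ι_ofTop] at e1
    exact e1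
  -- invariance of a power
  have hbo : V.left.basicOpen σ ≤ D := by
    intro x hx
    obtain ⟨y, rfl⟩ := hs x
    have hy : y ∈ q.left ⁻¹ᵁ V.left.basicOpen σ := hx
    rw [Scheme.preimage_basicOpen_top, h2] at hy
    have e4 : Vr.left.basicOpen (f ^ M) = Vr.left.basicOpen f :=
      Vr.left.toRingedSpace.basicOpen_pow _ _ (Nat.pos_of_ne_zero hM)
    rw [e4, ← hD] at hy
    exact hy
  obtain ⟨K, hK, hKe⟩ := exists_pow_eq (G ◁ q).left hGs (Φ.act.left.appTop σ) ((snd G V).left.appTop σ)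
    (by
      rw [← Haar.comp_appTop', ← Haar.comp_appTop', ← hq, whiskerLeft_snd, Haar.comp_appTop', Haar.comp_appTop',
        h2, map_pow, map_pow, hf])
    ((snd G V).left ⁻¹ᵁ D) (by
      rw [← Scheme.preimage_basicOpen_top]
      exact (snd G V).left.preimage_mono hbo)
    (by
      have H' : IsPullback (snd G (op V D)).left (G ◁ inc V D).left (inc V D).left (snd G V).left :=
        K689.ActBasic.isPullback_snd_left (G := G) (inc V D)
      have hop : IsOpenImmersion (G ◁ inc V D).left := MorphismProperty.of_isPullback H' inferInstance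
      have hr : (((snd G V).left ⁻¹ᵁ D : (G ⊗ V).left.Opens) : Set (G ⊗ V).left) ⊆
          Set.range (G ◁ inc V D).left := by
        intro z hz
        have hz' : (snd G V).left z ∈ Set.range (inc V D).left := by
          have : Set.range (inc V D).left = (D : Set V.left) := Scheme.Opens.range_ι _
          rw [this]; exact hz
        obtain ⟨v, hv⟩ := hz'
        obtain ⟨w, -, hw⟩ := K689.ActBasic.exists_point H' v z hv
        exact ⟨w, hw⟩
      apply (K689.LocGeom.app_bijective (G ◁ inc V D).left hr).1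
      rw [app_rsec', app_rsec']
      congr 1
      change (G ◁ inc V D).left.appTop (Φ.act.left.appTop σ) = (G ◁ inc V D).left.appTop ((snd G V).left.appTop σ)
      rw [← Haar.comp_appTop', ← Haar.comp_appTop', ← hΦD, whiskerLeft_snd, Haar.comp_appTop', Haar.comp_appTop',
        h3, map_pow, map_pow, hφi])
  refine ⟨M * K, σ ^ K, Nat.mul_ne_zero hM hK, ?_, ?_⟩
  · rw [Haar.Inv, map_pow, map_pow]
    exact hKe
  · rw [map_pow, h2, pow_mul]

end K701.EqLift
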