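import Groth.Agent.GIT.K701.FieldDesc

/-!
# Good invariant sections after an algebraically closed extension of the base field come from the base field
-/

set_option autoImplicit false

universe u

open CategoryTheory CategoryTheory.Limits MonoidalCategory CartesianMonoidalCategory MonObj GrpObj AlgebraicGeometry
  TopologicalSpace Opposite TensorProduct

namespace K701.FieldMain

open K689.PullBun K689.Compat K689.LinBunBasic K689.ActBasic K689.Avoid K689.Weight K689.CoordUP K689.SchGlue
  K701.WtComp K701.Bun K701.MorE K701.ActT K701.ClOrb K701.FieldDesc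

section Base

variable {S : Scheme.{u}} {G X T : Over S} [GrpObj G] {a : AlgGrp.Action G X} {a' : AlgGrp.Action G (X ⊗ T)}
  {B' : GLinSh.LinBun G a'}

theorem invSection_base (ha : IsBc a a') (c : Γ(T.left, ⊤)) :
    B'.IsInvSection 0 ((B'.π ≫ snd X T).left.appTop c) := by
  refine ⟨?_, ?_⟩
  · rw [hasWeight_iff]
    have e : tt B'.π.left ((B'.π ≫ snd X T).left.appTop c) = B'.π.left.app ⊤ ((snd X T).left.appTop c) := by
      rw [tt, Over.comp_left, Scheme.Hom.comp_appTop]
      exact congrArg (fun φ => φ.hom (B'.π.left.app ⊤ ((snd X T).left.appTop c))) (B'.V.left.presheaf.map_id _)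
    rw [e]
    exact Wt.base _
  · have h : B'.lift.act ≫ (B'.π ≫ snd X T) = snd G B'.V ≫ (B'.π ≫ snd X T) := by
      rw [← Category.assoc, B'.lift_π, Category.assoc, ha.snd, ← Category.assoc, whiskerLeft_snd, Category.assoc]
    change B'.lift.act.left.appTop ((B'.π ≫ snd X T).left.appTop c) =
      (snd G B'.V).left.appTop ((B'.π ≫ snd X T).left.appTop c)
    rw [← K686.Haar.comp_appTop', ← K686.Haar.comp_appTop', h]

end Base

section AlgCl

variable {k : Type u} [Field k] {G X : Over (Spec (CommRingCat.of k))} [GrpObj G] {a : AlgGrp.Action G X}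
  (K : Type u) [Field K] [Algebra k K]

/-- the spectrum of an extension field -/
noncomputable abbrev sp (k : Type u) [Field k] (K : Type u) [Field K] [Algebra k K] :
    Over (Spec (CommRingCat.of k)) :=
  Over.mk (Spec.map (CommRingCat.ofHom (algebraMap k K)))

instance : IsAffine (sp k K).left := inferInstanceAs (IsAffine (Spec (CommRingCat.of K)))

instance : Nonempty (sp k K).left := inferInstanceAs (Nonempty (Spec (CommRingCat.of K)))

instance : IsSeparated (sp k K).hom :=
  inferInstanceAs (IsSeparated (Spec.map (CommRingCat.ofHom (algebraMap k K))))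

variable {a' : AlgGrp.Action G (X ⊗ sp k K)} {B : GLinSh.LinBun G a} {B' : GLinSh.LinBun G a'} {q : B'.V ⟶ B.V}

/-- the constants -/
noncomputable def kap (B' : GLinSh.LinBun G a') : K →+* Γ(B'.V.left, ⊤) :=
  ((Scheme.ΓSpecIso (CommRingCat.of K)).inv ≫ (B'.π ≫ snd X (sp k K)).left.appTop).hom

/-- the structure of an algebra on the functions -/
noncomputable abbrev algV (B : GLinSh.LinBun G a) : Algebra k Γ(B.V.left, ⊤) :=
  ((Scheme.ΓSpecIso (CommRingCat.of k)).inv ≫ B.V.hom.appTop).hom.toAlgebra

/-- the functions after base change -/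
theorem exists_equiv (m : EMor (fst X (sp k K)) B B' q) [CompactSpace B.V.left] [QuasiSeparatedSpace B.V.left] :
    letI := algV B
    ∃ e : (K ⊗[k] Γ(B.V.left, ⊤)) →+* Γ(B'.V.left, ⊤), Function.Bijective e ∧
      (∀ c v, e (c ⊗ₜ v) = kap K B' c * q.left.appTop v) := by
  let := algV B
  have hfl : Flat (Spec.map (CommRingCat.ofHom (algebraMap k K))) := by
    rw [Flat.SpecMap_iff]
    change (algebraMap k K).Flat
    rw [RingHom.flat_algebraMap_iff]
    infer_instance
  have hP := Groth.Agent.Pi1C.PuncturedSections.isPushout_sections (CommRingCat.ofHom (algebraMap k K)) B.V.hom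
    q.left (B'.π ≫ snd X (sp k K)).left (isPullback_T m)
  have hT := CommRingCat.isPushout_tensorProduct k K Γ(B.V.left, ⊤)
  let i := hT.isoIsPushout _ _ hP.flip
  have h1 : CommRingCat.ofHom (Algebra.TensorProduct.includeLeftRingHom) ≫ i.hom =
    (Scheme.ΓSpecIso (CommRingCat.of K)).inv ≫ (B'.π ≫ snd X (sp k K)).left.appTop := hT.inl_isoIsPushout_hom _ _ hP.flip
  have h2 : CommRingCat.ofHom (Algebra.TensorProduct.includeRight.toRingHom) ≫ i.hom = q.left.appTop :=
    hT.inr_isoIsPushout_hom _ _ hP.flip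
  refine ⟨i.hom.hom, i.commRingCatIsoToRingEquiv.bijective, fun c v => ?_⟩
  have e1 : c ⊗ₜ[k] v = (c ⊗ₜ[k] (1 : Γ(B.V.left, ⊤))) * ((1 : K) ⊗ₜ[k] v) := by
    rw [Algebra.TensorProduct.tmul_mul_tmul, _root_.one_mul, _root_.mul_one]
  rw [e1, map_mul]
  congr 1
  · exact congrArg (fun φ => φ.hom c) h1
  · exact congrArg (fun φ => φ.hom v) h2

/-- an automorphism of `K` acts on the spectrum -/
noncomputable def tau (σ : K ≃ₐ[k] K) : sp k K ⟶ sp k K :=
  Over.homMk (Spec.map (CommRingCat.ofHom (σ : K →+* K))) (by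
    change Spec.map _ ≫ Spec.map _ = Spec.map _
    rw [← Spec.map_comp, ← CommRingCat.ofHom_comp]
    congr 2
    ext c
    exact σ.commutes c)

theorem tau_kap (σ : K ≃ₐ[k] K) (θ : B'.V ⟶ B'.V) (hθ : θ ≫ B'.π = B'.π ≫ (X ◁ tau K σ)) (c : K) :
    θ.left.appTop (kap K B' c) = kap K B' (σ c) := by
  have h1 : θ ≫ (B'.π ≫ snd X (sp k K)) = (B'.π ≫ snd X (sp k K)) ≫ tau K σ := by
    rw [← Category.assoc, hθ, Category.assoc, whiskerLeft_snd, Category.assoc]
  have h2 : (tau K σ).left.appTop ((Scheme.ΓSpecIso (CommRingCat.of K)).inv c) =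
      (Scheme.ΓSpecIso (CommRingCat.of K)).inv (σ c) := by
    have := Scheme.ΓSpecIso_inv_naturality (CommRingCat.ofHom (σ : K →+* K))
    exact (congrArg (fun φ => φ.hom c) this).symm
  change θ.left.appTop ((B'.π ≫ snd X (sp k K)).left.appTop ((Scheme.ΓSpecIso (CommRingCat.of K)).inv c)) =
    (B'.π ≫ snd X (sp k K)).left.appTop ((Scheme.ΓSpecIso (CommRingCat.of K)).inv (σ c))
  rw [← K686.Haar.comp_appTop', h1, K686.Haar.comp_appTop', h2]

/-- the descent of good sections from an algebraically closed extension -/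
theorem exists_desc [PerfectField k] [IsAlgClosed K] (m : EMor (fst X (sp k K)) B B' q) (ha : IsBc a a')
    [CompactSpace B.V.left] [QuasiSeparatedSpace B.V.left] {Q : Prop} {n : ℕ} {f' : Γ(B'.V.left, ⊤)}
    (hf : Good B' Q n f') {x' : (X ⊗ sp k K).left} (hx : x' ∈ GLinSh.nonvanishing B'.π f') :
    ∃ v, Good B Q n v ∧ (fst X (sp k K)).left x' ∈ GLinSh.nonvanishing B.π v := by
  let := algV B
  obtain ⟨e, he, hec⟩ := exists_equiv K m
  have hsm : ∀ (c : K) w, e (c • w) = kap K B' c * e w := by
    intro c w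
    have e1 : c • w = (c ⊗ₜ[k] (1 : Γ(B.V.left, ⊤))) * w := by
      rw [Algebra.smul_def]
      rfl
    rw [e1, map_mul, hec, map_one, _root_.mul_one]
  have hbase : ∀ c : K, B'.IsInvSection 0 (kap K B' c) := fun c =>
    invSection_base ha ((Scheme.ΓSpecIso (CommRingCat.of K)).inv c)
  let W : Submodule K (K ⊗[k] Γ(B.V.left, ⊤)) :=
    { carrier := {w | Good B' Q n (e w)}
      add_mem' := by
        intro w w' h h'
        change Good B' Q n (e (w + w'))
        rw [map_add]
        exact Good.add h h'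
      zero_mem' := by
        change Good B' Q n (e 0)
        rw [map_zero]
        exact good_zero' hf.2.1
      smul_mem' := by
        intro c w h
        change Good B' Q n (e (c • w))
        rw [hsm]
        have := Good.mul (hbase c) h
        rwa [Nat.zero_add] at this }
  obtain ⟨w, rfl⟩ := he.2 f'
  have hstab : ∀ σ : K ≃ₐ[k] K, ∀ w ∈ W, Groth.Agent.Agf.H612.GalSub.act _ σ w ∈ W := by
    intro σ w hw
    obtain ⟨θ, mθ, h1, h2⟩ := exists_lift m m (X ◁ tau K σ) (whiskerLeft_fst _ _) (ha.whisker ha (tau K σ))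
    have h3 : e (Groth.Agent.Agf.H612.GalSub.act _ σ w) = θ.left.appTop (e w) := by
      clear hw
      induction w using TensorProduct.induction_on with
      | zero => simp
      | tmul c v =>
        rw [Groth.Agent.Agf.H612.GalSub.act_tmul, hec, hec, map_mul, tau_kap K σ θ h2, ← K686.Haar.comp_appTop', h1]
      | add x y hx hy => rw [map_add, map_add, hx, hy, map_add, map_add]
    change Good B' Q n (e (Groth.Agent.Agf.H612.GalSub.act _ σ w))
    rw [h3]
    have haff : IsAffineHom (X ◁ tau K σ).left := by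
      have : IsAffineHom (tau K σ).left :=
        inferInstanceAs (IsAffineHom (Spec.map (CommRingCat.ofHom (σ : K →+* K))))
      exact MorphismProperty.of_isPullback (isPullback_snd_left (G := X) (tau K σ)) this
    exact mθ.good (fun U _ hU => closedOrbitsOn_whisker ha ha (tau K σ) U hU) hw
  have hspan := Groth.Agent.Agf.H612.GalSub.mem_span_of_stable (K701.FixField.mem_range_of_fixed k K) W hstab
    (w := w) hf
  by_contra hcon
  have hall : ∀ v, Good B' Q n (q.left.appTop v) → x' ∉ GLinSh.nonvanishing B'.π (q.left.appTop v) := by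
    intro v hv hxv
    have hg := good_descend m ha hv
    refine hcon ⟨v, hg, ?_⟩
    rw [m.nonvanishing hg.1.1] at hxv
    exact hxv
  have hP : Good B' Q n (e w) ∧ x' ∉ GLinSh.nonvanishing B'.π (e w) := by
    refine Submodule.span_induction (p := fun w _ => Good B' Q n (e w) ∧ x' ∉ GLinSh.nonvanishing B'.π (e w))
      ?_ ?_ ?_ ?_ hspan
    · rintro w ⟨hw, v, rfl⟩
      have e1 : e ((1 : K) ⊗ₜ[k] v) = q.left.appTop v := by rw [hec, map_one, _root_.one_mul]
      have hw' : Good B' Q n (e ((1 : K) ⊗ₜ[k] v)) := hw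
      rw [e1] at hw' ⊢
      exact ⟨hw', hall v hw'⟩
    · rw [map_zero, nonvanishing_zero]
      exact ⟨good_zero' hf.2.1, fun h => h⟩
    · rintro w w' - - ⟨h1, h2⟩ ⟨h3, h4⟩
      rw [map_add]
      exact ⟨Good.add h1 h3, notMem_nonvanishing_add h1.1.1 h3.1.1 h2 h4⟩
    · rintro c w - ⟨h1, h2⟩
      rw [hsm]
      have := Good.mul (hbase c) h1
      rw [Nat.zero_add] at this
      exact ⟨this, fun h => h2 (nonvanishing_mul_subset _ _ h)⟩
  exact hP.2 hx

end AlgCl

section General

variable {k : Type u} [Field k] {G X T : Over (Spec (CommRingCat.of k))} [GrpObj G] {a : AlgGrp.Action G X}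
  {a' : AlgGrp.Action G (X ⊗ T)} {B : GLinSh.LinBun G a} {B' : GLinSh.LinBun G a'} {q : B'.V ⟶ B.V}

theorem exists_sp (K : Type u) [Field K] (eT : T.left ≅ Spec (CommRingCat.of K)) :
    ∃ (Ω : Type u) (_ : Field Ω) (_ : IsAlgClosed Ω) (_ : Algebra k Ω) (u : sp k Ω ⟶ T), Surjective u.left := by
  let φ : CommRingCat.of k ⟶ CommRingCat.of K := Spec.preimage (eT.inv ≫ T.hom)
  have hφ : Spec.map φ = eT.inv ≫ T.hom := Spec.map_preimage _
  let Ω := AlgebraicClosure K
  let alg : Algebra k Ω := ((algebraMap K Ω).comp φ.hom).toAlgebra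
  have hsub : Subsingleton (Spec (CommRingCat.of K)) := inferInstanceAs (Subsingleton (PrimeSpectrum K))
  refine ⟨Ω, inferInstance, inferInstance, alg, Over.homMk
    (Spec.map (CommRingCat.ofHom (algebraMap K Ω)) ≫ eT.inv) ?_, ⟨fun y => ?_⟩⟩
  · rw [Category.assoc, ← hφ, ← Spec.map_comp]
    rfl
  · refine ⟨IsLocalRing.closedPoint Ω, ?_⟩
    exact (Scheme.homeoOfIso eT).injective (Subsingleton.elim _ _)

/-- good sections and change of the base field -/
theorem exists_good_iff [PerfectField k] (K : Type u) [Field K] (eT : T.left ≅ Spec (CommRingCat.of K))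
    (m : EMor (fst X T) B B' q) (ha : IsBc a a') [CompactSpace X.left] [QuasiSeparatedSpace X.left]
    {Q : Prop} (x' : (X ⊗ T).left) :
    (∃ n f, Good B' Q n f ∧ x' ∈ GLinSh.nonvanishing B'.π f) ↔
      ∃ n f, Good B Q n f ∧ (fst X T).left x' ∈ GLinSh.nonvanishing B.π f := by
  have hTa : IsAffine T.left := .of_isIso eT.hom
  have hTs : IsSeparated T.hom := inferInstance
  constructor
  · rintro ⟨n, f', hf', hx'⟩
    obtain ⟨Ω, _, _, _, u, hu⟩ := exists_sp K eT
    have hus : Surjective (X ◁ u).left := MorphismProperty.of_isPullback (isPullback_snd_left (G := X) u) hu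
    obtain ⟨x'', hx''⟩ := hus.surj x'
    let a'' := actT a (sp k Ω)
    have ha'' := isBc_actT a (sp k Ω)
    let B'' := pull a'' (fst X (sp k Ω)) ha''.fst B
    have m'' : EMor (fst X (sp k Ω)) B B'' (pq (fst X (sp k Ω)) B) := EMor.of_mor (mor_pull _ _ _)
    obtain ⟨θ, mθ, h1, h2⟩ := exists_lift m m'' (X ◁ u) (whiskerLeft_fst _ _) (ha.whisker ha'' u)
    have haff : IsAffineHom (X ◁ u).left := by
      have : IsAffineHom u.left := inferInstance
      exact MorphismProperty.of_isPullback (isPullback_snd_left (G := X) u) this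
    have hg : Good B'' Q n (θ.left.appTop f') :=
      mθ.good (fun U _ hU => closedOrbitsOn_whisker ha ha'' u U hU) hf'
    have hVc : CompactSpace B.V.left := by
      have := QuasiCompact.compactSpace_of_compactSpace B.π.left
      exact this
    have hVq : QuasiSeparatedSpace B.V.left := quasiSeparatedSpace_of_quasiSeparated B.π.left
    obtain ⟨v, hv, hxv⟩ := exists_desc Ω m'' ha'' hg (x' := x'') (by
      rw [mθ.nonvanishing hf'.1.1]
      change (X ◁ u).left x'' ∈ GLinSh.nonvanishing B'.π f'
      rw [hx'']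
      exact hx')
    refine ⟨n, v, hv, ?_⟩
    rw [← hx'', ← comp_left_apply, whiskerLeft_fst]
    exact hxv
  · rintro ⟨n, f, hf, hx⟩
    have haff : IsAffineHom (fst X T).left := by
      have : IsAffineHom T.hom := inferInstance
      exact MorphismProperty.of_isPullback (IsPullback.of_hasPullback X.hom T.hom).flip this
    refine ⟨n, q.left.appTop f, m.good (fun U _ hU => closedOrbitsOn_fst ha U hU) hf, ?_⟩
    rw [m.nonvanishing hf.1.1]
    exact hx

theorem ssLocus_eq [PerfectField k] (K : Type u) [Field K] (eT : T.left ≅ Spec (CommRingCat.of K))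
    (m : EMor (fst X T) B B' q) (ha : IsBc a a') [CompactSpace X.left] [QuasiSeparatedSpace X.left] :
    B'.ssLocus = (fst X T).left.base ⁻¹' B.ssLocus := by
  ext x'
  exact mem_ssLocus_iff.trans ((exists_good_iff K eT m ha x').trans mem_ssLocus_iff.symm)

theorem sLocus_eq [PerfectField k] (K : Type u) [Field K] (eT : T.left ≅ Spec (CommRingCat.of K))
    (m : EMor (fst X T) B B' q) (ha : IsBc a a') [CompactSpace X.left] [QuasiSeparatedSpace X.left] :
    B'.sLocus = (fst X T).left.base ⁻¹' B.sLocus := by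
  ext x'
  exact mem_sLocus_iff.trans ((exists_good_iff K eT m ha x').trans mem_sLocus_iff.symm)

end General

end K701.FieldMain
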