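import Groth.Agent.GIT.K701.MorE
import Groth.Agent.GIT.K688.RosUnits
import Groth.Agent.GIT.K688.LinLift
import Groth.Agent.Sga3.H816.UnitLoc

/-!
# Two linear liftings of an action agree if there are no characters, over a reduced base
-/

set_option autoImplicit false

universe u

open CategoryTheory CategoryTheory.Limits MonoidalCategory CartesianMonoidalCategory MonObj GrpObj AlgebraicGeometry
  TopologicalSpace Opposite

namespace K701.LinUniq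

open K689.PullBun K689.Compat K689.LinBunBasic K689.ActBasic K689.Weight K689.CoordUP K689.SchGlue K689.Coord K689.Ratio
  K701.WtComp K701.Bun K701.MorE

theorem appLE_top {X Y : Scheme.{u}} (f : X ⟶ Y) (e : (⊤ : X.Opens) ≤ f ⁻¹ᵁ (⊤ : Y.Opens)) :
    f.appLE ⊤ ⊤ e = f.appTop := by
  rw [Scheme.Hom.appLE]
  exact (congrArg (f.app ⊤ ≫ ·) (X.presheaf.map_id _)).trans (Category.comp_id _)

section Unit

variable {k : Type u} [Field k] {G X : Over (Spec (CommRingCat.of k))} [GrpObj G]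

/-- units on `G × U` which are equal to one along the unit section are equal to one -/
theorem unit_eq_one [Smooth G.hom] [LocallyOfFiniteType X.hom] [IsReduced X.left]
    (hconn : ∀ (K : Type u) [Field K] [IsAlgClosed K] (f : Spec (CommRingCat.of K) ⟶ Spec (CommRingCat.of k)),
      ConnectedSpace (Red.bc f G).left)
    (hχ : ∀ (K : Type u) [Field K] [IsAlgClosed K] (f : Spec (CommRingCat.of K) ⟶ Spec (CommRingCat.of k))
      (χ : Red.bc f G ⟶ Red.Gm (Spec (CommRingCat.of K))) [IsMonHom χ], χ = 1)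
    (U : X.left.Opens) (c : Γ((G ⊗ X).left, (snd G X).left ⁻¹ᵁ U)) (hc : IsUnit c)
    (le : U ≤ (lift (1 : X ⟶ G) (𝟙 X)).left ⁻¹ᵁ ((snd G X).left ⁻¹ᵁ U))
    (h1 : (lift (1 : X ⟶ G) (𝟙 X)).left.appLE ((snd G X).left ⁻¹ᵁ U) U le c = 1) : c = 1 := by
  have hred : IsReduced (G ⊗ X).left := K688.LinLift.isReduced_tensor G X
  rw [← sub_eq_zero, ← basicOpen_eq_bot_iff, ← Opens.not_nonempty_iff_eq_bot]
  rintro ⟨z, hz⟩
  let Ω := AlgebraicClosure ((G ⊗ X).left.residueField z)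
  let p : Spec (CommRingCat.of Ω) ⟶ (G ⊗ X).left :=
    Spec.map (CommRingCat.ofHom (algebraMap ((G ⊗ X).left.residueField z) Ω)) ≫ (G ⊗ X).left.fromSpecResidueField z
  have hp : ∀ t, p t = z := fun t => by
    change ((G ⊗ X).left.fromSpecResidueField z) _ = z
    exact Scheme.fromSpecResidueField_apply _ _
  let f := p ≫ (G ⊗ X).hom
  let T : Over (Spec (CommRingCat.of k)) := Over.mk f
  let P : T ⟶ G ⊗ X := Over.homMk p rfl
  let E : Over (Spec (CommRingCat.of k)) := Over.mk ((Red.bc f G).hom ≫ f)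
  let α : E ⟶ G := Over.homMk (pullback.fst G.hom f) pullback.condition
  let β : E ⟶ T := Over.homMk (Red.bc f G).hom rfl
  let x : T ⟶ X := P ≫ snd G X
  let r : E ⟶ G ⊗ X := lift α (β ≫ x)
  have hzU : (snd G X).left z ∈ U := (G ⊗ X).left.basicOpen_le _ hz
  have hx : ∀ t, x.left t ∈ U := fun t => by
    have : x.left t = (snd G X).left (p t) := by
      change (P ≫ snd G X).left t = _
      rw [Over.comp_left, Scheme.Hom.comp_apply]
      rfl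
    rw [this, hp]
    exact hzU
  have hr2 : r ≫ snd G X = β ≫ x := lift_snd _ _
  have hr : (⊤ : E.left.Opens) ≤ r.left ⁻¹ᵁ ((snd G X).left ⁻¹ᵁ U) := fun e _ => by
    have : (snd G X).left (r.left e) = x.left (β.left e) := by
      rw [← Scheme.Hom.comp_apply, ← Scheme.Hom.comp_apply, ← Over.comp_left, ← Over.comp_left, hr2]
    change (snd G X).left (r.left e) ∈ U
    rw [this]
    exact hx _
  let u : Γ(E.left, ⊤) := r.left.appLE ((snd G X).left ⁻¹ᵁ U) ⊤ hr c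
  have hu : IsUnit u := hc.map _
  -- the value at the unit section
  let η' : T ⟶ E := Over.homMk (η[Red.bc f G] : 𝟙_ (Over (Spec (CommRingCat.of Ω))) ⟶ Red.bc f G).left (by
    change η[Red.bc f G].left ≫ (Red.bc f G).hom ≫ f = f
    rw [← Category.assoc, Over.w]
    exact Category.id_comp _)
  have e1 : η' ≫ α = 1 := by
    ext1
    change η[Red.bc f G].left ≫ pullback.fst G.hom f = _
    rw [Groth.Agent.Sga3.H816.UnitLoc.one_bc_left f G, Hom.one_def, Over.comp_left]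
    rfl
  have e2 : η' ≫ β = 𝟙 T := by
    ext1
    change η[Red.bc f G].left ≫ (Red.bc f G).hom = 𝟙 _
    rw [Over.w]
    rfl
  have e3 : η' ≫ r = x ≫ lift (1 : X ⟶ G) (𝟙 X) := by
    rw [comp_lift, comp_lift, e1, ← Category.assoc, e2, Category.id_comp, Category.comp_id, MonObj.comp_one]
  have e4 : η[Red.bc f G].left.appTop u = 1 := by
    have hη : η[Red.bc f G].left.appTop u = η'.left.appLE ⊤ ⊤ le_top u := by
      have : η'.left.appLE ⊤ ⊤ le_top = η'.left.appTop :=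
        appLE_top _ _
      rw [this]
      rfl
    have l1 : (⊤ : T.left.Opens) ≤ x.left ⁻¹ᵁ U := fun t _ => hx t
    have l2 : (⊤ : T.left.Opens) ≤ (η'.left ≫ r.left) ⁻¹ᵁ ((snd G X).left ⁻¹ᵁ U) := le_top.trans (η'.left.preimage_mono hr)
    have l3 : (⊤ : T.left.Opens) ≤ (x.left ≫ (lift (1 : X ⟶ G) (𝟙 X)).left) ⁻¹ᵁ ((snd G X).left ⁻¹ᵁ U) :=
      l1.trans (x.left.preimage_mono le)
    rw [hη, appLE_appLE η'.left r.left hr le_top l2,
      appLE_hom_congr (f' := x.left ≫ (lift (1 : X ⟶ G) (𝟙 X)).left) (by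
        rw [← Over.comp_left, ← Over.comp_left, e3]) l2 l3,
      ← appLE_appLE x.left (lift (1 : X ⟶ G) (𝟙 X)).left le l1 l3, h1, map_one]
  have hG1 : Smooth (Red.bc f G).hom := inferInstanceAs (Smooth (pullback.snd G.hom f))
  have hG2 : ConnectedSpace (Red.bc f G).left := hconn Ω f
  have hu1 : u = 1 := K688.RosUnits.eq_one_of_no_character (Red.bc f G) (hχ Ω f) u hu e4
  -- the value at `z`
  let gm : T ⟶ E := Over.homMk (pullback.lift (P ≫ fst G X).left (𝟙 T.left) (by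
    rw [Over.w]
    exact (Category.id_comp _).symm)) (by
      change pullback.lift _ _ _ ≫ pullback.snd G.hom f ≫ f = f
      rw [pullback.lift_snd_assoc]
      exact Category.id_comp _)
  have e5 : gm ≫ α = P ≫ fst G X := by
    ext1
    exact pullback.lift_fst _ _ _
  have e6 : gm ≫ β = 𝟙 T := by
    ext1
    exact pullback.lift_snd _ _ _
  have e7 : gm ≫ r = P := by
    rw [comp_lift, e5, ← Category.assoc, e6, Category.id_comp]
    apply CartesianMonoidalCategory.hom_ext <;> simp [x]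
  have l4 : (⊤ : T.left.Opens) ≤ (gm.left ≫ r.left) ⁻¹ᵁ ((snd G X).left ⁻¹ᵁ U) := le_top.trans (gm.left.preimage_mono hr)
  have l5 : (⊤ : T.left.Opens) ≤ P.left ⁻¹ᵁ ((snd G X).left ⁻¹ᵁ U) := fun t _ => by
    change (snd G X).left (p t) ∈ U
    rw [hp]; exact hzU
  have e8 : P.left.appLE ((snd G X).left ⁻¹ᵁ U) ⊤ l5 c = 1 := by
    have := appLE_appLE gm.left r.left hr le_top l4 c
    rw [appLE_hom_congr (f' := P.left) (by rw [← Over.comp_left, e7]) l4 l5] at this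
    rw [← this]
    change gm.left.appLE ⊤ ⊤ le_top u = 1
    rw [hu1, map_one]
  have e9 : P.left.appLE ((snd G X).left ⁻¹ᵁ U) ⊤ l5 (c - 1) = 0 := by rw [map_sub, e8, map_one, sub_self]
  have e10 := Scheme.basicOpen_appLE P.left ⊤ ((snd G X).left ⁻¹ᵁ U) l5 (c - 1)
  rw [e9, Scheme.basicOpen_zero] at e10
  have e11 : (IsLocalRing.closedPoint Ω : T.left) ∈ (⊥ : T.left.Opens) := by
    rw [e10]
    refine ⟨trivial, ?_⟩
    exact (congrArg (· ∈ (G ⊗ X).left.basicOpen (c - 1)) (hp _)).mpr hz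
  exact e11

end Unit

section Sch

variable {X V X' V' : Scheme.{u}} {p : V ⟶ X} {p' : V' ⟶ X'} [IsAffineHom p] [IsAffineHom p'] {h : X' ⟶ X}
  {q : V' ⟶ V} {chart : ∀ U : X.Opens, Set (Γ(V, p ⁻¹ᵁ U))} {chart' : ∀ U : X'.Opens, Set (Γ(V', p' ⁻¹ᵁ U))}

theorem crd_pull (m : MorS p p' h q chart chart') (A : Atl p chart) (A' : Atl p' chart') {U : X.Opens}
    {y : Γ(V, p ⁻¹ᵁ U)} (hy : Crd p chart U y) :
    Crd p' chart' (h ⁻¹ᵁ U) (q.appLE (p ⁻¹ᵁ U) (p' ⁻¹ᵁ (h ⁻¹ᵁ U)) (sqle m.comm U) y) :=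
  ⟨m.wt A A' hy.1, by
    rw [m.nv A A' hy.1]
    exact fun x hx => hy.2 hx⟩

end Sch

section Act

variable {k : Type u} [Field k] {G X V : Over (Spec (CommRingCat.of k))} [GrpObj G] {π : V ⟶ X}
  {a : AlgGrp.Action G X}

/-- two linear liftings of an action on a reduced scheme agree if the group has no characters -/
theorem act_eq [Smooth G.hom] [LocallyOfFiniteType X.hom] [IsReduced X.left]
    (hconn : ∀ (K : Type u) [Field K] [IsAlgClosed K] (f : Spec (CommRingCat.of K) ⟶ Spec (CommRingCat.of k)),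
      ConnectedSpace (Red.bc f G).left)
    (hχ : ∀ (K : Type u) [Field K] [IsAlgClosed K] (f : Spec (CommRingCat.of K) ⟶ Spec (CommRingCat.of k))
      (χ : Red.bc f G ⟶ Red.Gm (Spec (CommRingCat.of K))) [IsMonHom χ], χ = 1)
    (A : GLinSh.LinAtlas π)
    (Φ₁ Φ₂ : AlgGrp.Action G V) (h₁ : Φ₁.act ≫ π = (G ◁ π) ≫ a.act) (h₂ : Φ₂.act ≫ π = (G ◁ π) ≫ a.act)
    (hl₁ : GLinSh.IsLinearLift a π Φ₁ A.chart h₁) (hl₂ : GLinSh.IsLinearLift a π Φ₂ A.chart h₂) :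
    Φ₁.act = Φ₂.act := by
  let B₁ : GLinSh.LinBun G a := ⟨V, π, A, Φ₁, h₁, hl₁⟩
  let B₂ : GLinSh.LinBun G a := ⟨V, π, A, Φ₂, h₂, hl₂⟩
  have hπ : IsAffineHom π.left := A.affine
  have hGπ : IsAffineHom (G ◁ π).left := isAffineHom_whisker B₁
  let ch := gchart B₁
  have hA : Atl (G ◁ π).left ch := gatl B₁
  have m1 : MorS π.left (G ◁ π).left (snd G X).left (snd G V).left A.chart ch := morS_snd B₁
  have m2 : MorS π.left (G ◁ π).left a.act.left Φ₁.act.left A.chart ch := morS_act B₁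
  have m3 : MorS π.left (G ◁ π).left a.act.left Φ₂.act.left A.chart ch := morS_act B₂
  have ms : MorS (G ◁ π).left (G ◁ π).left (shear a).left (shear Φ₁).left ch ch :=
    MorS.of_comp m1 m2 (atl A) hA hA (shear Φ₁).left (shear a).left
      (by rw [← Over.comp_left, ← Over.comp_left, shear_whisker a Φ₁ π h₁])
      (by rw [← Over.comp_left, shear_snd]) (by rw [← Over.comp_left, shear_snd])
  let Ψ : G ⊗ V ⟶ V := shear Φ₁ ≫ Φ₂.act
  have hΨ : Ψ ≫ π = (G ◁ π) ≫ snd G X := by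
    rw [Category.assoc, h₂, ← Category.assoc, shear_whisker a Φ₁ π h₁, Category.assoc, act_shear]
  have hsnd : snd G V ≫ π = (G ◁ π) ≫ snd G X := (whiskerLeft_snd _ _).symm
  -- comparison of coordinates
  have key : ∀ (U : X.left.Opens) (y : Γ(V.left, π.left ⁻¹ᵁ U)) (_ : y ∈ A.chart U)
      (l1 : (G ◁ π).left ⁻¹ᵁ ((snd G X).left ⁻¹ᵁ U) ≤ Ψ.left ⁻¹ᵁ (π.left ⁻¹ᵁ U))
      (l2 : (G ◁ π).left ⁻¹ᵁ ((snd G X).left ⁻¹ᵁ U) ≤ (snd G V).left ⁻¹ᵁ (π.left ⁻¹ᵁ U)),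
      Ψ.left.appLE (π.left ⁻¹ᵁ U) ((G ◁ π).left ⁻¹ᵁ ((snd G X).left ⁻¹ᵁ U)) l1 y =
        (snd G V).left.appLE (π.left ⁻¹ᵁ U) ((G ◁ π).left ⁻¹ᵁ ((snd G X).left ⁻¹ᵁ U)) l2 y := by
    intro U y hy l1 l2
    have c1 : Crd (G ◁ π).left ch ((snd G X).left ⁻¹ᵁ U)
        ((snd G V).left.appLE (π.left ⁻¹ᵁ U) ((G ◁ π).left ⁻¹ᵁ ((snd G X).left ⁻¹ᵁ U)) l2 y) := m1.crd U y hy
    have hle : (snd G X).left ⁻¹ᵁ U ≤ (shear a).left ⁻¹ᵁ (a.act.left ⁻¹ᵁ U) := by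
      have : (shear a).left ⁻¹ᵁ (a.act.left ⁻¹ᵁ U) = (shear a ≫ a.act).left ⁻¹ᵁ U := rfl
      rw [this, act_shear]
    have c2 := (crd_pull ms hA hA (m3.crd U y hy)).restrict hle
    have e2 : rs (G ◁ π).left hle ((shear Φ₁).left.appLE _ _ (sqle ms.comm _)
        (Φ₂.act.left.appLE (π.left ⁻¹ᵁ U) ((G ◁ π).left ⁻¹ᵁ (a.act.left ⁻¹ᵁ U)) (sqle m3.comm U) y)) =
        Ψ.left.appLE (π.left ⁻¹ᵁ U) ((G ◁ π).left ⁻¹ᵁ ((snd G X).left ⁻¹ᵁ U)) l1 y := by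
      have l3 : (G ◁ π).left ⁻¹ᵁ ((shear a).left ⁻¹ᵁ (a.act.left ⁻¹ᵁ U)) ≤
          ((shear Φ₁).left ≫ Φ₂.act.left) ⁻¹ᵁ (π.left ⁻¹ᵁ U) :=
        (sqle ms.comm _).trans ((shear Φ₁).left.preimage_mono (sqle m3.comm U))
      rw [appLE_appLE (shear Φ₁).left Φ₂.act.left (sqle m3.comm U) (sqle ms.comm _) l3]
      exact rsec_appLE _ _ _ _ _
    rw [e2] at c2
    obtain ⟨c, hc, e⟩ := c1.exists_unit hA c2
    -- restriction to the unit section
    let eV : V ⟶ G ⊗ V := lift 1 (𝟙 V)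
    let eX : X ⟶ G ⊗ X := lift 1 (𝟙 X)
    have hle1 : U ≤ eX.left ⁻¹ᵁ ((snd G X).left ⁻¹ᵁ U) := by
      have : eX.left ⁻¹ᵁ ((snd G X).left ⁻¹ᵁ U) = (eX ≫ snd G X).left ⁻¹ᵁ U := rfl
      rw [this, lift_snd]
      exact le_rfl
    have hcomm : π ≫ eX = eV ≫ (G ◁ π) := by
      apply CartesianMonoidalCategory.hom_ext <;> simp [eX, eV, MonObj.comp_one]
    have hle2 : π.left ⁻¹ᵁ U ≤ eV.left ⁻¹ᵁ ((G ◁ π).left ⁻¹ᵁ ((snd G X).left ⁻¹ᵁ U)) := by
      have : eV.left ⁻¹ᵁ ((G ◁ π).left ⁻¹ᵁ ((snd G X).left ⁻¹ᵁ U)) = (eV ≫ (G ◁ π)).left ⁻¹ᵁ ((snd G X).left ⁻¹ᵁ U) := rfl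
      rw [this, ← hcomm]
      exact π.left.preimage_mono hle1
    have hV1 : eV ≫ Ψ = 𝟙 V := by
      have : eV ≫ shear Φ₁ = lift 1 (𝟙 V) := by
        apply CartesianMonoidalCategory.hom_ext
        · rw [Category.assoc, shear_fst, lift_fst, GrpObj.comp_inv, lift_fst, inv_one]
        · rw [Category.assoc, shear_snd, lift_snd]
          exact lift_one_act Φ₁ (𝟙 V)
      change eV ≫ shear Φ₁ ≫ Φ₂.act = _
      rw [← Category.assoc, this]
      exact lift_one_act Φ₂ (𝟙 V)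
    have hV2 : eV ≫ snd G V = 𝟙 V := lift_snd _ _
    have hres : eX.left.appLE ((snd G X).left ⁻¹ᵁ U) U hle1 c = 1 := by
      have e3 := congrArg (eV.left.appLE _ _ hle2) e
      rw [map_mul] at e3
      have l4 : π.left ⁻¹ᵁ U ≤ (eV.left ≫ Ψ.left) ⁻¹ᵁ (π.left ⁻¹ᵁ U) := hle2.trans (eV.left.preimage_mono l1)
      have l5 : π.left ⁻¹ᵁ U ≤ (eV.left ≫ (snd G V).left) ⁻¹ᵁ (π.left ⁻¹ᵁ U) :=
        hle2.trans (eV.left.preimage_mono l2)
      have l6 : π.left ⁻¹ᵁ U ≤ (𝟙 V.left) ⁻¹ᵁ (π.left ⁻¹ᵁ U) := le_rfl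
      rw [appLE_appLE eV.left Ψ.left l1 hle2 l4, appLE_appLE eV.left (snd G V).left l2 hle2 l5,
        appLE_hom_congr (f' := 𝟙 V.left) (by rw [← Over.comp_left, hV1]; rfl) l4 l6,
        appLE_hom_congr (f' := 𝟙 V.left) (by rw [← Over.comp_left, hV2]; rfl) l5 l6] at e3
      have e4 : (𝟙 V.left : V.left ⟶ V.left).appLE (π.left ⁻¹ᵁ U) (π.left ⁻¹ᵁ U) l6 y = y := by
        have : (𝟙 V.left : V.left ⟶ V.left).appLE (π.left ⁻¹ᵁ U) (π.left ⁻¹ᵁ U) l6 = 𝟙 _ := by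
          rw [Scheme.Hom.appLE, Scheme.Hom.id_app]
          exact (Category.id_comp _).trans (V.left.presheaf.map_id _)
        rw [this]
        rfl
      have e5 : eV.left.appLE _ _ hle2 ((G ◁ π).left.app ((snd G X).left ⁻¹ᵁ U) c) =
          π.left.app U (eX.left.appLE ((snd G X).left ⁻¹ᵁ U) U hle1 c) := by
        have l7 : π.left ⁻¹ᵁ U ≤ (eV.left ≫ (G ◁ π).left) ⁻¹ᵁ ((snd G X).left ⁻¹ᵁ U) := hle2
        have l8 : π.left ⁻¹ᵁ U ≤ (π.left ≫ eX.left) ⁻¹ᵁ ((snd G X).left ⁻¹ᵁ U) := π.left.preimage_mono hle1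
        rw [← Scheme.Hom.appLE_eq_app, ← Scheme.Hom.appLE_eq_app, appLE_appLE _ _ _ _ l7, appLE_appLE _ _ _ _ l8]
        exact appLE_hom_congr (by rw [← Over.comp_left, ← Over.comp_left, hcomm]) _ _ _
      rw [e4, e5] at e3
      have hcy : Crd π.left A.chart U y := Crd.of_adm (atl A) (adm_of_mem hy)
      refine ratio_unique (atl A) hcy.1 le_rfl hcy.2 _ _ ?_
      rw [rs_self, map_one, _root_.one_mul]
      exact e3.symm
    have hc1 := unit_eq_one hconn hχ U c hc hle1 hres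
    rw [e, hc1, map_one, _root_.one_mul]
  -- conclusion
  have hext : Ψ = snd G V := by
    ext1
    have hcov : ⨆ U : {U : X.left.Opens // ∃ y, y ∈ A.chart U},
        (G ◁ π).left ⁻¹ᵁ ((snd G X).left ⁻¹ᵁ U.1) = ⊤ := by
      rw [eq_top_iff]
      intro v _
      obtain ⟨U, hU, y, hy⟩ := A.cover ((snd G X).left ((G ◁ π).left v))
      exact Opens.mem_iSup.2 ⟨⟨U, y, hy⟩, hU⟩
    refine ((G ⊗ V).left.openCoverOfIsOpenCover _ (.mk hcov)).hom_ext _ _ fun U => ?_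
    obtain ⟨U, y, hy⟩ := U
    change ((G ◁ π).left ⁻¹ᵁ ((snd G X).left ⁻¹ᵁ U)).ι ≫ Ψ.left = ((G ◁ π).left ⁻¹ᵁ ((snd G X).left ⁻¹ᵁ U)).ι ≫
      (snd G V).left
    have l1 : (G ◁ π).left ⁻¹ᵁ ((snd G X).left ⁻¹ᵁ U) ≤ Ψ.left ⁻¹ᵁ (π.left ⁻¹ᵁ U) := by
      have : Ψ.left ⁻¹ᵁ (π.left ⁻¹ᵁ U) = (Ψ ≫ π).left ⁻¹ᵁ U := rfl
      rw [this, hΨ]
      exact le_rfl
    have l2 : (G ◁ π).left ⁻¹ᵁ ((snd G X).left ⁻¹ᵁ U) ≤ (snd G V).left ⁻¹ᵁ (π.left ⁻¹ᵁ U) := by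
      have : (snd G V).left ⁻¹ᵁ (π.left ⁻¹ᵁ U) = (snd G V ≫ π).left ⁻¹ᵁ U := rfl
      rw [this, hsnd]
      exact le_rfl
    let O := (G ◁ π).left ⁻¹ᵁ ((snd G X).left ⁻¹ᵁ U)
    have hO : (⊤ : O.toScheme.Opens) ≤ O.ι ⁻¹ᵁ O := by simp
    have hs : (⊤ : O.toScheme.Opens) ≤ (O.ι ≫ Ψ.left) ⁻¹ᵁ (π.left ⁻¹ᵁ U) := hO.trans (O.ι.preimage_mono l1)
    have hs' : (⊤ : O.toScheme.Opens) ≤ (O.ι ≫ (snd G V).left) ⁻¹ᵁ (π.left ⁻¹ᵁ U) := hO.trans (O.ι.preimage_mono l2)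
    refine (IsCoord.up (A.coord U y hy : IsCoord π.left U y)).2 _ _ hs hs' ?_ ?_
    · rw [Category.assoc, Category.assoc, ← Over.comp_left, ← Over.comp_left, hΨ, hsnd]
    · rw [ev, ev, ← appLE_appLE O.ι Ψ.left l1 hO hs, ← appLE_appLE O.ι (snd G V).left l2 hO hs', key U y hy l1 l2]
  calc Φ₁.act = shear Φ₁ ≫ snd G V := (shear_snd Φ₁).symm
    _ = shear Φ₁ ≫ Ψ := by rw [hext]
    _ = Φ₂.act := by rw [← Category.assoc, shear_shear, Category.id_comp]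

end Act

end K701.LinUniq
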