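import Groth.Agent.GIT.K701.Bun
import Groth.Agent.GIT.K701.ClOrb

/-!
# Equivariant morphisms of linearised line bundles (up to units); the two-out-of-three property
-/

set_option autoImplicit false

universe u

open CategoryTheory CategoryTheory.Limits MonoidalCategory CartesianMonoidalCategory MonObj GrpObj AlgebraicGeometry
  TopologicalSpace Opposite

namespace K701.MorE

open K689.SchGlue K689.Coord K689.CoordUP K689.Weight K689.Ratio K689.PullBun K689.Compat K689.LinBunBasic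
  K689.ActBasic K689.InvRatio K689.Avoid K701.WtComp K701.Bun

section Sch

variable {X V : Scheme.{u}} {p : V ⟶ X} [IsAffineHom p] {chart : ∀ U : X.Opens, Set (Γ(V, p ⁻¹ᵁ U))}

theorem nv_base (A : Atl p chart) {W : X.Opens} (c : Γ(X, W)) : nv p (p.app W c) = X.basicOpen c := by
  ext x
  by_cases hx : x ∈ W
  · obtain ⟨W', hW', y', hWa, hxW', hy'⟩ := A.exists_adm hx
    have i1 : nv p (p.app W c) ∩ W' = X.basicOpen (rsec hW' c) := by
      have := nv_adm (n := 0) A hy' (rsec hW' c)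
      rw [pow_zero, _root_.mul_one] at this
      rw [← nv_rs hW', rs_app, this]
    have i2 : X.basicOpen (rsec hW' c) = W' ⊓ X.basicOpen c := X.basicOpen_res _ _
    rw [i2] at i1
    constructor
    · intro hh
      have : x ∈ nv p (p.app W c) ∩ W' := ⟨hh, hxW'⟩
      rw [i1] at this
      exact this.2
    · intro hh
      have : x ∈ nv p (p.app W c) ∩ W' := by rw [i1]; exact ⟨hxW', hh⟩
      exact this.1
  · constructor
    · intro hh; exact absurd (nv_subset _ hh) hx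
    · intro hh; exact absurd (X.basicOpen_le _ hh) hx

theorem _root_.K701.WtComp.Crd.unit_mul (A : Atl p chart) {W : X.Opens} {y : Γ(V, p ⁻¹ᵁ W)} (hy : Crd p chart W y)
    {r : Γ(X, W)} (hr : IsUnit r) : Crd p chart W (p.app W r * y) := by
  have h0 : Wt p chart (0 + 1) W (p.app W r * y) := (Wt.base r).mul hy.1
  refine ⟨h0, ?_⟩
  rw [nv_mul A (Wt.base r) hy.1, nv_base A, X.basicOpen_of_isUnit hr]
  exact fun x hx => ⟨hx, hy.2 hx⟩

theorem _root_.K701.WtComp.Crd.of_local (A : Atl p chart) {W : X.Opens} {y : Γ(V, p ⁻¹ᵁ W)}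
    (h : ∀ x ∈ W, ∃ (W' : X.Opens) (h : W' ≤ W), x ∈ W' ∧ Crd p chart W' (rs p h y)) : Crd p chart W y := by
  refine ⟨Wt.of_local A fun x hx => ?_, fun x hx => ?_⟩
  · obtain ⟨W', h', hxW', hc⟩ := h x hx
    exact ⟨W', h', hxW', hc.1⟩
  · obtain ⟨W', h', hxW', hc⟩ := h x hx
    have := hc.2 hxW'
    rw [nv_rs] at this
    exact this.1

/-- two nowhere vanishing functions of weight one differ by a unit -/
theorem _root_.K701.WtComp.Crd.exists_unit (A : Atl p chart) {W : X.Opens} {y y' : Γ(V, p ⁻¹ᵁ W)}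
    (hy : Crd p chart W y) (hy' : Crd p chart W y') : ∃ r : Γ(X, W), IsUnit r ∧ y' = p.app W r * y := by
  obtain ⟨r, hr⟩ := exists_ratio A hy'.1 hy.1 hy.2
  refine ⟨r, ?_, hr⟩
  have h1 := basicOpen_ratio A hy.1 hy.2 r hr
  have h2 : X.basicOpen r = W := by
    apply le_antisymm (X.basicOpen_le r)
    intro x hx
    change x ∈ (X.basicOpen r : Set X)
    rw [h1]
    exact hy'.2 hx
  exact RingedSpace.isUnit_of_isUnit_germ _ _ _ (fun x hx => by
    have h3 : x ∈ X.basicOpen r := by rw [h2]; exact hx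
    exact (X.mem_basicOpen r x hx).1 h3)

variable {X' V' X'' V'' : Scheme.{u}} {p' : V' ⟶ X'} {p'' : V'' ⟶ X''} [IsAffineHom p'] [IsAffineHom p'']
  {h : X' ⟶ X} {q : V' ⟶ V} {h'' : X'' ⟶ X} {q'' : V'' ⟶ V}
  {chart' : ∀ U : X'.Opens, Set (Γ(V', p' ⁻¹ᵁ U))} {chart'' : ∀ U : X''.Opens, Set (Γ(V'', p'' ⁻¹ᵁ U))}

omit [IsAffineHom p] in
theorem isCoord_unit_mul {W : X.Opens} {y : Γ(V, p ⁻¹ᵁ W)} (hy : IsCoord p W y) {d : Γ(X, W)} (hd : IsUnit d) :
    IsCoord p W (p.app W d * y) := by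
  intro W' hW' hW'W
  have hd' : IsUnit (rsec hW'W d) := hd.map _
  obtain ⟨u, hu⟩ := hd'
  rw [rs_mul, rs_app, ← hu]
  have h1 : ⇑(Polynomial.eval₂RingHom (p.app W').hom (p.app W' (u : Γ(X, W')) * rs p hW'W y)) =
      ⇑(Polynomial.eval₂RingHom (p.app W').hom (rs p hW'W y)) ∘
        (fun Q => Q.comp (Polynomial.C (u : Γ(X, W')) * Polynomial.X)) := by
    funext Q
    exact eval₂_mul_coord Q _ _
  rw [h1]
  refine (hy W' hW' hW'W).comp ?_
  have e1 : (Polynomial.C (u : Γ(X, W')) * Polynomial.X).comp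
      (Polynomial.C ((u⁻¹ : Γ(X, W')ˣ) : Γ(X, W')) * Polynomial.X) = Polynomial.X := by
    rw [Polynomial.mul_comp, Polynomial.C_comp, Polynomial.X_comp, ← _root_.mul_assoc, ← Polynomial.C_mul,
      Units.mul_inv, Polynomial.C_1, _root_.one_mul]
  have e2 : (Polynomial.C ((u⁻¹ : Γ(X, W')ˣ) : Γ(X, W')) * Polynomial.X).comp
      (Polynomial.C (u : Γ(X, W')) * Polynomial.X) = Polynomial.X := by
    rw [Polynomial.mul_comp, Polynomial.C_comp, Polynomial.X_comp, ← _root_.mul_assoc, ← Polynomial.C_mul,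
      Units.inv_mul, Polynomial.C_1, _root_.one_mul]
  constructor
  · intro P Q hPQ
    have h2 := congrArg (fun R : Polynomial Γ(X, W') => R.comp (Polynomial.C ((u⁻¹ : Γ(X, W')ˣ) : Γ(X, W')) *
      Polynomial.X)) hPQ
    simp only [Polynomial.comp_assoc, e1, Polynomial.comp_X] at h2
    exact h2
  · intro Q
    refine ⟨Q.comp (Polynomial.C ((u⁻¹ : Γ(X, W')ˣ) : Γ(X, W')) * Polynomial.X), ?_⟩
    simp only [Polynomial.comp_assoc, e2, Polynomial.comp_X]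

omit [IsAffineHom p] [IsAffineHom p'] in
/-- the restriction of a pulled back coordinate -/
theorem crd_le (m : MorS p p' h q chart chart') {U : X.Opens} {y : Γ(V, p ⁻¹ᵁ U)} (hy : y ∈ chart U)
    {W : X'.Opens} (hW : W ≤ h ⁻¹ᵁ U) (le : p' ⁻¹ᵁ W ≤ q ⁻¹ᵁ (p ⁻¹ᵁ U)) :
    Crd p' chart' W (q.appLE (p ⁻¹ᵁ U) (p' ⁻¹ᵁ W) le y) := by
  have h1 := (m.crd U y hy).restrict hW
  have h2 : rs p' hW (q.appLE (p ⁻¹ᵁ U) (p' ⁻¹ᵁ (h ⁻¹ᵁ U)) (sqle m.comm U) y) =
      q.appLE (p ⁻¹ᵁ U) (p' ⁻¹ᵁ W) le y := rsec_appLE _ _ _ _ _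
  rwa [h2] at h1

omit [IsAffineHom p] in
theorem MorS.of_comp (m' : MorS p p' h q chart chart') (m'' : MorS p p'' h'' q'' chart chart'')
    (A : Atl p chart) (A' : Atl p' chart') (A'' : Atl p'' chart'') (θ : V'' ⟶ V') (g : X'' ⟶ X')
    (hc : p'' ≫ g = θ ≫ p') (hg : g ≫ h = h'') (hθ : θ ≫ q = q'') : MorS p' p'' g θ chart' chart'' where
  comm := hc
  crd := by
    intro U' y' hy'
    apply Crd.of_local A''
    intro x hx
    have hxx : h'' x = h (g x) := by rw [← hg]; rfl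
    obtain ⟨U, hxU, y, hy⟩ := A.cover (h'' x)
    let W' : X'.Opens := U' ⊓ h ⁻¹ᵁ U
    have hxW' : g x ∈ W' := ⟨hx, by
      change h (g x) ∈ U
      rw [← hxx]; exact hxU⟩
    have hW'U : W' ≤ h ⁻¹ᵁ U := inf_le_right
    have le1 : p' ⁻¹ᵁ W' ≤ q ⁻¹ᵁ (p ⁻¹ᵁ U) := (p'.preimage_mono hW'U).trans (sqle m'.comm U)
    have c1 : Crd p' chart' W' (q.appLE (p ⁻¹ᵁ U) (p' ⁻¹ᵁ W') le1 y) := crd_le m' hy hW'U le1
    have c2 : Crd p' chart' W' (rs p' (inf_le_left : W' ≤ U') y') :=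
      (Crd.of_adm A' (adm_of_mem hy')).restrict inf_le_left
    obtain ⟨r, hr, e⟩ := c1.exists_unit A' c2
    have hle : g ⁻¹ᵁ W' ≤ g ⁻¹ᵁ U' := g.preimage_mono inf_le_left
    refine ⟨g ⁻¹ᵁ W', hle, hxW', ?_⟩
    rw [← appLE_rs hc (inf_le_left : W' ≤ U') y', e, map_mul, appLE_base hc]
    have l1 : p'' ⁻¹ᵁ (g ⁻¹ᵁ W') ≤ (θ ≫ q) ⁻¹ᵁ (p ⁻¹ᵁ U) := (sqle hc W').trans (θ.preimage_mono le1)
    have l2 : p'' ⁻¹ᵁ (g ⁻¹ᵁ W') ≤ q'' ⁻¹ᵁ (p ⁻¹ᵁ U) := by rw [← hθ]; exact l1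
    have e2 : θ.appLE (p' ⁻¹ᵁ W') (p'' ⁻¹ᵁ (g ⁻¹ᵁ W')) (sqle hc W') (q.appLE (p ⁻¹ᵁ U) (p' ⁻¹ᵁ W') le1 y) =
        q''.appLE (p ⁻¹ᵁ U) (p'' ⁻¹ᵁ (g ⁻¹ᵁ W')) l2 y := by
      rw [appLE_appLE θ q le1 (sqle hc W') l1, appLE_hom_congr hθ l1 l2]
    rw [e2]
    apply Crd.unit_mul A''
    · apply crd_le m'' hy _ l2
      intro z hz
      have h3 : h (g z) ∈ U := hz.2
      change h'' z ∈ U
      rw [← hg]
      exact h3
    · exact hr.map (g.app W').hom

end Sch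

section Bun

variable {S : Scheme.{u}} {G X X' X'' : Over S} [GrpObj G] {a : AlgGrp.Action G X} {a' : AlgGrp.Action G X'}
  {a'' : AlgGrp.Action G X''}

/-- `q` over `h` is an equivariant morphism of linearised line bundles -/
structure EMor (h : X' ⟶ X) (B : GLinSh.LinBun G a) (B' : GLinSh.LinBun G a') (q : B'.V ⟶ B.V) : Prop where
  lift : B'.lift.act ≫ q = (G ◁ q) ≫ B.lift.act
  morS : MorS B.π.left B'.π.left h.left q.left B.atlas.chart B'.atlas.chart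

variable {h : X' ⟶ X} {B : GLinSh.LinBun G a} {B' : GLinSh.LinBun G a'} {q : B'.V ⟶ B.V}

theorem EMor.of_mor (m : Mor h B B' q) : EMor h B B' q := ⟨m.lift, morS_of_mor m⟩

theorem EMor.comm (m : EMor h B B' q) : B'.π ≫ h = q ≫ B.π := by
  ext1
  exact m.morS.comm

theorem EMor.hasWeight (m : EMor h B B' q) {n : ℕ} {f : Γ(B.V.left, ⊤)} (hf : GLinSh.HasWeight B.atlas.chart n f) :
    GLinSh.HasWeight B'.atlas.chart n (q.left.appTop f) := by
  rw [hasWeight_iff_comp]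
  have e := gwc_pull m.morS (atl B.atlas) (atl B'.atlas) n f
  have e2 : gwc (atl B.atlas) n f = f := comp_of_hasWeight B hf
  rw [e2] at e
  exact e.symm

theorem EMor.comp_pull (m : EMor h B B' q) (n : ℕ) (f : Γ(B.V.left, ⊤)) :
    q.left.appTop (comp B n f) = comp B' n (q.left.appTop f) :=
  gwc_pull m.morS (atl B.atlas) (atl B'.atlas) n f

theorem EMor.nonvanishing (m : EMor h B B' q) {n : ℕ} {f : Γ(B.V.left, ⊤)}
    (hf : GLinSh.HasWeight B.atlas.chart n f) :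
    GLinSh.nonvanishing B'.π (q.left.appTop f) = h.left.base ⁻¹' GLinSh.nonvanishing B.π f := by
  rw [nonvanishing_eq, nonvanishing_eq]
  exact nv_pull' m.morS (atl B.atlas) (atl B'.atlas) ((hasWeight_iff _ _ _).1 hf)

theorem EMor.isInvFn (m : EMor h B B' q) {f : Γ(B.V.left, ⊤)} (hf : GLinSh.IsInvFn B.lift f) :
    GLinSh.IsInvFn B'.lift (q.left.appTop f) := by
  have e1 : (B'.lift.act ≫ q).left = ((G ◁ q) ≫ B.lift.act).left := congrArg Over.Hom.left m.lift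
  have e2 : (snd G B'.V ≫ q).left = ((G ◁ q) ≫ snd G B.V).left := by rw [whiskerLeft_snd]
  have e3 := congrArg (fun φ : (G ⊗ B'.V).left ⟶ B.V.left => φ.appTop f) e1
  have e4 := congrArg (fun φ : (G ⊗ B'.V).left ⟶ B.V.left => φ.appTop f) e2
  simp only [Over.comp_left, Scheme.Hom.comp_appTop, CommRingCat.comp_apply] at e3 e4
  change B'.lift.act.left.appTop (q.left.appTop f) = (snd G B'.V).left.appTop (q.left.appTop f)
  rw [e3, e4]
  exact congrArg _ hf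

theorem EMor.isInvSection (m : EMor h B B' q) {n : ℕ} {f : Γ(B.V.left, ⊤)} (hf : B.IsInvSection n f) :
    B'.IsInvSection n (q.left.appTop f) :=
  ⟨m.hasWeight hf.1, m.isInvFn hf.2⟩

/-- pull-back of good sections -/
theorem EMor.good (m : EMor h B B' q) [IsAffineHom h.left] {Q : Prop}
    (hQ : ∀ U : X.left.Opens, Q → GLinSh.ClosedOrbitsOn a U → GLinSh.ClosedOrbitsOn a' (h.left ⁻¹ᵁ U)) {n : ℕ}
    {f : Γ(B.V.left, ⊤)} (hf : Good B Q n f) : Good B' Q n (q.left.appTop f) := by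
  obtain ⟨h1, hn, U, hU, hUa, hUc⟩ := hf
  refine ⟨m.isInvSection h1, hn, h.left ⁻¹ᵁ U, ?_, hUa.preimage _, fun hq => hQ U hq (hUc hq)⟩
  rw [m.nonvanishing h1.1, ← hU]
  rfl

theorem mem_ssLocus_iff {x : X.left} : x ∈ B.ssLocus ↔ ∃ n f, Good B False n f ∧ x ∈ GLinSh.nonvanishing B.π f := by
  constructor
  · rintro ⟨n, f, hn, hf, hx, U, hU, hUa⟩
    exact ⟨n, f, ⟨hf, Nat.one_le_iff_ne_zero.1 hn, U, hU, hUa, fun h => h.elim⟩, hx⟩
  · rintro ⟨n, f, ⟨hf, hn, U, hU, hUa, -⟩, hx⟩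
    exact ⟨n, f, Nat.one_le_iff_ne_zero.2 hn, hf, hx, U, hU, hUa⟩

theorem mem_sLocus_iff {x : X.left} : x ∈ B.sLocus ↔ ∃ n f, Good B True n f ∧ x ∈ GLinSh.nonvanishing B.π f := by
  constructor
  · rintro ⟨n, f, hn, hf, hx, U, hU, hUa, hc⟩
    exact ⟨n, f, ⟨hf, Nat.one_le_iff_ne_zero.1 hn, U, hU, hUa, fun _ => hc⟩, hx⟩
  · rintro ⟨n, f, ⟨hf, hn, U, hU, hUa, hc⟩, hx⟩
    exact ⟨n, f, Nat.one_le_iff_ne_zero.2 hn, hf, hx, U, hU, hUa, hc trivial⟩

variable {h'' : X'' ⟶ X} {B'' : GLinSh.LinBun G a''} {q'' : B''.V ⟶ B.V}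

theorem EMor.of_comp (m' : EMor h B B' q) (m'' : EMor h'' B B'' q'') (θ : B''.V ⟶ B'.V) (g : X'' ⟶ X')
    (hl : B''.lift.act ≫ θ = (G ◁ θ) ≫ B'.lift.act)
    (hc : B''.π ≫ g = θ ≫ B'.π) (hg : g ≫ h = h'') (hθ : θ ≫ q = q'') : EMor g B' B'' θ where
  lift := hl
  morS := MorS.of_comp m'.morS m''.morS (atl B.atlas) (atl B'.atlas) (atl B''.atlas) θ.left g.left
    (by rw [← Over.comp_left, ← Over.comp_left, hc]) (by rw [← Over.comp_left, hg]) (by rw [← Over.comp_left, hθ])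

/-- an equivariant morphism of linearised line bundles is cartesian -/
theorem EMor.isPullback (m : EMor h B B' q) : IsPullback q.left B'.π.left B.π.left h.left := by
  let c : B'.V.left ⟶ pullback B.π.left h.left := pullback.lift q.left B'.π.left m.morS.comm.symm
  have hc1 : c ≫ pullback.fst _ _ = q.left := pullback.lift_fst _ _ _
  have hc2 : c ≫ pullback.snd _ _ = B'.π.left := pullback.lift_snd _ _ _
  have : IsIso c := by
    have H := IsPullback.of_hasPullback B.π.left h.left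
    have haff : IsAffineHom (pullback.snd B.π.left h.left) := MorphismProperty.of_isPullback H inferInstance
    refine isIso_of_coord (p := pullback.snd B.π.left h.left) (p' := B'.π.left) c hc2 ?_
    intro x
    obtain ⟨U, hxU, y, hy⟩ := B.atlas.cover (h.left x)
    -- near `x` the pulled back coordinate is a unit times an admissible one
    have hcr := m.morS.crd U y hy
    have hxU' : x ∈ h.left ⁻¹ᵁ U := hxU
    obtain ⟨W, h1, h2, y₀, d, hW, hxW, hy₀, hd, -, e⟩ := exists_adm_unit (atl B'.atlas) hcr.1 (hcr.2 hxU') hxU'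
    rw [pow_one] at e
    have hle : pullback.snd B.π.left h.left ⁻¹ᵁ W ≤ pullback.fst B.π.left h.left ⁻¹ᵁ (B.π.left ⁻¹ᵁ U) :=
      ((pullback.snd B.π.left h.left).preimage_mono h1).trans (sqle H.w.symm U)
    refine ⟨W, (pullback.fst B.π.left h.left).appLE (B.π.left ⁻¹ᵁ U) _ hle y, hW, hxW,
      IsCoord.baseChange (B.atlas.coord U y hy : IsCoord B.π.left U y) H W h1 hle, ?_⟩
    intro le
    have h5 : c.appLE (pullback.snd B.π.left h.left ⁻¹ᵁ W) (B'.π.left ⁻¹ᵁ W) le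
        ((pullback.fst B.π.left h.left).appLE (B.π.left ⁻¹ᵁ U) _ hle y) =
        rs B'.π.left h1 (q.left.appLE (B.π.left ⁻¹ᵁ U) (B'.π.left ⁻¹ᵁ (h.left ⁻¹ᵁ U)) (sqle m.morS.comm U) y) := by
      have l1 : B'.π.left ⁻¹ᵁ W ≤ (c ≫ pullback.fst B.π.left h.left) ⁻¹ᵁ (B.π.left ⁻¹ᵁ U) := le.trans (c.preimage_mono hle)
      have l2 : B'.π.left ⁻¹ᵁ W ≤ q.left ⁻¹ᵁ (B.π.left ⁻¹ᵁ U) := by rw [← hc1]; exact l1
      rw [appLE_appLE c (pullback.fst B.π.left h.left) hle le l1, appLE_hom_congr hc1 l1 l2]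
      exact (rsec_appLE _ _ _ _ _).symm
    rw [h5, e]
    exact isCoord_unit_mul ((atl B'.atlas).adm_coord hy₀) hd
  exact IsPullback.of_iso (IsPullback.of_hasPullback B.π.left h.left) (asIso c).symm (Iso.refl _) (Iso.refl _)
    (Iso.refl _) (by simp [hc1]) (by simp [hc2]) (by simp) (by simp)

end Bun

end K701.MorE
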