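import Groth.Agent.GIT.K701.CosetGood
import Groth.Agent.GIT.K689.StabBC
import Groth.Agent.AlgGrp.K395.OrbLC
import Groth.Agent.Books.AlgPts
import Groth.Agent.Flat2B.SmoothGeom

/-!
# Orbits of an open subgroup are closed in orbits of the group
-/

set_option autoImplicit false
set_option linter.unusedSectionVars false

universe u

open CategoryTheory CategoryTheory.Limits MonoidalCategory CartesianMonoidalCategory MonObj GrpObj AlgebraicGeometry
  TopologicalSpace Opposite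

namespace K701.OpenOrb

open K689.ActBasic K701.Coset K701.CosetGood K701.ActT K689.StabBC Groth.Agent.Books.AlgPts

section Pts

variable {S : Scheme.{u}} {Ω : Type u} [Field Ω] [IsAlgClosed Ω]

/-- the geometric point of the base as an object over the base -/
noncomputable abbrev gp (g : Spec (CommRingCat.of Ω) ⟶ S) : Over S := Over.mk g

variable (g : Spec (CommRingCat.of Ω) ⟶ S)

/-- the point of the geometric point -/
noncomputable def cp : (gp g).left := (IsLocalRing.closedPoint Ω : PrimeSpectrum Ω)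

/-- rational points in locally closed subsets -/
theorem exists_section {Y : Over S} (q : Y ⟶ gp g) [LocallyOfFiniteType q.left] {C : Set Y.left}
    (hC : C.Nonempty) (hC' : IsLocallyClosed C) :
    ∃ s : gp g ⟶ Y, s ≫ q = 𝟙 _ ∧ s.left (cp g) ∈ C := by
  let Y' : Over (Spec (CommRingCat.of Ω)) := Over.mk q.left
  have h1 : LocallyOfFiniteType Y'.hom := ‹LocallyOfFiniteType q.left›
  obtain ⟨x, hx⟩ := exists_pt_mem (X := Y') (U := C) hC hC'
  have hw : x.left ≫ q.left = 𝟙 _ := Over.w x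
  let s : gp g ⟶ Y := Over.homMk x.left (by
    rw [← Over.w q, ← Category.assoc, hw]
    exact Category.id_comp _)
  refine ⟨s, ?_, hx⟩
  ext1
  exact hw

variable {G₀ G X : Over S} [GrpObj G₀] [GrpObj G] {i : G₀ ⟶ G} {a : AlgGrp.Action G X} {a₀ : AlgGrp.Action G₀ X}

/-- over a geometric point all rational points give a covering by cosets -/
theorem covers_all [LocallyOfFiniteType G.hom] [IsMonHom i] [IsOpenImmersion i.left] :
    Covers i (fun h : gp g ⟶ G => h) := by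
  intro w
  have hq : LocallyOfFiniteType (snd G (gp g)).left :=
    MorphismProperty.of_isPullback (IsPullback.of_hasPullback G.hom (gp g).hom) ‹LocallyOfFiniteType G.hom›
  obtain ⟨s, hs, hsw⟩ := exists_section g (snd G (gp g)) (C := closure {w}) ⟨w, subset_closure rfl⟩
    isClosed_closure.isLocallyClosed
  refine ⟨s ≫ fst G (gp g), ?_⟩
  have hs' : s = lift (s ≫ fst G (gp g)) (𝟙 _) := by
    apply CartesianMonoidalCategory.hom_ext
    · rw [lift_fst]
    · rw [lift_snd, hs]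
  have h1 : s ≫ kap (𝟙 _) (s ≫ fst G (gp g)) = 1 := by
    rw [comp_kap, Category.id_comp]
    have : s ≫ snd G (gp g) ≫ s ≫ fst G (gp g) = s ≫ fst G (gp g) := by
      rw [← Category.assoc, hs, Category.id_comp]
    rw [this, mul_inv_cancel]
  have h2 : s.left (cp g) ∈ (kap (𝟙 (gp g)) (s ≫ fst G (gp g))).left ⁻¹' Set.range i.left := by
    change (kap (𝟙 (gp g)) (s ≫ fst G (gp g))).left (s.left (cp g)) ∈ Set.range i.left
    have e : (1 : gp g ⟶ G) = (1 : gp g ⟶ G₀) ≫ i := (MonObj.one_comp i).symm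
    refine ⟨(1 : gp g ⟶ G₀).left (cp g), ?_⟩
    rw [← comp_left_apply, ← e, ← h1, comp_left_apply]
  have h3 : IsOpen ((kap (𝟙 (gp g)) (s ≫ fst G (gp g))).left ⁻¹' Set.range i.left) :=
    i.left.isOpenEmbedding.isOpen_range.preimage (kap (𝟙 (gp g)) (s ≫ fst G (gp g))).left.continuous
  obtain ⟨w', hw', hw''⟩ := mem_closure_iff.1 hsw _ h3 h2
  rw [Set.mem_singleton_iff] at hw''
  subst hw''
  exact hw'

theorem psi_translate (a₀ : AlgGrp.Action G₀ X) {Z : Over S} (k : Z ⟶ G₀) (f : Z ⟶ X) :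
    GIT.psi a₀ (lift k f ≫ a₀.act) = lift (fst G₀ Z * (snd G₀ Z ≫ k)) (snd G₀ Z) ≫ GIT.psi a₀ f := by
  have e1 : ∀ f : Z ⟶ X, G₀ ◁ f = lift (fst G₀ Z) (snd G₀ Z ≫ f) := fun f => by
    apply CartesianMonoidalCategory.hom_ext <;> simp
  have e2 : ∀ f : Z ⟶ X, GIT.psi a₀ f = lift (lift (fst G₀ Z) (snd G₀ Z ≫ f) ≫ a₀.act) (snd G₀ Z) := fun f => by
    rw [GIT.psi, e1]
  rw [e2, e2, comp_lift]
  congr 1
  · have e3 : lift (fst G₀ Z * (snd G₀ Z ≫ k)) (snd G₀ Z) ≫ lift (fst G₀ Z) (snd G₀ Z ≫ f) =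
        lift (fst G₀ Z * (snd G₀ Z ≫ k)) (snd G₀ Z ≫ f) := by
      rw [comp_lift, lift_fst, lift_snd_assoc]
    have hL : snd G₀ Z ≫ lift k f ≫ a₀.act = lift (snd G₀ Z ≫ k) (snd G₀ Z ≫ f) ≫ a₀.act := by
      rw [← Category.assoc, comp_lift]
    have hR : lift (fst G₀ Z * (snd G₀ Z ≫ k)) (snd G₀ Z) ≫ lift (fst G₀ Z) (snd G₀ Z ≫ f) ≫ a₀.act =
        lift (fst G₀ Z * (snd G₀ Z ≫ k)) (snd G₀ Z ≫ f) ≫ a₀.act := by
      rw [← Category.assoc, e3]
    rw [hL, hR, lift_mul_act]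
  · rw [lift_snd]

theorem range_translate_sub (a₀ : AlgGrp.Action G₀ X) {Z : Over S} (k : Z ⟶ G₀) (f : Z ⟶ X) :
    Set.range (GIT.psi a₀ (lift k f ≫ a₀.act)).left.base ⊆ Set.range (GIT.psi a₀ f).left.base := by
  rw [psi_translate]
  rintro _ ⟨w, rfl⟩
  exact ⟨_, (comp_left_apply _ _ w).symm⟩

/-- orbits which meet are equal -/
theorem range_eq_of_meet [LocallyOfFiniteType G₀.hom] (a₀ : AlgGrp.Action G₀ X) (f f' : gp g ⟶ X)
    {y : (X ⊗ gp g).left} (hy : y ∈ Set.range (GIT.psi a₀ f).left.base)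
    (hy' : y ∈ Set.range (GIT.psi a₀ f').left.base) :
    Set.range (GIT.psi a₀ f).left.base = Set.range (GIT.psi a₀ f').left.base := by
  obtain ⟨w, hw⟩ := hy
  obtain ⟨w', hw'⟩ := hy'
  have hq : LocallyOfFiniteType (snd G₀ (gp g)).left :=
    MorphismProperty.of_isPullback (IsPullback.of_hasPullback G₀.hom (gp g).hom) ‹LocallyOfFiniteType G₀.hom›
  have hps : ∀ f, LocallyOfFiniteType (GIT.psi a₀ f : G₀ ⊗ gp g ⟶ X ⊗ gp g).left := by
    intro f
    have h1 : (GIT.psi a₀ f).left ≫ (snd X (gp g)).left = (snd G₀ (gp g)).left := by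
      rw [← Over.comp_left, GIT.psi, lift_snd]
    have : LocallyOfFiniteType ((GIT.psi a₀ f).left ≫ (snd X (gp g)).left) := by rw [h1]; exact hq
    exact locallyOfFiniteType_of_comp _ (snd X (gp g)).left
  have hf1 := hps f
  have hf2 := hps f'
  let P : Over S := Over.mk (pullback.fst (GIT.psi a₀ f).left (GIT.psi a₀ f').left ≫ (G₀ ⊗ gp g).hom)
  let p1 : P ⟶ G₀ ⊗ gp g := Over.homMk (pullback.fst _ _) rfl
  let p2 : P ⟶ G₀ ⊗ gp g := Over.homMk (pullback.snd (GIT.psi a₀ f).left (GIT.psi a₀ f').left) (by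
    have e1 : pullback.snd (GIT.psi a₀ f).left (GIT.psi a₀ f').left ≫ (GIT.psi a₀ f').left ≫ (X ⊗ gp g).hom =
        pullback.fst (GIT.psi a₀ f).left (GIT.psi a₀ f').left ≫ (GIT.psi a₀ f).left ≫ (X ⊗ gp g).hom := by
      rw [← Category.assoc, ← pullback.condition, Category.assoc]
    rw [Over.w, Over.w] at e1
    exact e1)
  have hp : p1 ≫ GIT.psi a₀ f = p2 ≫ GIT.psi a₀ f' := Over.OverMorphism.ext pullback.condition
  obtain ⟨v, hv1, hv2⟩ := exists_point (IsPullback.of_hasPullback (GIT.psi a₀ f).left (GIT.psi a₀ f').left) w w'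
    (hw.trans hw'.symm)
  let q : P ⟶ gp g := p1 ≫ snd G₀ (gp g)
  have hql : LocallyOfFiniteType q.left := by
    have : LocallyOfFiniteType p1.left :=
      inferInstanceAs (LocallyOfFiniteType (pullback.fst (GIT.psi a₀ f).left (GIT.psi a₀ f').left))
    rw [Over.comp_left]
    infer_instance
  obtain ⟨s, hs, -⟩ := exists_section g q (C := Set.univ) ⟨v, trivial⟩ isOpen_univ.isLocallyClosed
  have hs1 : (s ≫ p1) ≫ snd G₀ (gp g) = 𝟙 _ := by rw [Category.assoc]; exact hs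
  have hs2 : (s ≫ p2) ≫ snd G₀ (gp g) = 𝟙 _ := by
    have h1 : GIT.psi a₀ f ≫ snd X (gp g) = snd G₀ (gp g) := by rw [GIT.psi, lift_snd]
    have h2 : GIT.psi a₀ f' ≫ snd X (gp g) = snd G₀ (gp g) := by rw [GIT.psi, lift_snd]
    rw [← h2, Category.assoc, ← Category.assoc p2, ← hp, Category.assoc, h1]
    exact hs
  let k1 : gp g ⟶ G₀ := (s ≫ p1) ≫ fst G₀ (gp g)
  let k2 : gp g ⟶ G₀ := (s ≫ p2) ≫ fst G₀ (gp g)
  have hk1 : s ≫ p1 = lift k1 (𝟙 _) := by
    apply CartesianMonoidalCategory.hom_ext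
    · rw [lift_fst]
    · rw [lift_snd, hs1]
  have hk2 : s ≫ p2 = lift k2 (𝟙 _) := by
    apply CartesianMonoidalCategory.hom_ext
    · rw [lift_fst]
    · rw [lift_snd, hs2]
  have hk : lift k1 f ≫ a₀.act = lift k2 f' ≫ a₀.act := by
    have h1 := congrArg (fun φ => (s ≫ φ) ≫ fst X (gp g)) hp
    simp only [← Category.assoc] at h1
    rw [hk1, hk2, GIT.psi, GIT.psi, Category.assoc, Category.assoc, lift_fst, lift_fst, lift_whiskerLeft_assoc,
      lift_whiskerLeft_assoc, Category.id_comp, Category.id_comp] at h1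
    exact h1
  have hf : f = lift (k1⁻¹ * k2) f' ≫ a₀.act := by
    rw [lift_mul_act, ← hk, ← lift_mul_act, inv_mul_cancel, lift_one_act]
  have hf' : f' = lift (k2⁻¹ * k1) f ≫ a₀.act := by
    rw [lift_mul_act, hk, ← lift_mul_act, inv_mul_cancel, lift_one_act]
  apply Set.Subset.antisymm
  · conv_lhs => rw [hf]
    exact range_translate_sub a₀ _ _
  · conv_lhs => rw [hf']
    exact range_translate_sub a₀ _ _

theorem rho_psi' (ha₀ : a₀.act = (i ▷ X) ≫ a.act) {Z : Over S} (h : Z ⟶ G) (f : Z ⟶ X) :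
    rho i (𝟙 Z) h ≫ GIT.psi a f = GIT.psi a₀ (lift h f ≫ a.act) := by
  apply CartesianMonoidalCategory.hom_ext
  · rw [Category.assoc, GIT.psi, GIT.psi, lift_fst, lift_fst, ← Category.assoc]
    have e1 : rho i (𝟙 Z) h ≫ (G ◁ f) = lift ((fst G₀ Z ≫ i) * (snd G₀ Z ≫ h)) (snd G₀ Z ≫ f) := by
      rw [rho, lift_whiskerLeft, Category.id_comp]
    have e2 : G₀ ◁ (lift h f ≫ a.act) = lift (fst G₀ Z) (lift (snd G₀ Z ≫ h) (snd G₀ Z ≫ f) ≫ a.act) := by
      apply CartesianMonoidalCategory.hom_ext <;> simp [comp_lift_assoc]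
    rw [e1, e2, lift_mul_act, lift_act₀ ha₀]
  · rw [Category.assoc, GIT.psi, GIT.psi, lift_snd, lift_snd, rho, lift_snd]

theorem psi_res (ha₀ : a₀.act = (i ▷ X) ≫ a.act) {Z : Over S} (f : Z ⟶ X) :
    GIT.psi a₀ f = (i ▷ Z) ≫ GIT.psi a f := by
  apply CartesianMonoidalCategory.hom_ext
  · rw [GIT.psi, GIT.psi, lift_fst, Category.assoc, lift_fst, ha₀, whisker_exchange_assoc]
  · rw [GIT.psi, GIT.psi, lift_snd, Category.assoc, lift_snd, whiskerRight_snd]

/-- over a geometric point the orbit of the subgroup is closed in the orbit of the group -/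
theorem exists_closed [IsMonHom i] [IsOpenImmersion i.left] [Smooth G.hom] [QuasiCompact G.hom]
    [LocallyOfFiniteType X.hom] (ha₀ : a₀.act = (i ▷ X) ≫ a.act) (f : gp g ⟶ X) :
    ∃ C : Set (X ⊗ gp g).left, IsClosed C ∧
      Set.range (GIT.psi a₀ f).left.base = Set.range (GIT.psi a f).left.base ∩ C := by
  have hG : LocallyOfFiniteType G.hom := inferInstance
  have hG₀ : LocallyOfFiniteType G₀.hom := by
    rw [← Over.w i]
    infer_instance
  let D : Set (G ⊗ gp g).left := (GIT.psi a f).left ⁻¹' (Set.range (GIT.psi a₀ f).left.base)ᶜ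
  have hD : IsOpen D := by
    rw [isOpen_iff_mem_nhds]
    intro w hw
    obtain ⟨h, hwh⟩ := (covers_all (i := i) g).exists (𝟙 (gp g)) w
    have hop := isOpenImmersion_rho i (𝟙 (gp g)) h
    refine Filter.mem_of_superset ((rho i (𝟙 (gp g)) h).left.isOpenEmbedding.isOpen_range.mem_nhds hwh) ?_
    rintro _ ⟨w₂, rfl⟩ hmeet
    obtain ⟨w₁, rfl⟩ := hwh
    have e : ∀ w, (GIT.psi a f).left ((rho i (𝟙 (gp g)) h).left w) =
        (GIT.psi a₀ (lift h f ≫ a.act)).left w := fun w => by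
      rw [← comp_left_apply, rho_psi' ha₀]
    have hmeet' : (GIT.psi a₀ (lift h f ≫ a.act)).left w₂ ∈ Set.range (GIT.psi a₀ f).left.base := by
      rw [← e]; exact hmeet
    have heq := range_eq_of_meet g a₀ (lift h f ≫ a.act) f ⟨w₂, rfl⟩ hmeet'
    apply hw
    change (GIT.psi a f).left ((rho i (𝟙 (gp g)) h).left w₁) ∈ Set.range (GIT.psi a₀ f).left.base
    rw [e, ← heq]
    exact ⟨w₁, rfl⟩
  -- the orbit map is open onto the closure of the orbit
  let G' := Red.bc (gp g).hom G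
  let X' := Red.bc (gp g).hom X
  let b : AlgGrp.Action G' X' := bact (gp g) a
  let y : 𝟙_ (Over (Spec (CommRingCat.of Ω))) ⟶ X' := bpt f
  have i1 : Smooth G'.hom := inferInstanceAs (Smooth (pullback.snd G.hom g))
  have i2 : QuasiCompact G'.hom := inferInstanceAs (QuasiCompact (pullback.snd G.hom g))
  have i3 : LocallyOfFiniteType X'.hom := inferInstanceAs (LocallyOfFiniteType (pullback.snd X.hom g))
  have i4 : IsReduced G'.left := Groth.Agent.Flat2B.SmoothGeom.isReduced_of_smooth G'.hom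
  have hopen : IsOpenMap (Groth.Agent.Books.BorelOrb2.p b y) := K395.OrbLC.isOpenMap_p' b y
  have hinc : Groth.Agent.Books.BorelOrb2.p b y ≫ Groth.Agent.Books.BorelOrb2.inc b y = (GIT.psi a f).left := by
    rw [Groth.Agent.Books.BorelOrb2.p_inc]
    exact orbitMap_left a f
  have hD' : IsOpen (Groth.Agent.Books.BorelOrb2.p b y '' D) := hopen _ hD
  have hcl : IsClosedImmersion (Groth.Agent.Books.BorelOrb2.inc b y) := inferInstance
  obtain ⟨W, hW, hWD⟩ := (Groth.Agent.Books.BorelOrb2.inc b y).isClosedEmbedding.isInducing.isOpen_iff.1 hD'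
  have happ : ∀ w, (GIT.psi a f).left w = (Groth.Agent.Books.BorelOrb2.inc b y) (Groth.Agent.Books.BorelOrb2.p b y w) := by
    intro w
    rw [← hinc]
    rfl
  refine ⟨Wᶜ, hW.isClosed_compl, ?_⟩
  ext z
  constructor
  · intro hz
    have hz' : z ∈ Set.range (GIT.psi a f).left.base := by
      obtain ⟨w, rfl⟩ := hz
      refine ⟨(i ▷ gp g).left w, ?_⟩
      change (GIT.psi a f).left ((i ▷ gp g).left w) = (GIT.psi a₀ f).left w
      rw [← comp_left_apply, ← psi_res ha₀]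
    refine ⟨hz', fun hzW => ?_⟩
    obtain ⟨w, rfl⟩ := hz'
    have h1 : Groth.Agent.Books.BorelOrb2.p b y w ∈ Groth.Agent.Books.BorelOrb2.p b y '' D := by
      rw [← hWD]
      change (Groth.Agent.Books.BorelOrb2.inc b y) (Groth.Agent.Books.BorelOrb2.p b y w) ∈ W
      rw [← happ]
      exact hzW
    obtain ⟨d, hd, hdw⟩ := h1
    apply hd
    change (GIT.psi a f).left d ∈ Set.range (GIT.psi a₀ f).left.base
    rw [happ, hdw, ← happ]
    exact hz
  · rintro ⟨⟨w, rfl⟩, hzW⟩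
    by_contra hz
    have hw : w ∈ D := hz
    have h1 : Groth.Agent.Books.BorelOrb2.p b y w ∈ (Groth.Agent.Books.BorelOrb2.inc b y) ⁻¹' W := by
      rw [hWD]
      exact ⟨w, hw, rfl⟩
    apply hzW
    change (GIT.psi a f).left w ∈ W
    rw [happ]
    exact h1

/-- closedness of orbits passes to open subgroups -/
theorem closedOrbitsOn_res [IsMonHom i] [IsOpenImmersion i.left] [Smooth G.hom] [QuasiCompact G.hom]
    [LocallyOfFiniteType X.hom] (ha₀ : a₀.act = (i ▷ X) ≫ a.act) (U : X.left.Opens)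
    (hU : GLinSh.ClosedOrbitsOn a U) : GLinSh.ClosedOrbitsOn a₀ U := by
  intro Ω _ _ Z e f hf
  let z : gp (e.inv ≫ Z.hom) ⟶ Z := Over.homMk e.inv rfl
  let z' : Z ⟶ gp (e.inv ≫ Z.hom) := Over.homMk e.hom (by
    change e.hom ≫ e.inv ≫ Z.hom = Z.hom
    rw [Iso.hom_inv_id_assoc])
  have hz : z' ≫ z = 𝟙 _ := by
    ext1
    exact e.hom_inv_id
  have hf' : f = z' ≫ z ≫ f := by rw [← Category.assoc, hz, Category.id_comp]
  obtain ⟨C, hC, hCe⟩ := exists_closed (e.inv ≫ Z.hom) ha₀ (z ≫ f)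
  have key : Set.range (GIT.psi a₀ f).left.base =
      Set.range (GIT.psi a f).left.base ∩ (X ◁ z').left ⁻¹' C := by
    ext y
    have h1 := mem_range_psi_iff a₀ (z ≫ f) z' y
    have h2 := mem_range_psi_iff a (z ≫ f) z' y
    rw [← hf'] at h1 h2
    rw [h1, hCe]
    constructor
    · rintro ⟨h3, h4⟩
      exact ⟨h2.2 h3, h4⟩
    · rintro ⟨h3, h4⟩
      exact ⟨h2.1 h3, h4⟩
  rw [key, Set.preimage_inter]
  exact (hU Ω Z e f hf).inter ((hC.preimage (X ◁ z').left.continuous).preimage continuous_subtype_val)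

end Pts

end K701.OpenOrb
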