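import Groth.Agent.InvQ.K702.CubicSurf
import Groth.Agent.GIT.K687.SmoothForm

/-!
# Stability of plane cubics

A plane cubic form is stable for `SL₃` if and only if it is smooth.
-/

set_option autoImplicit false
universe u

namespace K701.PlaneCubic

open K702.Forms K702.FormsStab K702.PointSets K702.PointStab K702.GradHess K702.CubicSurf CoordGrp
open MvPolynomial

attribute [local instance] coactF coactF_isCoactAlg

variable {k : Type u} [Field k]

/-- A non-zero vector is the first column of an invertible matrix. -/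
lemma exists_matrix_col (v : Fin 3 → k) (hv : v ≠ 0) :
    ∃ M : Matrix (Fin 3) (Fin 3) k, M.det ≠ 0 ∧ ∀ i, M i 0 = v i := by
  obtain ⟨u, hu⟩ : ∃ u : Fin 3 → k, LinearIndependent k ![v, u] := by
    by_contra hcon
    push Not at hcon
    have h1 : (⊤ : Submodule k (Fin 3 → k)) ≤ Submodule.span k {v} := by
      intro u _
      have h4 := hcon u
      rw [LinearIndependent.pair_iff' hv] at h4
      push Not at h4
      obtain ⟨a, ha⟩ := h4
      rw [Submodule.mem_span_singleton]
      exact ⟨a, ha⟩
    have h5 := Submodule.finrank_mono h1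
    rw [finrank_span_singleton hv, finrank_top, Module.finrank_fin_fun] at h5
    omega
  obtain ⟨M, hM, hM0, -⟩ := exists_matrix_cols v u hu
  exact ⟨M, hM, hM0⟩

theorem smooth_of_stable [IsAlgClosed k] [CharZero k] (a : FormIdx 3 3 → k)
    (hst : GLin.IsStableVec k (SLn 3 k) a) (v : Fin 3 → k) (hv : v ≠ 0)
    (hs : grad (formPoly a) v = 0) : False := by
  classical
  have hF := formPoly_isHomogeneous a
  obtain ⟨M, hM, hM0⟩ := exists_matrix_col v hv
  have hMe0 : M.mulVec (Pi.single 0 1) = v := by
    funext i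
    rw [Matrix.mulVec_single_one]
    exact hM0 i
  set G := K702.Forms.sub M (formPoly a) with hGdef
  have hG : G.IsHomogeneous 3 := sub_isHomogeneous M hF
  have hc1 : ∀ i, coeff (Finsupp.single 0 2 + Finsupp.single i 1) G = 0 := by
    intro i
    have h2 : grad G (Pi.single 0 1) i = 0 := by
      rw [hGdef, grad_sub, hMe0, hs, Matrix.zero_vecMul]
      rfl
    rw [grad_single hG] at h2
    exact (mul_eq_zero.mp h2).resolve_right (cast_add_one_ne_zero _)
  have hw : WtGE ![-2, 1, 1] 0 G := by
    intro m hm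
    have hdeg : m 0 + m 1 + m 2 = 3 := by
      have h3 : m.degree = 3 := by
        rw [Finsupp.degree_eq_weight_one]
        exact hG hm
      rw [Finsupp.degree_eq_sum, Fin.sum_univ_three] at h3
      exact h3
    by_contra hlt
    rw [Fin.sum_univ_three] at hlt
    simp at hlt
    apply hm
    obtain ⟨i, hi⟩ : ∃ i, m = Finsupp.single 0 2 + Finsupp.single i 1 := by
      have h4 : m 0 = 3 ∨ m 0 = 2 ∧ m 1 = 1 ∨ m 0 = 2 ∧ m 2 = 1 := by omega
      rcases h4 with h4 | h4 | h4
      · exact ⟨0, by ext j; fin_cases j <;> simp <;> omega⟩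
      · exact ⟨1, by ext j; fin_cases j <;> simp <;> omega⟩
      · exact ⟨2, by ext j; fin_cases j <;> simp <;> omega⟩
    rw [hi]; exact hc1 i
  rw [WtGE_iff hG] at hw
  have h5 := (isStableVec_iff (Nat.cast_ne_zero.mpr (Nat.factorial_ne_zero 3)) a).mp hst M hM
    ![-2, 1, 1] (by rw [Fin.sum_univ_three]; simp) hw
  have h6 := congrFun h5 0
  simp at h6

theorem stable_iff [IsAlgClosed k] [CharZero k] (a : FormIdx 3 3 → k) :
    GLin.IsStableVec k (SLn 3 k) a ↔
      ∀ w : Fin 3 → k, w ≠ 0 → ∃ i : Fin 3, eval w (pderiv i (formPoly a)) ≠ 0 := by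
  constructor
  · intro hst w hw
    by_contra hcon
    push Not at hcon
    exact smooth_of_stable a hst w hw (funext hcon)
  · intro h
    rw [isStableVec_iff (Nat.cast_ne_zero.mpr (Nat.factorial_ne_zero 3))]
    intro M hM r hr hw
    have hG := sub_isHomogeneous M (formPoly_isHomogeneous a)
    refine K687.eq_zero_of_smooth (n := 2) (m := 3) le_rfl _ hG
      (K687.smooth_sub h M hM) r hr ?_
    rw [← WtGE_iff hG] at hw
    exact hw

end K701.PlaneCubic
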