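import Groth.Agent.GIT.K689.PullBun
import Mathlib.AlgebraicGeometry.Morphisms.ClosedImmersion
import Mathlib.AlgebraicGeometry.Morphisms.QuasiSeparated

/-!
# Lifting powers of a section along a nilpotent thickening, with prescribed restriction to an affine open
-/

set_option autoImplicit false

universe u

open CategoryTheory CategoryTheory.Limits AlgebraicGeometry TopologicalSpace Opposite

namespace K701.PowLift

open K689.SchGlue K689.PullBun

section Ring

theorem pow_eq_of_nilpotent {A : Type*} [CommRing A] {a b : A} (hn : IsNilpotent (a - b)) {k : ℕ}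
    (hk : b ^ k * (a - b) = 0) : ∃ K₀, ∀ K, K₀ ≤ K → a ^ K = b ^ K := by
  obtain ⟨e, he⟩ := hn
  refine ⟨k + e, fun K hK => ?_⟩
  have h1 : a = (a - b) + b := by ring
  rw [h1, add_pow]
  rw [Finset.sum_eq_single 0]
  · simp
  · intro m hm hm0
    by_cases h : e ≤ m
    · obtain ⟨r, rfl⟩ := Nat.exists_eq_add_of_le h
      rw [pow_add, he]
      ring
    · have h2 : k ≤ K - m := by omega
      obtain ⟨r, hr⟩ := Nat.exists_eq_add_of_le h2
      obtain ⟨m, rfl⟩ := Nat.exists_eq_succ_of_ne_zero hm0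
      rw [hr, pow_add, pow_succ]
      calc (a - b) ^ m * (a - b) * (b ^ k * b ^ r) * (K.choose (m + 1) : A) =
          (a - b) ^ m * (b ^ k * (a - b)) * b ^ r * (K.choose (m + 1) : A) := by ring
        _ = 0 := by rw [hk]; ring
  · intro h
    exact absurd (Finset.mem_range.2 (Nat.succ_pos K)) h

theorem exists_lift_pow {A B : Type*} [CommRing A] [CommRing B] [Algebra A B] (s : A) [IsLocalization.Away s B]
    (φ : B) (hn : IsNilpotent (φ - algebraMap A B s)) :
    ∃ M₀, ∀ M, M₀ ≤ M → ∃ σ : A, algebraMap A B σ = φ ^ M ∧ IsNilpotent (σ - s ^ M) := by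
  obtain ⟨e, he⟩ := hn
  set ν := φ - algebraMap A B s with hν
  obtain ⟨t, b₀, hb₀⟩ := IsLocalization.Away.surj s ν
  have h1 : algebraMap A B (b₀ ^ e) = algebraMap A B 0 := by
    rw [map_pow, ← hb₀, mul_pow, he, zero_mul, map_zero]
  obtain ⟨⟨_, r, rfl⟩, hr⟩ := (IsLocalization.eq_iff_exists (Submonoid.powers s) B).1 h1
  rw [mul_zero] at hr
  change s ^ r * b₀ ^ e = 0 at hr
  let b := s ^ r * b₀
  let T := t + r
  have hb : b ^ (e + 1) = 0 := by
    calc b ^ (e + 1) = (s ^ r) ^ e * b₀ * (s ^ r * b₀ ^ e) := by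
          simp only [b]; ring
      _ = 0 := by rw [hr, mul_zero]
  have hbν : algebraMap A B b = algebraMap A B s ^ T * ν := by
    simp only [b, T]
    rw [map_mul, ← hb₀, map_pow, pow_add]
    ring
  have hsu : IsUnit (algebraMap A B s) := IsLocalization.Away.algebraMap_isUnit s
  have hνe : ν ^ (e + 1) = 0 := by
    have h2 : (algebraMap A B s ^ T) ^ (e + 1) * ν ^ (e + 1) = 0 := by
      rw [← mul_pow, ← hbν, ← map_pow, hb, map_zero]
    exact ((hsu.pow T).pow (e + 1)).mul_right_eq_zero.1 h2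
  refine ⟨(T + 1) * (e + 1), fun M hM => ?_⟩
  refine ⟨∑ m ∈ Finset.range (e + 1), b ^ m * s ^ (M - m - T * m) * (M.choose m : A), ?_, ?_⟩
  · have h2 : φ = ν + algebraMap A B s := by rw [hν]; ring
    rw [h2, add_pow, map_sum]
    have h3 : Finset.range (e + 1) ⊆ Finset.range (M + 1) := by
      apply Finset.range_subset_range.2
      have : e + 1 ≤ (T + 1) * (e + 1) := Nat.le_mul_of_pos_left _ (Nat.succ_pos T)
      omega
    rw [← Finset.sum_subset h3]
    · refine Finset.sum_congr rfl fun m hm => ?_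
      rw [map_mul, map_mul, map_pow, map_pow, hbν, mul_pow, ← pow_mul, map_natCast]
      have h4 : T * m + (M - m - T * m) = M - m := by
        have h5 : m ≤ e := Nat.lt_succ_iff.1 (Finset.mem_range.1 hm)
        have h6 : (T + 1) * m ≤ (T + 1) * (e + 1) := Nat.mul_le_mul_left _ (by omega)
        have h7 : (T + 1) * m = T * m + m := by ring
        omega
      calc algebraMap A B s ^ (T * m) * ν ^ m * algebraMap A B s ^ (M - m - T * m) * (M.choose m : B) =
          ν ^ m * algebraMap A B s ^ (T * m + (M - m - T * m)) * (M.choose m : B) := by rw [pow_add]; ring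
        _ = _ := by rw [h4]
    · intro m _ hm
      have h5 : e + 1 ≤ m := by
        by_contra h
        exact hm (Finset.mem_range.2 (by omega))
      obtain ⟨r, rfl⟩ := Nat.exists_eq_add_of_le h5
      rw [pow_add, hνe]
      ring
  · rw [Finset.sum_range_succ']
    have h2 : ∑ k ∈ Finset.range e, b ^ (k + 1) * s ^ (M - (k + 1) - T * (k + 1)) * (M.choose (k + 1) : A) +
        b ^ 0 * s ^ (M - 0 - T * 0) * (M.choose 0 : A) - s ^ M =
        b * ∑ k ∈ Finset.range e, b ^ k * s ^ (M - (k + 1) - T * (k + 1)) * (M.choose (k + 1) : A) := by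
      rw [Finset.mul_sum]
      simp only [pow_zero, Nat.sub_zero, Nat.mul_zero, Nat.choose_zero_right, Nat.cast_one, one_mul, mul_one,
        add_sub_cancel_right]
      refine Finset.sum_congr rfl fun k _ => ?_
      ring
    rw [h2]
    exact Commute.isNilpotent_mul_right (Commute.all _ _) ⟨e + 1, hb⟩

end Ring

section Sch

variable {V Vr : Scheme.{u}} (q : Vr ⟶ V)

theorem basicOpen_eq_of_preimage (hs : Function.Surjective q) {U W : V.Opens} (h : q ⁻¹ᵁ U = q ⁻¹ᵁ W) : U = W := by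
  ext x
  obtain ⟨y, rfl⟩ := hs x
  have : y ∈ q ⁻¹ᵁ U ↔ y ∈ q ⁻¹ᵁ W := by rw [h]
  exact this

/-- functions killed by pull-back along a surjective morphism are nilpotent -/
theorem isNilpotent_of_app (hs : Function.Surjective q) {U : V.Opens} (hU : IsCompact (U : Set V)) {g : Γ(V, U)}
    (h : IsNilpotent (q.app U g)) : IsNilpotent g := by
  rw [Scheme.isNilpotent_iff_basicOpen_eq_bot_of_isCompact hU]
  apply basicOpen_eq_of_preimage q hs
  rw [Scheme.preimage_basicOpen]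
  have : Vr.basicOpen (q.app U g) = ⊥ := by
    obtain ⟨n, hn⟩ := h
    have h1 : Vr.basicOpen (q.app U g ^ (n + 1)) = Vr.basicOpen (q.app U g) :=
      Vr.toRingedSpace.basicOpen_pow _ _ (Nat.succ_pos n)
    rw [← h1, pow_succ, hn, zero_mul, Scheme.basicOpen_zero]
  rw [this]
  rfl

theorem app_rsec' {U W : V.Opens} (h : W ≤ U) (f : Γ(V, U)) :
    q.app W (rsec h f) = rsec (q.preimage_mono h) (q.app U f) := by
  have := q.naturality (homOfLE h).op
  exact congrArg (fun φ => φ.hom f) this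

/-- the local step -/
theorem exists_local [IsClosedImmersion q] (hs : Function.Surjective q) (f : Γ(Vr, ⊤)) (D : V.Opens)
    (hD : q ⁻¹ᵁ D = Vr.basicOpen f) (φ : Γ(V, D)) (hφ : q.app D φ = rsec le_top f) (U : V.Opens)
    (hU : IsAffineOpen U) [IsReduced Vr] :
    ∃ M₀, ∀ M, M₀ ≤ M → ∃ σ : Γ(V, U), rsec (inf_le_left : U ⊓ D ≤ U) σ = rsec inf_le_right (φ ^ M) ∧
      q.app U σ = rsec le_top (f ^ M) := by
  obtain ⟨s, hs'⟩ := Scheme.Hom.app_surjective q U hU (rsec le_top f)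
  have hs'' : q.app U s = rsec le_top f := hs'
  have hDU : V.basicOpen s = U ⊓ D := by
    apply basicOpen_eq_of_preimage q hs
    rw [Scheme.preimage_basicOpen, hs'']
    have h1 : Vr.basicOpen (rsec (le_top : q ⁻¹ᵁ U ≤ ⊤) f) = q ⁻¹ᵁ U ⊓ Vr.basicOpen f := Vr.basicOpen_res _ _
    rw [h1, ← hD]
    rfl
  let B := Γ(V, V.basicOpen s)
  let _ : Algebra Γ(V, U) B := (V.presheaf.map (homOfLE (V.basicOpen_le s)).op).hom.toAlgebra
  have hloc : IsLocalization.Away s B := hU.isLocalization_basicOpen s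
  have hle : V.basicOpen s ≤ D := by rw [hDU]; exact inf_le_right
  have hcpt : IsCompact (V.basicOpen s : Set V) := (hU.basicOpen s).isCompact
  have hnil : IsNilpotent (rsec hle φ - algebraMap Γ(V, U) B s) := by
    apply isNilpotent_of_app q hs hcpt
    have h1 : q.app (V.basicOpen s) (rsec hle φ - algebraMap Γ(V, U) B s) = 0 := by
      rw [map_sub]
      have h2 : q.app (V.basicOpen s) (algebraMap Γ(V, U) B s) =
          rsec (q.preimage_mono (V.basicOpen_le s)) (q.app U s) := app_rsec' q (V.basicOpen_le s) s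
      rw [h2, app_rsec', hφ, hs'', rsec_rsec, rsec_rsec, sub_self]
    rw [h1]
    exact IsNilpotent.zero
  obtain ⟨M₀, hM₀⟩ := exists_lift_pow (A := Γ(V, U)) (B := B) s (rsec hle φ) hnil
  refine ⟨M₀, fun M hM => ?_⟩
  obtain ⟨σ, h1, h2⟩ := hM₀ M hM
  refine ⟨σ, ?_, ?_⟩
  · have h3 : rsec (V.basicOpen_le s) σ = rsec hle (φ ^ M) := by
      have : rsec hle (φ ^ M) = (rsec hle φ) ^ M := map_pow _ _ _
      rw [this]; exact h1
    have h4 := congrArg (rsec hDU.ge) h3
    rwa [rsec_rsec, rsec_rsec] at h4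
  · have h3 : IsNilpotent (q.app U (σ - s ^ M)) := h2.map (q.app U).hom
    have hred : _root_.IsReduced Γ(Vr, q ⁻¹ᵁ U) := inferInstance
    have h4 := h3.eq_zero
    rw [map_sub, map_pow, hs'', sub_eq_zero] at h4
    rw [h4]
    exact (map_pow _ _ _).symm

/-- a power of `f` lifts, with prescribed restriction to `D` -/
theorem exists_lift [IsClosedImmersion q] (hs : Function.Surjective q) [CompactSpace V] [QuasiSeparatedSpace V]
    [IsReduced Vr] (f : Γ(Vr, ⊤)) (D : V.Opens) (hD : q ⁻¹ᵁ D = Vr.basicOpen f) (φ : Γ(V, D))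
    (hφ : q.app D φ = rsec le_top f) :
    ∃ (M : ℕ) (σ : Γ(V, ⊤)), M ≠ 0 ∧ rsec le_top σ = φ ^ M ∧ q.appTop σ = f ^ M := by
  classical
  -- a finite affine cover
  have hc : ∀ x : V, ∃ W : V.Opens, IsAffineOpen W ∧ x ∈ W := fun x => by
    obtain ⟨_, ⟨W, hW, rfl⟩, htW, -⟩ := V.isBasis_affineOpens.exists_subset_of_mem_open (Set.mem_univ x) isOpen_univ
    exact ⟨W, hW, htW⟩
  choose U hU hxU using hc
  obtain ⟨t, ht⟩ := (isCompact_univ (X := V)).elim_finite_subcover (fun x => (U x : Set V)) (fun x => (U x).2)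
    (fun x _ => Set.mem_iUnion.2 ⟨x, hxU x⟩)
  have hcov : ∀ x : V, ∃ i ∈ t, x ∈ U i := fun x => by
    have := ht (Set.mem_univ x)
    simpa using this
  choose M₀ hM₀ using fun i => exists_local q hs f D hD φ hφ (U i) (hU i)
  let M := t.sup M₀ + 1
  have hM : ∀ i : t, M₀ i ≤ M := fun i => (Finset.le_sup i.2).trans (Nat.le_succ _)
  choose σ h1 h2 using fun i : t => hM₀ i M (hM i)
  -- agreement of powers on overlaps
  have hpair : ∀ ij : t × t, ∃ K₀, ∀ K, K₀ ≤ K →
      (rsec (inf_le_left : U ij.1 ⊓ U ij.2 ≤ U ij.1) (σ ij.1)) ^ K =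
        (rsec (inf_le_right : U ij.1 ⊓ U ij.2 ≤ U ij.2) (σ ij.2)) ^ K := by
    rintro ⟨i, j⟩
    have hcpt : IsCompact ((U i ⊓ U j : V.Opens) : Set V) :=
      QuasiSeparatedSpace.inter_isCompact _ _ (U i).2 (hU i).isCompact (U j).2 (hU j).isCompact
    have hdiff : IsNilpotent (rsec (inf_le_left : U i ⊓ U j ≤ U i) (σ i) -
        rsec (inf_le_right : U i ⊓ U j ≤ U j) (σ j)) := by
      apply isNilpotent_of_app q hs hcpt
      rw [map_sub, app_rsec', app_rsec', h2, h2, rsec_rsec, rsec_rsec, sub_self]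
      exact IsNilpotent.zero
    have hle : V.basicOpen (rsec (inf_le_right : U i ⊓ U j ≤ U j) (σ j)) ≤ D := by
      have e1 : V.basicOpen (rsec (inf_le_right : U i ⊓ U j ≤ U j) (σ j)) =
        (U i ⊓ U j) ⊓ V.basicOpen (σ j) := V.basicOpen_res _ _
      have e2 : V.basicOpen (σ j) ≤ D := by
        intro x hx
        obtain ⟨y, rfl⟩ := hs x
        have hy : y ∈ q ⁻¹ᵁ V.basicOpen (σ j) := hx
        rw [Scheme.preimage_basicOpen, h2] at hy
        have e3 : Vr.basicOpen (rsec (le_top : q ⁻¹ᵁ U j ≤ ⊤) (f ^ M)) = q ⁻¹ᵁ U j ⊓ Vr.basicOpen (f ^ M) :=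
          Vr.basicOpen_res _ _
        rw [e3] at hy
        have e4 : Vr.basicOpen (f ^ M) = Vr.basicOpen f := Vr.toRingedSpace.basicOpen_pow _ _ (Nat.succ_pos _)
        have hy2 := hy.2
        rw [e4, ← hD] at hy2
        exact hy2
      rw [e1]
      exact inf_le_right.trans e2
    obtain ⟨k, hk⟩ := exists_pow_mul_eq_zero_of_res_basicOpen_eq_zero_of_isCompact V hcpt
      (rsec (inf_le_left : U i ⊓ U j ≤ U i) (σ i) - rsec (inf_le_right : U i ⊓ U j ≤ U j) (σ j))
      (rsec (inf_le_right : U i ⊓ U j ≤ U j) (σ j)) (by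
        change rsec (V.basicOpen_le _) _ = 0
        have e0 : V.basicOpen (rsec (inf_le_right : U i ⊓ U j ≤ U j) (σ j)) ≤ U i ⊓ U j := V.basicOpen_le _
        have e5 : rsec e0 (rsec (inf_le_left : U i ⊓ U j ≤ U i) (σ i) -
          rsec (inf_le_right : U i ⊓ U j ≤ U j) (σ j)) = rsec e0 (rsec (inf_le_left : U i ⊓ U j ≤ U i) (σ i)) -
          rsec e0 (rsec (inf_le_right : U i ⊓ U j ≤ U j) (σ j)) := map_sub _ _ _
        rw [e5, rsec_rsec, rsec_rsec, sub_eq_zero]
        have e6 := congrArg (rsec (le_inf (e0.trans inf_le_left) hle)) (h1 i)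
        have e7 := congrArg (rsec (le_inf (e0.trans inf_le_right) hle)) (h1 j)
        rw [rsec_rsec, rsec_rsec] at e6 e7
        exact e6.trans e7.symm)
    exact pow_eq_of_nilpotent hdiff hk
  choose K₀ hK₀ using hpair
  let K := Finset.univ.sup K₀ + 1
  have hK : ∀ ij : t × t, K₀ ij ≤ K := fun ij => (Finset.le_sup (Finset.mem_univ ij)).trans (Nat.le_succ _)
  have key : ∃ τ : Γ(V, ⊤), ∀ i : t, rsec (le_top : U i ≤ ⊤) τ = σ i ^ K := by
    obtain ⟨τ, hτ, -⟩ := TopCat.Sheaf.existsUnique_gluing' V.sheaf (fun i : t => U i) ⊤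
      (fun i => homOfLE le_top) (fun x _ => by
        obtain ⟨i, hi, hxi⟩ := hcov x
        exact Opens.mem_iSup.2 ⟨⟨i, hi⟩, hxi⟩) (fun i => σ i ^ K) (by
        intro i j
        have e1 := hK₀ (i, j) K (hK (i, j))
        have e2 : rsec (inf_le_left : U i ⊓ U j ≤ U i) (σ i ^ K) = (rsec inf_le_left (σ i)) ^ K := map_pow _ _ _
        have e3 : rsec (inf_le_right : U i ⊓ U j ≤ U j) (σ j ^ K) = (rsec inf_le_right (σ j)) ^ K := map_pow _ _ _
        exact e2.trans (e1.trans e3.symm))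
    exact ⟨τ, hτ⟩
  obtain ⟨τ, hτ⟩ := key
  refine ⟨M * K, τ, Nat.mul_ne_zero (Nat.succ_ne_zero _) (Nat.succ_ne_zero _), ?_, ?_⟩
  · apply section_ext
    intro x hx
    obtain ⟨i, hi, hxi⟩ := hcov x
    refine ⟨U i ⊓ D, inf_le_right, ⟨hxi, hx⟩, ?_⟩
    rw [rsec_rsec]
    have e1 := congrArg (rsec (inf_le_left : U i ⊓ D ≤ U i)) (hτ ⟨i, hi⟩)
    rw [rsec_rsec] at e1
    have e2 : rsec (inf_le_left : U i ⊓ D ≤ U i) (σ ⟨i, hi⟩ ^ K) = (rsec inf_le_left (σ ⟨i, hi⟩)) ^ K :=
      map_pow _ _ _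
    have e3 : rsec (inf_le_right : U i ⊓ D ≤ D) (φ ^ (M * K)) = (rsec inf_le_right (φ ^ M)) ^ K := by
      rw [pow_mul]; exact map_pow _ _ _
    rw [e3, ← h1 ⟨i, hi⟩, ← e2]
    exact e1
  · apply section_ext
    intro y _
    obtain ⟨i, hi, hxi⟩ := hcov (q y)
    refine ⟨q ⁻¹ᵁ (U i), le_top, hxi, ?_⟩
    have e1 := app_rsec' q (le_top : U i ≤ ⊤) τ
    rw [hτ ⟨i, hi⟩, map_pow, h2 ⟨i, hi⟩] at e1
    have e2 : rsec (le_top : q ⁻¹ᵁ (U i) ≤ ⊤) (f ^ (M * K)) = (rsec le_top (f ^ M)) ^ K := by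
      rw [pow_mul]; exact map_pow _ _ _
    rw [e2, e1]
    rfl

/-- if two pull-backs of `σ` agree on the non-vanishing locus and up to nilpotents, they agree after raising to a
power -/
theorem exists_pow_eq {P Pr : Scheme.{u}} (qP : Pr ⟶ P) (hs : Function.Surjective qP) [CompactSpace P]
    (σ₁ σ₂ : Γ(P, ⊤)) (h1 : qP.appTop σ₁ = qP.appTop σ₂) (D : P.Opens) (hD : P.basicOpen σ₂ ≤ D)
    (h2 : rsec (le_top : D ≤ ⊤) σ₁ = rsec le_top σ₂) : ∃ K, K ≠ 0 ∧ σ₁ ^ K = σ₂ ^ K := by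
  have hn : IsNilpotent (σ₁ - σ₂) := by
    apply isNilpotent_of_app qP hs (U := ⊤) isCompact_univ
    have : qP.app ⊤ (σ₁ - σ₂) = 0 := by
      rw [map_sub, sub_eq_zero]; exact h1
    rw [this]
    exact IsNilpotent.zero
  obtain ⟨k, hk⟩ := exists_pow_mul_eq_zero_of_res_basicOpen_eq_zero_of_isCompact P (U := ⊤) isCompact_univ
    (σ₁ - σ₂) σ₂ (by
      change rsec (P.basicOpen_le _) _ = 0
      have e5 : rsec (P.basicOpen_le σ₂) (σ₁ - σ₂) = rsec (P.basicOpen_le σ₂) σ₁ - rsec (P.basicOpen_le σ₂) σ₂ :=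
        map_sub _ _ _
      rw [e5, sub_eq_zero]
      have e6 := congrArg (rsec hD) h2
      rw [rsec_rsec, rsec_rsec] at e6
      exact e6)
  obtain ⟨K₀, hK₀⟩ := pow_eq_of_nilpotent hn hk
  exact ⟨K₀ + 1, Nat.succ_ne_zero _, hK₀ _ (Nat.le_succ _)⟩

end Sch

end K701.PowLift
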