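import Groth.Agent.GIT.K701.RedMain
import Groth.Agent.GIT.K701.LinUniq
import Groth.Agent.Ega1.ReducedSub
import Groth.Agent.Sga3B.RedBcAny636
import Groth.Agent.GIT.K686.HaarRed

/-!
# The action on the reduced scheme; the loci do not depend on the linearisation
-/

set_option autoImplicit false

universe u

open CategoryTheory CategoryTheory.Limits MonoidalCategory CartesianMonoidalCategory MonObj GrpObj AlgebraicGeometry
  TopologicalSpace Opposite

namespace K701.RedAct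

open K689.PullBun K689.Compat

theorem isReduced_nilradical (X : Scheme.{u}) : IsReduced X.nilradical.subscheme := by
  have : ∀ i, IsReduced (X.nilradical.subschemeCover.openCover.X i) := by
    intro U
    have h1 : _root_.IsReduced (Γ(X, U.1) ⧸ X.nilradical.ideal U) := by
      rw [← Ideal.isRadical_iff_quotient_reduced]
      exact Ideal.radical_isRadical _
    exact inferInstanceAs (IsReduced (Spec (CommRingCat.of (Γ(X, U.1) ⧸ X.nilradical.ideal U))))
  exact IsReduced.of_openCover _ X.nilradical.subschemeCover.openCover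

theorem surjective_nilradical (X : Scheme.{u}) : Function.Surjective X.nilradical.subschemeι := by
  refine Set.range_eq_univ.mp ?_
  rw [Scheme.IdealSheafData.range_subschemeι, Scheme.support_nilradical]
  rfl

variable {k : Type u} [Field k] {G X : Over (Spec (CommRingCat.of k))} [GrpObj G]

/-- morphisms from reduced schemes factor -/
theorem exists_factor {Z Y Xr : Over (Spec (CommRingCat.of k))} (j : Xr ⟶ Y) [IsClosedImmersion j.left]
    (hj : Function.Surjective j.left) (f : Z ⟶ Y) [IsReduced Z.left] : ∃ g : Z ⟶ Xr, g ≫ j = f := by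
  obtain ⟨g, hg⟩ := Groth.Agent.Ega1.ReducedSub.exists_factor_of_range_subset f.left j.left
    (fun y _ => hj y)
  refine ⟨Over.homMk g ?_, ?_⟩
  · rw [← Over.w j, ← Category.assoc, hg, Over.w]
  · ext1
    exact hg

/-- the reduced subscheme is stable under a smooth group -/
theorem exists_act [Smooth G.hom] [LocallyOfFiniteType X.hom] (a : AlgGrp.Action G X) :
    ∃ (Xr : Over (Spec (CommRingCat.of k))) (j : Xr ⟶ X) (_ : IsClosedImmersion j.left) (_ : IsReduced Xr.left)
      (ar : AlgGrp.Action G Xr), Function.Surjective j.left ∧ LocallyOfFiniteType Xr.hom ∧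
      ar.act ≫ j = (G ◁ j) ≫ a.act := by
  let Xr : Over (Spec (CommRingCat.of k)) := Over.mk (X.left.nilradical.subschemeι ≫ X.hom)
  let j : Xr ⟶ X := Over.homMk X.left.nilradical.subschemeι rfl
  have h1 : IsClosedImmersion j.left := inferInstanceAs (IsClosedImmersion X.left.nilradical.subschemeι)
  have h2 : IsReduced Xr.left := isReduced_nilradical X.left
  have h3 : Function.Surjective j.left := surjective_nilradical X.left
  have h4 : LocallyOfFiniteType Xr.hom :=
    inferInstanceAs (LocallyOfFiniteType (X.left.nilradical.subschemeι ≫ X.hom))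
  have h5 : IsReduced (G ⊗ Xr).left := K688.LinLift.isReduced_tensor G Xr
  obtain ⟨g, hg⟩ := exists_factor j h3 ((G ◁ j) ≫ a.act)
  have hmono : Mono j := by
    have : Mono j.left := inferInstance
    exact Over.mono_of_mono_left j
  refine ⟨Xr, j, h1, h2, ⟨g, ?_, ?_⟩, h3, h4, hg⟩
  · rw [← cancel_mono j, Category.assoc, hg, ← whisker_exchange_assoc, a.one_act]
    simp
  · rw [← cancel_mono j]
    simp only [Category.assoc, hg]
    rw [← whisker_exchange_assoc, a.mul_act, ← MonoidalCategory.whiskerLeft_comp_assoc, hg]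
    simp

theorem loci_eq (H : K686.Haar G) (hG : Red.IsReductive G)
    (hχ : ∀ (K : Type u) [Field K] [IsAlgClosed K] (f : Spec (CommRingCat.of K) ⟶ Spec (CommRingCat.of k))
      (χ : Red.bc f G ⟶ Red.Gm (Spec (CommRingCat.of K))) [IsMonHom χ], χ = 1)
    [LocallyOfFiniteType X.hom] [CompactSpace X.left] [QuasiSeparatedSpace X.left]
    (a : AlgGrp.Action G X) {V : Over (Spec (CommRingCat.of k))} (π : V ⟶ X) (A : GLinSh.LinAtlas π)
    (Φ₁ Φ₂ : AlgGrp.Action G V) (h₁ : Φ₁.act ≫ π = (G ◁ π) ≫ a.act) (h₂ : Φ₂.act ≫ π = (G ◁ π) ≫ a.act)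
    (hl₁ : GLinSh.IsLinearLift a π Φ₁ A.chart h₁) (hl₂ : GLinSh.IsLinearLift a π Φ₂ A.chart h₂) :
    (⟨V, π, A, Φ₁, h₁, hl₁⟩ : GLinSh.LinBun G a).ssLocus = (⟨V, π, A, Φ₂, h₂, hl₂⟩ : GLinSh.LinBun G a).ssLocus ∧
      (⟨V, π, A, Φ₁, h₁, hl₁⟩ : GLinSh.LinBun G a).sLocus =
        (⟨V, π, A, Φ₂, h₂, hl₂⟩ : GLinSh.LinBun G a).sLocus := by
  have hGa : IsAffineHom G.hom := hG.1
  have hGs : Smooth G.hom := hG.2.1
  obtain ⟨Xr, j, _, _, ar, hj, _, har⟩ := exists_act a
  let B₁ : GLinSh.LinBun G a := ⟨V, π, A, Φ₁, h₁, hl₁⟩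
  let B₂ : GLinSh.LinBun G a := ⟨V, π, A, Φ₂, h₂, hl₂⟩
  let Br₁ := pull ar j har B₁
  let Br₂ := pull ar j har B₂
  have m₁ : Mor j B₁ Br₁ (pq j B₁) := mor_pull j har B₁
  have m₂ : Mor j B₂ Br₂ (pq j B₂) := mor_pull j har B₂
  have hconn : ∀ (K : Type u) [Field K] [IsAlgClosed K] (f : Spec (CommRingCat.of K) ⟶ Spec (CommRingCat.of k)),
      ConnectedSpace (Red.bc f G).left := fun K _ _ f =>
    (Groth.Agent.Sga3B.RedBcAny636.isReductiveOver_bc hG f).2.2.1
  have hact : Br₁.lift.act = Br₂.lift.act :=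
    LinUniq.act_eq hconn hχ Br₁.atlas Br₁.lift Br₂.lift Br₁.lift_π Br₂.lift_π Br₁.lift_linear Br₂.lift_linear
  have hbr : Br₁ = Br₂ := by
    have h3 : Br₁.lift = Br₂.lift := by
      have : ∀ (Φ Φ' : AlgGrp.Action G Br₁.V), Φ.act = Φ'.act → Φ = Φ' := by
        rintro ⟨x, _, _⟩ ⟨y, _, _⟩ h
        cases h
        rfl
      exact this _ _ hact
    have : ∀ (Φ Φ' : AlgGrp.Action G Br₁.V) (e : Φ = Φ') (x : Φ.act ≫ Br₁.π = (G ◁ Br₁.π) ≫ ar.act)
        (x' : Φ'.act ≫ Br₁.π = (G ◁ Br₁.π) ≫ ar.act) (y : GLinSh.IsLinearLift ar Br₁.π Φ Br₁.atlas.chart x)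
        (y' : GLinSh.IsLinearLift ar Br₁.π Φ' Br₁.atlas.chart x'),
        (⟨Br₁.V, Br₁.π, Br₁.atlas, Φ, x, y⟩ : GLinSh.LinBun G ar) = ⟨Br₁.V, Br₁.π, Br₁.atlas, Φ', x', y'⟩ := by
      rintro Φ _ rfl _ _ _ _
      rfl
    exact this Br₁.lift Br₂.lift h3 Br₁.lift_π Br₂.lift_π Br₁.lift_linear Br₂.lift_linear
  have hinj : Function.Injective (fun s : Set X.left => j.left.base ⁻¹' s) :=
    Set.preimage_injective.2 hj
  constructor
  · apply hinj
    change j.left.base ⁻¹' B₁.ssLocus = j.left.base ⁻¹' B₂.ssLocus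
    rw [← RedMain.ssLocus_eq H m₁ hj, ← RedMain.ssLocus_eq H m₂ hj, hbr]
  · apply hinj
    change j.left.base ⁻¹' B₁.sLocus = j.left.base ⁻¹' B₂.sLocus
    rw [← RedMain.sLocus_eq H m₁ har hj, ← RedMain.sLocus_eq H m₂ har hj, hbr]

end K701.RedAct
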