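import Groth.Agent.GIT.K701.EqLift
import Groth.Agent.GIT.K701.Bun
import Groth.Agent.GIT.K701.ClOrb
import Groth.Agent.GIT.K688.LinLift
import Groth.Agent.S0440

/-!
# Semi-stable and stable loci are unchanged by passing to the reduced scheme
-/

set_option autoImplicit false

universe u

open CategoryTheory CategoryTheory.Limits MonoidalCategory CartesianMonoidalCategory MonObj GrpObj AlgebraicGeometry
  TopologicalSpace Opposite

namespace K701.RedMain

open K689.SchGlue K689.PullBun K689.Compat K689.LinBunBasic K689.ActBasic K689.Avoid K701.WtComp K701.Bun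
  K701.PowLift K701.EqLift K701.ClOrb K686

theorem isAffineOpen_of_preimage {V Vr : Scheme.{u}} (q : Vr ⟶ V) [IsClosedImmersion q] (hs : Function.Surjective q)
    (D : V.Opens) (hD : IsAffineOpen (q ⁻¹ᵁ D)) : IsAffineOpen D := by
  have h1 : IsAffine (q ⁻¹ᵁ D).toScheme := hD
  have h2 : Function.Surjective (q ∣_ D) := by
    have h3 : Surjective q := ⟨hs⟩
    have h4 : Surjective (q ∣_ D) := IsZariskiLocalAtTarget.restrict (P := @Surjective) h3 D
    exact h4.surj
  exact Groth.Agent.S0440.result (q ∣_ D) h2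

/-- the open corresponding to an open of a closed subscheme with the same space -/
theorem exists_open {V Vr : Scheme.{u}} (q : Vr ⟶ V) [IsClosedImmersion q] (O : Vr.Opens) : ∃ D : V.Opens, q ⁻¹ᵁ D = O := by
  refine ⟨⟨(q '' (O : Set Vr)ᶜ)ᶜ, ?_⟩, ?_⟩
  · rw [isOpen_compl_iff]
    exact q.isClosedEmbedding.isClosedMap _ O.2.isClosed_compl
  · ext x
    change q x ∉ q '' (O : Set Vr)ᶜ ↔ x ∈ O
    constructor
    · intro h
      by_contra hx
      exact h ⟨x, hx, rfl⟩
    · rintro h ⟨y, hy, e⟩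
      have : y = x := q.isEmbedding.injective e
      subst this
      exact hy h

variable {k : Type u} [Field k] {G X Xr : Over (Spec (CommRingCat.of k))} [GrpObj G] {a : AlgGrp.Action G X}
  {ar : AlgGrp.Action G Xr} {j : Xr ⟶ X} {B : GLinSh.LinBun G a} {Br : GLinSh.LinBun G ar} {q : Br.V ⟶ B.V}

/-- powers of invariant sections lift -/
theorem lift_section (H : Haar G) (m : Mor j B Br q) [IsClosedImmersion j.left]
    (hj : Function.Surjective j.left) [IsReduced Xr.left] [CompactSpace X.left] [QuasiSeparatedSpace X.left]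
    [IsAffineHom G.hom] {n : ℕ} {f : Γ(Br.V.left, ⊤)} (hf : Br.IsInvSection n f) (Ur : Xr.left.Opens)
    (hUr : (Ur : Set Xr.left) = GLinSh.nonvanishing Br.π f) (hUa : IsAffineOpen Ur) :
    ∃ (M : ℕ) (F : Γ(B.V.left, ⊤)), M ≠ 0 ∧ B.IsInvSection (n * M) F ∧ q.left.appTop F = f ^ M := by
  have hpb := isPullback_of_mor m
  have hq1 : IsClosedImmersion q.left := MorphismProperty.of_isPullback hpb.flip inferInstance
  have hjs : Surjective j.left := ⟨hj⟩
  have hq2 : Surjective q.left := MorphismProperty.of_isPullback hpb.flip inferInstance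
  have hc : CompactSpace B.V.left := QuasiCompact.compactSpace_of_compactSpace B.π.left
  have hqs : QuasiSeparatedSpace B.V.left := quasiSeparatedSpace_of_quasiSeparated B.π.left
  have hGa : IsAffineHom (snd G B.V).left := by
    exact MorphismProperty.of_isPullback (IsPullback.of_hasPullback G.hom B.V.hom) ‹IsAffineHom G.hom›
  have hcG : CompactSpace (G ⊗ B.V).left := QuasiCompact.compactSpace_of_compactSpace (snd G B.V).left
  have hred : IsReduced Br.V.left := K688.LinLift.isReduced_left Br.atlas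
  obtain ⟨D, hD⟩ := exists_open q.left (Br.V.left.basicOpen f)
  have hDr : IsAffineOpen (Br.V.left.basicOpen f) := by
    have hP : IsAffineOpen (Br.π.left ⁻¹ᵁ Ur) := hUa.preimage _
    have h1 := hP.basicOpen (rsec (le_top : Br.π.left ⁻¹ᵁ Ur ≤ ⊤) f)
    have h2 : Br.V.left.basicOpen (rsec (le_top : Br.π.left ⁻¹ᵁ Ur ≤ ⊤) f) =
        Br.π.left ⁻¹ᵁ Ur ⊓ Br.V.left.basicOpen f := Br.V.left.basicOpen_res _ _
    have h3 : Br.V.left.basicOpen f ≤ Br.π.left ⁻¹ᵁ Ur := by
      intro v hv
      change Br.π.left v ∈ (Ur : Set Xr.left)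
      rw [hUr]
      exact ⟨v, hv, rfl⟩
    rw [h2, inf_eq_right.2 h3] at h1
    exact h1
  have hDa : IsAffineOpen D := isAffineOpen_of_preimage q.left hq2.surj D (by rw [hD]; exact hDr)
  obtain ⟨M, σ, hM, h1, h2⟩ := exists_inv_lift H B.lift Br.lift q m.lift hq2.surj f hf.2 D hD hDa
  refine ⟨M, comp B (n * M) σ, hM, isInvSection_comp B _ h1, ?_⟩
  rw [comp_pull m, h2]
  exact comp_of_hasWeight Br (weight_pow Br hf.1 M)

/-- the key step: a good section downstairs comes from a good section -/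
theorem exists_good (H : Haar G) (m : Mor j B Br q) [IsClosedImmersion j.left]
    (hj : Function.Surjective j.left) [IsReduced Xr.left] [CompactSpace X.left] [QuasiSeparatedSpace X.left]
    [IsAffineHom G.hom] {n : ℕ} {f : Γ(Br.V.left, ⊤)} (hn : 1 ≤ n) (hf : Br.IsInvSection n f) (Ur : Xr.left.Opens)
    (hUr : (Ur : Set Xr.left) = GLinSh.nonvanishing Br.π f) (hUa : IsAffineOpen Ur) :
    ∃ (n' : ℕ) (F : Γ(B.V.left, ⊤)) (U : X.left.Opens), 1 ≤ n' ∧ B.IsInvSection n' F ∧
      (U : Set X.left) = GLinSh.nonvanishing B.π F ∧ IsAffineOpen U ∧ j.left ⁻¹ᵁ U = Ur := by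
  obtain ⟨M, F, hM, hF, hFf⟩ := lift_section H m hj hf Ur hUr hUa
  let U : X.left.Opens := ⟨GLinSh.nonvanishing B.π F, isOpen_nonvanishing hF.1⟩
  have hU : j.left ⁻¹ᵁ U = Ur := by
    have h1 := m.nonvanishing hF.1
    rw [hFf, nonvanishing_pow hf.1 M hM, ← hUr] at h1
    ext x
    have h2 := Set.ext_iff.1 h1 x
    exact h2.symm
  refine ⟨n * M, F, U, Nat.one_le_iff_ne_zero.2 (Nat.mul_ne_zero (Nat.one_le_iff_ne_zero.1 hn) hM), hF, rfl, ?_, hU⟩
  exact isAffineOpen_of_preimage j.left hj U (by rw [hU]; exact hUa)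

theorem ssLocus_eq (H : Haar G) (m : Mor j B Br q) [IsClosedImmersion j.left]
    (hj : Function.Surjective j.left) [IsReduced Xr.left] [CompactSpace X.left] [QuasiSeparatedSpace X.left]
    [IsAffineHom G.hom] : Br.ssLocus = j.left.base ⁻¹' B.ssLocus := by
  ext x
  constructor
  · rintro ⟨n, f, hn, hf, hxf, Ur, hUr, hUa⟩
    obtain ⟨n', F, U, hn', hF, hU, hUa', hUU⟩ := exists_good H m hj hn hf Ur hUr hUa
    refine ⟨n', F, hn', hF, ?_, U, hU, hUa'⟩
    rw [← hU]
    have : x ∈ j.left ⁻¹ᵁ U := by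
      rw [hUU]
      change x ∈ (Ur : Set Xr.left)
      rw [hUr]; exact hxf
    exact this
  · intro hx
    exact m.isSemistablePt hx

theorem sLocus_eq (H : Haar G) (m : Mor j B Br q) (har : ar.act ≫ j = (G ◁ j) ≫ a.act) [IsClosedImmersion j.left]
    (hj : Function.Surjective j.left) [IsReduced Xr.left] [CompactSpace X.left] [QuasiSeparatedSpace X.left]
    [IsAffineHom G.hom] : Br.sLocus = j.left.base ⁻¹' B.sLocus := by
  ext x
  constructor
  · rintro ⟨n, f, hn, hf, hxf, Ur, hUr, hUa, hcl⟩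
    obtain ⟨n', F, U, hn', hF, hU, hUa', hUU⟩ := exists_good H m hj hn hf Ur hUr hUa
    refine ⟨n', F, hn', hF, ?_, U, hU, hUa', ?_⟩
    · rw [← hU]
      have : x ∈ j.left ⁻¹ᵁ U := by
        rw [hUU]
        change x ∈ (Ur : Set Xr.left)
        rw [hUr]; exact hxf
      exact this
    · exact closedOrbitsOn_of_red hj har U (by rw [hUU]; exact hcl)
  · rintro ⟨n, f, hn, hf, hxf, U, hU, hUa, hcl⟩
    refine ⟨n, _, hn, m.isInvSection hf, ?_, j.left ⁻¹ᵁ U, ?_, hUa.preimage _, ?_⟩
    · rw [m.nonvanishing hf.1]; exact hxf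
    · rw [m.nonvanishing hf.1, ← hU]; rfl
    · exact closedOrbitsOn_of_closedImmersion har U hcl

end K701.RedMain
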