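import Groth.Agent.GIT.K701.OpenOrb
import Groth.Agent.GIT.K701.FieldMain
import Groth.Agent.AGF.K500.Ru

/-!
# The (semi-)stable loci of a group and of its identity component
-/

set_option autoImplicit false
set_option linter.unusedSectionVars false

universe u

open CategoryTheory CategoryTheory.Limits MonoidalCategory CartesianMonoidalCategory MonObj GrpObj AlgebraicGeometry
  TopologicalSpace Opposite

namespace K701.ResMain

open K689.ActBasic K689.PullBun K689.Compat K689.Avoid K701.Coset K701.CosetGood K701.ActT K701.OpenOrb K701.MorE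
  K701.FieldMain

section Cover

variable {S : Scheme.{u}} {Ω : Type u} [Field Ω] [IsAlgClosed Ω] (g : Spec (CommRingCat.of Ω) ⟶ S)
  {G₀ G : Over S} [GrpObj G₀] [GrpObj G] {i : G₀ ⟶ G}

theorem exists_finite_cover [LocallyOfFiniteType G.hom] [QuasiCompact G.hom] [IsMonHom i] [IsOpenImmersion i.left] :
    ∃ (J : Type u) (_ : Finite J) (h : J → (gp g ⟶ G)), Covers i h := by
  have hq : QuasiCompact (snd G (gp g)).left := inferInstanceAs (QuasiCompact (pullback.snd G.hom g))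
  have hc : CompactSpace (G ⊗ gp g).left := by
    have : CompactSpace (gp g).left := inferInstanceAs (CompactSpace (Spec (CommRingCat.of Ω)))
    exact QuasiCompact.compactSpace_of_compactSpace (snd G (gp g)).left
  obtain ⟨t, ht⟩ := isCompact_univ.elim_finite_subcover
    (fun h : gp g ⟶ G => (kap (𝟙 (gp g)) h).left ⁻¹' Set.range i.left)
    (fun h => i.left.isOpenEmbedding.isOpen_range.preimage (kap (𝟙 (gp g)) h).left.continuous)
    (fun w _ => Set.mem_iUnion.2 (covers_all (i := i) g w))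
  refine ⟨t, inferInstance, fun j => j.1, fun w => ?_⟩
  obtain ⟨h, hh, hw⟩ := Set.mem_iUnion₂.1 (ht (Set.mem_univ w))
  exact ⟨⟨h, hh⟩, hw⟩

end Cover

section Res

variable {S : Scheme.{u}} {G₀ G X : Over S} [GrpObj G₀] [GrpObj G] {i : G₀ ⟶ G} {a : AlgGrp.Action G X}
  {a₀ : AlgGrp.Action G₀ X} (B : GLinSh.LinBun G a) (Φ₀ : AlgGrp.Action G₀ B.V)
  (hΦ₀ : Φ₀.act = (i ▷ B.V) ≫ B.lift.act) (hπ₀ : Φ₀.act ≫ B.π = (G₀ ◁ B.π) ≫ a₀.act)
  (hl₀ : GLinSh.IsLinearLift a₀ B.π Φ₀ B.atlas.chart hπ₀)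

include hΦ₀

theorem good_res [IsMonHom i] [IsOpenImmersion i.left] [Smooth G.hom] [QuasiCompact G.hom]
    [LocallyOfFiniteType X.hom] (ha₀ : a₀.act = (i ▷ X) ≫ a.act) {Q : Prop} {n : ℕ} {f : Γ(B.V.left, ⊤)}
    (hf : Good B Q n f) : Good (res B Φ₀ hπ₀ hl₀) Q n f := by
  obtain ⟨⟨hw, hi⟩, hn, U, hU, hUa, hUc⟩ := hf
  refine ⟨⟨hw, ?_⟩, hn, U, hU, hUa, fun q => closedOrbitsOn_res ha₀ U (hUc q)⟩
  change Φ₀.act.left.appTop f = (snd G₀ B.V).left.appTop f
  have hi' : B.lift.act.left.appTop f = (snd G B.V).left.appTop f := hi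
  rw [hΦ₀, comp_appTop'', hi', ← comp_appTop'', whiskerRight_snd]

theorem act_unique {X' : Over S} {h : X' ⟶ X} {a' : AlgGrp.Action G X'} {a₀' : AlgGrp.Action G₀ X'}
    (ha₀' : a₀'.act = (i ▷ X') ≫ a'.act) {B' : GLinSh.LinBun G a'} {q : B'.V ⟶ B.V} (m : EMor h B B' q)
    (Ψ : AlgGrp.Action G₀ B'.V) (h1 : Ψ.act ≫ q = (G₀ ◁ q) ≫ Φ₀.act)
    (h2 : Ψ.act ≫ B'.π = (G₀ ◁ B'.π) ≫ a₀'.act) : Ψ.act = (i ▷ B'.V) ≫ B'.lift.act := by
  have hpb : IsPullback q B'.π B.π h := K686.isPullback_over m.isPullback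
  apply hpb.hom_ext
  · rw [h1, Category.assoc, m.lift, hΦ₀, whisker_exchange_assoc]
  · rw [h2, Category.assoc, B'.lift_π, ha₀', whisker_exchange_assoc]

/-- compatibility of restriction and pull-back -/
theorem pull_act_res {X' : Over S} (h : X' ⟶ X) {a' : AlgGrp.Action G X'} {a₀' : AlgGrp.Action G₀ X'}
    (ha₀' : a₀'.act = (i ▷ X') ≫ a'.act) (he : a'.act ≫ h = (G ◁ h) ≫ a.act)
    (he₀ : a₀'.act ≫ h = (G₀ ◁ h) ≫ a₀.act) :
    (pull a₀' h he₀ (res B Φ₀ hπ₀ hl₀)).lift.act =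
      (i ▷ (pull a' h he B).V) ≫ (pull a' h he B).lift.act := by
  have m : EMor h B (pull a' h he B) (pq h B) := EMor.of_mor (mor_pull h he B)
  have m₀ := mor_pull h he₀ (res B Φ₀ hπ₀ hl₀)
  exact act_unique B Φ₀ hΦ₀ ha₀' m (pull a₀' h he₀ (res B Φ₀ hπ₀ hl₀)).lift m₀.lift
    (pull a₀' h he₀ (res B Φ₀ hπ₀ hl₀)).lift_π

end Res

section Main

variable {k : Type u} [Field k] {G₀ G X : Over (Spec (CommRingCat.of k))} [GrpObj G₀] [GrpObj G] {i : G₀ ⟶ G}
  {a : AlgGrp.Action G X} {a₀ : AlgGrp.Action G₀ X} (B : GLinSh.LinBun G a) (Φ₀ : AlgGrp.Action G₀ B.V)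
  (hΦ₀ : Φ₀.act = (i ▷ B.V) ≫ B.lift.act) (hπ₀ : Φ₀.act ≫ B.π = (G₀ ◁ B.π) ≫ a₀.act)
  (hl₀ : GLinSh.IsLinearLift a₀ B.π Φ₀ B.atlas.chart hπ₀)

include hΦ₀

theorem exists_good_iff_res [PerfectField k] [IsMonHom i] [IsOpenImmersion i.left] [Smooth G.hom]
    [QuasiCompact G.hom] (hN : AlgGrp.IsNormalHom i)
    [LocallyOfFiniteType X.hom] [CompactSpace X.left] [QuasiSeparatedSpace X.left]
    (ha₀ : a₀.act = (i ▷ X) ≫ a.act) {Q : Prop} (x : X.left) :
    (∃ n f, Good (res B Φ₀ hπ₀ hl₀) Q n f ∧ x ∈ GLinSh.nonvanishing B.π f) ↔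
      ∃ n f, Good B Q n f ∧ x ∈ GLinSh.nonvanishing B.π f := by
  have hG : LocallyOfFiniteType G.hom := inferInstance
  constructor
  · intro hex
    let K := AlgebraicClosure k
    let T := sp k K
    have hTs : Surjective T.hom := ⟨fun y => by
      have : Subsingleton ↥(Spec (CommRingCat.of k)) := inferInstanceAs (Subsingleton (PrimeSpectrum k))
      exact ⟨(IsLocalRing.closedPoint K : PrimeSpectrum K), Subsingleton.elim _ _⟩⟩
    have hfs : Surjective (fst X T).left :=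
      MorphismProperty.of_isPullback (IsPullback.of_hasPullback X.hom T.hom).flip hTs
    obtain ⟨x', rfl⟩ := hfs.surj x
    have hsub : Subsingleton T.left := inferInstanceAs (Subsingleton (PrimeSpectrum K))
    obtain ⟨J, _, h, hc⟩ := exists_finite_cover (i := i) (Spec.map (CommRingCat.ofHom (algebraMap k K)))
    let a' := actT a T
    let a₀' := actT a₀ T
    have hba := isBc_actT a T
    have hba₀ := isBc_actT a₀ T
    have ha₀' : a₀'.act = (i ▷ (X ⊗ T)) ≫ a'.act := by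
      apply CartesianMonoidalCategory.hom_ext
      · rw [hba₀.fst, Category.assoc, hba.fst, ha₀, whisker_exchange_assoc]
      · rw [hba₀.snd, Category.assoc, hba.snd, whiskerRight_snd_assoc]
    let B' := pull a' (fst X T) hba.fst B
    let B₀ := res B Φ₀ hπ₀ hl₀
    let B₀' := pull a₀' (fst X T) hba₀.fst B₀
    have m : EMor (fst X T) B B' (pq (fst X T) B) := EMor.of_mor (mor_pull _ _ _)
    have m₀ : EMor (fst X T) B₀ B₀' (pq (fst X T) B₀) := EMor.of_mor (mor_pull _ _ _)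
    have hact : B₀'.lift.act = (i ▷ B'.V) ≫ B'.lift.act :=
      pull_act_res B Φ₀ hΦ₀ hπ₀ hl₀ (fst X T) ha₀' hba.fst hba₀.fst
    obtain ⟨n, f, hf, hx'⟩ := (exists_good_iff K (Iso.refl _) m₀ hba₀ (Q := Q) x').2 hex
    have hτ : a'.act ≫ snd X T = snd G (X ⊗ T) ≫ snd X T := hba.snd
    obtain ⟨n', F, hF, hxF⟩ := exists_good_of_res (τ := snd X T) B' B₀'.lift hact B₀'.lift_π B₀'.lift_linear ha₀' hN
      hτ hc hf hx'
    exact (exists_good_iff K (Iso.refl _) m hba (Q := Q) x').1 ⟨n', F, hF, hxF⟩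
  · rintro ⟨n, f, hf, hx⟩
    exact ⟨n, f, good_res B Φ₀ hΦ₀ hπ₀ hl₀ ha₀ hf, hx⟩

end Main

end K701.ResMain
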