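import Groth.Agent.GIT.K689.InvRatio
import Mathlib.Algebra.Polynomial.Eval.Coeff

/-!
# The weight components of a function on the total space of a line bundle

`V ⟶ X` affine with a linear atlas.  For every `n` and every function `f` over `p⁻¹O` the weight-`n` component
`wc A n f`: in an admissible coordinate `y` it is `c_n yⁿ` when `f = Σ c_i yⁱ`.
-/

set_option autoImplicit false

universe u

open CategoryTheory CategoryTheory.Limits AlgebraicGeometry TopologicalSpace Opposite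

namespace K701.WtComp

open K689.SchGlue K689.Coord K689.CoordUP K689.Weight K689.Ratio K689.PullBun K689.Compat

variable {X V : Scheme.{u}} {p : V ⟶ X} {chart : ∀ U : X.Opens, Set (Γ(V, p ⁻¹ᵁ U))}

theorem rs_eval₂ {U W : X.Opens} (h : W ≤ U) (Q : Polynomial Γ(X, U)) (y : Γ(V, p ⁻¹ᵁ U)) :
    rs p h (Q.eval₂ (p.app U).hom y) =
      (Q.map (X.presheaf.map (homOfLE h).op).hom).eval₂ (p.app W).hom (rs p h y) := by
  rw [Polynomial.eval₂_map]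
  refine (Polynomial.hom_eval₂ Q _ (V.presheaf.map (homOfLE (p.preimage_mono h)).op).hom y).trans ?_
  congr 1
  ext c
  exact rs_app h c

theorem eval₂_mul_coord {W : X.Opens} (Q : Polynomial Γ(X, W)) (d : Γ(X, W)) (y : Γ(V, p ⁻¹ᵁ W)) :
    Q.eval₂ (p.app W).hom (p.app W d * y) =
      (Q.comp (Polynomial.C d * Polynomial.X)).eval₂ (p.app W).hom y := by
  rw [Polynomial.eval₂_comp]
  congr 1
  simp

/-- two local expressions have the same degree-`n` part -/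
theorem coeff_compat (A : Atl p chart) (n : ℕ) {O : X.Opens} (f : Γ(V, p ⁻¹ᵁ O)) {W W' W'' : X.Opens} (hW : W ≤ O)
    (hW' : W' ≤ O) (h : W'' ≤ W) (h' : W'' ≤ W') (hWa : IsAffineOpen W'') {y : Γ(V, p ⁻¹ᵁ W)} {y' : Γ(V, p ⁻¹ᵁ W')}
    (hy : Adm p chart W y) (hy' : Adm p chart W' y') {Q : Polynomial Γ(X, W)} {Q' : Polynomial Γ(X, W')}
    (e : Q.eval₂ (p.app W).hom y = rs p hW f) (e' : Q'.eval₂ (p.app W').hom y' = rs p hW' f) :
    rs p h (p.app W (Q.coeff n) * y ^ n) = rs p h' (p.app W' (Q'.coeff n) * y' ^ n) := by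
  obtain ⟨d, hd, ed⟩ := A.adm_unit (hy.restrict h) (hy'.restrict h')
  have e1 := congrArg (rs p h) e
  have e2 := congrArg (rs p h') e'
  rw [rs_rs, rs_eval₂] at e1 e2
  rw [ed, eval₂_mul_coord, ← e1] at e2
  have e3 := (A.adm_coord (hy.restrict h) W'' hWa le_rfl).1
  rw [rs_self] at e3
  have e4 := e3 (a₁ := _) (a₂ := _) e2
  have e5 := congrArg (fun P => P.coeff n) e4
  simp only [Polynomial.comp_C_mul_X_coeff, Polynomial.coeff_map] at e5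
  have e6 : p.app W'' (rsec h' (Q'.coeff n)) * p.app W'' d ^ n = p.app W'' (rsec h (Q.coeff n)) := by
    rw [← map_pow, ← map_mul]
    exact congrArg _ e5
  rw [rs_mul, rs_mul, rs_pow, rs_pow, rs_app, rs_app, ed, mul_pow, ← mul_assoc, e6]

/-- `g` is the weight-`n` component of `f` -/
def IsWc (p : V ⟶ X) (chart : ∀ U : X.Opens, Set (Γ(V, p ⁻¹ᵁ U))) (n : ℕ) (O : X.Opens) (f g : Γ(V, p ⁻¹ᵁ O)) :
    Prop :=
  ∀ (W : X.Opens) (hW : W ≤ O) (y : Γ(V, p ⁻¹ᵁ W)) (Q : Polynomial Γ(X, W)), Adm p chart W y →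
    Q.eval₂ (p.app W).hom y = rs p hW f → rs p hW g = p.app W (Q.coeff n) * y ^ n

theorem exists_local (A : Atl p chart) {O : X.Opens} (f : Γ(V, p ⁻¹ᵁ O)) {x : X} (hx : x ∈ O) {O' : X.Opens}
    (hx' : x ∈ O') :
    ∃ (W : X.Opens) (hW : W ≤ O) (_ : W ≤ O') (y : Γ(V, p ⁻¹ᵁ W)) (Q : Polynomial Γ(X, W)), IsAffineOpen W ∧ x ∈ W ∧
      Adm p chart W y ∧ Q.eval₂ (p.app W).hom y = rs p hW f := by
  obtain ⟨W, hW, y, hWa, hxW, hy⟩ := A.exists_adm (O := O ⊓ O') (x := x) ⟨hx, hx'⟩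
  obtain ⟨Q, hQ⟩ := (A.adm_coord hy W hWa le_rfl).2 (rs p (hW.trans inf_le_left) f)
  rw [rs_self] at hQ
  exact ⟨W, hW.trans inf_le_left, hW.trans inf_le_right, y, Q, hWa, hxW, hy, hQ⟩

/-- equality of functions over `p⁻¹O` is local on the base -/
theorem ext_base {O : X.Opens} {f g : Γ(V, p ⁻¹ᵁ O)}
    (h : ∀ x ∈ O, ∃ (W : X.Opens) (hW : W ≤ O), x ∈ W ∧ rs p hW f = rs p hW g) : f = g := by
  apply section_ext
  intro v hv
  obtain ⟨W, hW, hxW, e⟩ := h (p v) hv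
  exact ⟨p ⁻¹ᵁ W, p.preimage_mono hW, hxW, e⟩

theorem isWc_unique (A : Atl p chart) {n : ℕ} {O : X.Opens} {f g g' : Γ(V, p ⁻¹ᵁ O)} (h : IsWc p chart n O f g)
    (h' : IsWc p chart n O f g') : g = g' := by
  apply ext_base
  intro x hx
  obtain ⟨W, hW, -, y, Q, -, hxW, hy, hQ⟩ := exists_local A f hx hx
  exact ⟨W, hW, hxW, (h W hW y Q hy hQ).trans (h' W hW y Q hy hQ).symm⟩

theorem exists_wc (A : Atl p chart) (n : ℕ) {O : X.Opens} (f : Γ(V, p ⁻¹ᵁ O)) :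
    ∃ g : Γ(V, p ⁻¹ᵁ O), IsWc p chart n O f g := by
  have hloc : ∀ x : O, ∃ (W : X.Opens) (hW : W ≤ O) (y : Γ(V, p ⁻¹ᵁ W)) (Q : Polynomial Γ(X, W)),
      IsAffineOpen W ∧ x.1 ∈ W ∧ Adm p chart W y ∧ Q.eval₂ (p.app W).hom y = rs p hW f := fun x => by
    obtain ⟨W, hW, -, y, Q, h⟩ := exists_local A f x.2 x.2
    exact ⟨W, hW, y, Q, h⟩
  choose W hW y Q hWa hxW hy hQ using hloc
  let F : ∀ i : O, Γ(V, p ⁻¹ᵁ (W i)) := fun i => p.app (W i) ((Q i).coeff n) * y i ^ n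
  -- local agreement
  have agree : ∀ (i : O) (W' : X.Opens) (hW' : W' ≤ O) (y' : Γ(V, p ⁻¹ᵁ W')) (Q' : Polynomial Γ(X, W')),
      Adm p chart W' y' → Q'.eval₂ (p.app W').hom y' = rs p hW' f →
      rs p (inf_le_left : W i ⊓ W' ≤ W i) (F i) =
        rs p (inf_le_right : W i ⊓ W' ≤ W') (p.app W' (Q'.coeff n) * y' ^ n) := by
    intro i W' hW' y' Q' hy' hQ'
    apply ext_base
    intro x hx
    obtain ⟨W'', hW''a, hW'', hxW''⟩ := exists_affine_le (X := X) (U := W i ⊓ W') (x := x) hx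
    refine ⟨W'', hW'', hxW'', ?_⟩
    rw [rs_rs, rs_rs]
    exact coeff_compat A n f (hW i) hW' (hW''.trans inf_le_left) (hW''.trans inf_le_right) hW''a (hy i) hy'
      (hQ i) hQ'
  have key : ∃ s : Γ(V, p ⁻¹ᵁ O), ∀ i : O, rs p (hW i) s = F i := by
    obtain ⟨s, hs, -⟩ := TopCat.Sheaf.existsUnique_gluing' V.sheaf (fun i : O => p ⁻¹ᵁ (W i)) (p ⁻¹ᵁ O)
      (fun i => homOfLE (p.preimage_mono (hW i)))
      (fun v hv => Opens.mem_iSup.2 ⟨⟨p v, hv⟩, hxW ⟨p v, hv⟩⟩) F (by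
        intro i j
        exact agree i (W j) (hW j) (y j) (Q j) (hy j) (hQ j))
    exact ⟨s, hs⟩
  obtain ⟨s, hs'⟩ := key
  refine ⟨s, fun W' hW' y' Q' hy' hQ' => ?_⟩
  apply ext_base
  intro x hx
  have e := agree ⟨x, hW' hx⟩ W' hW' y' Q' hy' hQ'
  refine ⟨W ⟨x, hW' hx⟩ ⊓ W', inf_le_right, ⟨hxW ⟨x, hW' hx⟩, hx⟩, ?_⟩
  rw [← e, ← hs', rs_rs, rs_rs]

/-- the weight-`n` component -/
noncomputable def wc (A : Atl p chart) (n : ℕ) {O : X.Opens} (f : Γ(V, p ⁻¹ᵁ O)) : Γ(V, p ⁻¹ᵁ O) :=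
  (exists_wc A n f).choose

theorem isWc (A : Atl p chart) (n : ℕ) {O : X.Opens} (f : Γ(V, p ⁻¹ᵁ O)) : IsWc p chart n O f (wc A n f) :=
  (exists_wc A n f).choose_spec

/-- to check a weight component it is enough to look near every point -/
theorem wc_eq_of_local (A : Atl p chart) (n : ℕ) {O : X.Opens} {f g : Γ(V, p ⁻¹ᵁ O)}
    (h : ∀ x ∈ O, ∃ (W : X.Opens) (hW : W ≤ O) (y : Γ(V, p ⁻¹ᵁ W)) (Q : Polynomial Γ(X, W)), x ∈ W ∧
      Adm p chart W y ∧ Q.eval₂ (p.app W).hom y = rs p hW f ∧ rs p hW g = p.app W (Q.coeff n) * y ^ n) :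
    wc A n f = g := by
  apply ext_base
  intro x hx
  obtain ⟨W, hW, y, Q, hxW, hy, hQ, hg⟩ := h x hx
  exact ⟨W, hW, hxW, (isWc A n f W hW y Q hy hQ).trans hg.symm⟩

theorem wt_wc [IsAffineHom p] (A : Atl p chart) (n : ℕ) {O : X.Opens} (f : Γ(V, p ⁻¹ᵁ O)) :
    Wt p chart n O (wc A n f) := by
  apply Wt.of_local A
  intro x hx
  obtain ⟨W, hW, -, y, Q, -, hxW, hy, hQ⟩ := exists_local A f hx hx
  refine ⟨W, hW, hxW, ?_⟩
  rw [isWc A n f W hW y Q hy hQ]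
  exact Wt.of_adm A hy _

theorem wc_of_wt (A : Atl p chart) {n : ℕ} {O : X.Opens} {f : Γ(V, p ⁻¹ᵁ O)} (hf : Wt p chart n O f) :
    wc A n f = f := by
  apply wc_eq_of_local
  intro x hx
  obtain ⟨W, hW, y, hWa, hxW, hy⟩ := A.exists_adm hx
  obtain ⟨c, hc⟩ := hf W hW y hy
  refine ⟨W, hW, y, Polynomial.C c * Polynomial.X ^ n, hxW, hy, ?_, ?_⟩
  · rw [hc]; simp
  · rw [hc]; simp

theorem wt_iff [IsAffineHom p] (A : Atl p chart) {n : ℕ} {O : X.Opens} {f : Γ(V, p ⁻¹ᵁ O)} :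
    Wt p chart n O f ↔ wc A n f = f :=
  ⟨wc_of_wt A, fun h => h ▸ wt_wc A n f⟩

theorem wc_add (A : Atl p chart) (n : ℕ) {O : X.Opens} (f g : Γ(V, p ⁻¹ᵁ O)) :
    wc A n (f + g) = wc A n f + wc A n g := by
  apply wc_eq_of_local
  intro x hx
  obtain ⟨W, hW, y, hWa, hxW, hy⟩ := A.exists_adm hx
  obtain ⟨P, hP⟩ := (A.adm_coord hy W hWa le_rfl).2 (rs p hW f)
  obtain ⟨Q, hQ⟩ := (A.adm_coord hy W hWa le_rfl).2 (rs p hW g)
  rw [rs_self] at hP hQ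
  have hP' : P.eval₂ (p.app W).hom y = rs p hW f := hP
  have hQ' : Q.eval₂ (p.app W).hom y = rs p hW g := hQ
  refine ⟨W, hW, y, P + Q, hxW, hy, ?_, ?_⟩
  · rw [Polynomial.eval₂_add, hP', hQ', rs_add]
  · rw [rs_add, isWc A n f W hW y P hy hP', isWc A n g W hW y Q hy hQ', Polynomial.coeff_add, map_add, add_mul]

theorem wc_base_mul (A : Atl p chart) (n : ℕ) {O : X.Opens} (c : Γ(X, O)) (f : Γ(V, p ⁻¹ᵁ O)) :
    wc A n (p.app O c * f) = p.app O c * wc A n f := by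
  apply wc_eq_of_local
  intro x hx
  obtain ⟨W, hW, -, y, Q, -, hxW, hy, hQ⟩ := exists_local A f hx hx
  refine ⟨W, hW, y, Polynomial.C (rsec hW c) * Q, hxW, hy, ?_, ?_⟩
  · rw [Polynomial.eval₂_mul, Polynomial.eval₂_C, hQ, rs_mul, rs_app]
  · rw [rs_mul, rs_app, isWc A n f W hW y Q hy hQ, Polynomial.coeff_C_mul, map_mul, mul_assoc]

theorem wc_rs (A : Atl p chart) (n : ℕ) {O O' : X.Opens} (h : O' ≤ O) (f : Γ(V, p ⁻¹ᵁ O)) :
    wc A n (rs p h f) = rs p h (wc A n f) := by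
  apply wc_eq_of_local
  intro x hx
  obtain ⟨W, hW, -, y, Q, -, hxW, hy, hQ⟩ := exists_local A (rs p h f) hx hx
  refine ⟨W, hW, y, Q, hxW, hy, hQ, ?_⟩
  rw [rs_rs] at hQ
  rw [rs_rs, isWc A n f W (hW.trans h) y Q hy hQ]

theorem wc_zero (A : Atl p chart) (n : ℕ) {O : X.Opens} : wc A n (0 : Γ(V, p ⁻¹ᵁ O)) = 0 := by
  have := wc_add A n (0 : Γ(V, p ⁻¹ᵁ O)) 0
  rw [add_zero] at this
  exact left_eq_add.1 this

theorem wc_sum (A : Atl p chart) (n : ℕ) {O : X.Opens} {ι : Type*} (s : Finset ι) (f : ι → Γ(V, p ⁻¹ᵁ O)) :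
    wc A n (∑ i ∈ s, f i) = ∑ i ∈ s, wc A n (f i) := by
  classical
  induction s using Finset.induction_on with
  | empty => simp [wc_zero]
  | insert i s hi ih => rw [Finset.sum_insert hi, Finset.sum_insert hi, wc_add, ih]

/-- `y` is a nowhere vanishing function of weight one over `W` -/
def Crd (p : V ⟶ X) (chart : ∀ U : X.Opens, Set (Γ(V, p ⁻¹ᵁ U))) (W : X.Opens) (y : Γ(V, p ⁻¹ᵁ W)) : Prop :=
  Wt p chart 1 W y ∧ (W : Set X) ⊆ nv p y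

theorem Crd.restrict {W W' : X.Opens} {y : Γ(V, p ⁻¹ᵁ W)} (hy : Crd p chart W y) (h : W' ≤ W) :
    Crd p chart W' (rs p h y) := by
  refine ⟨hy.1.restrict h, ?_⟩
  rw [nv_rs]
  exact fun x hx => ⟨hy.2 (h hx), hx⟩

theorem Crd.of_adm [IsAffineHom p] (A : Atl p chart) {W : X.Opens} {y : Γ(V, p ⁻¹ᵁ W)} (hy : Adm p chart W y) :
    Crd p chart W y := by
  have e : y = p.app W 1 * y ^ 1 := by rw [map_one, one_mul, pow_one]
  refine ⟨?_, ?_⟩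
  · rw [e]; exact Wt.of_adm A hy 1
  · have h1 : nv p y = X.basicOpen (1 : Γ(X, W)) := by
      conv_lhs => rw [e]
      exact nv_adm A hy 1
    rw [h1, X.basicOpen_of_isUnit isUnit_one]

/-- the weight component in terms of a nowhere vanishing function of weight one -/
theorem wc_of_crd [IsAffineHom p] (A : Atl p chart) (n : ℕ) {W : X.Opens} {y : Γ(V, p ⁻¹ᵁ W)} (hy : Crd p chart W y)
    (Q : Polynomial Γ(X, W)) : wc A n (Q.eval₂ (p.app W).hom y) = p.app W (Q.coeff n) * y ^ n := by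
  apply wc_eq_of_local
  intro x hx
  obtain ⟨W', h1, h2, y₀, d, -, hxW', hy₀, hd, -, e'⟩ := exists_adm_unit A hy.1 (hy.2 hx) hx
  rw [pow_one] at e'
  refine ⟨W', h1, y₀, (Q.map (X.presheaf.map (homOfLE h1).op).hom).comp (Polynomial.C d * Polynomial.X), hxW', hy₀,
    ?_, ?_⟩
  · rw [← eval₂_mul_coord, rs_eval₂, e']
  · rw [rs_mul, rs_pow, rs_app, e', mul_pow, ← mul_assoc, ← map_pow, ← map_mul, Polynomial.comp_C_mul_X_coeff,
      Polynomial.coeff_map]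

/-- a coordinate of weight one vanishes nowhere -/
theorem Crd.of_isCoord [IsAffineHom p] (A : Atl p chart) {W : X.Opens} {y : Γ(V, p ⁻¹ᵁ W)} (h1 : Wt p chart 1 W y)
    (h2 : IsCoord p W y) : Crd p chart W y := by
  refine ⟨h1, fun x hx => ?_⟩
  obtain ⟨W', hW', y₀, hWa, hxW', hy₀⟩ := A.exists_adm hx
  obtain ⟨c, hc⟩ := h1 W' hW' y₀ hy₀
  rw [pow_one] at hc
  obtain ⟨Q, hQ⟩ := (h2.restrict hW' W' hWa le_rfl).2 y₀
  rw [rs_self] at hQ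
  have hQ' : Q.eval₂ (p.app W').hom (rs p hW' y) = y₀ := hQ
  rw [hc, eval₂_mul_coord] at hQ'
  have h3 := (A.adm_coord hy₀ W' hWa le_rfl).1
  rw [rs_self] at h3
  have h4 : Q.comp (Polynomial.C c * Polynomial.X) = Polynomial.X := by
    apply h3
    change Polynomial.eval₂ _ _ _ = Polynomial.eval₂ _ _ _
    rw [hQ', Polynomial.eval₂_X]
  have h5 := congrArg (fun P => P.coeff 1) h4
  simp only [Polynomial.comp_C_mul_X_coeff, Polynomial.coeff_X_one, pow_one] at h5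
  have hu : IsUnit c := IsUnit.of_mul_eq_one _ (by rw [mul_comm]; exact h5)
  have h6 : nv p y ∩ W' = X.basicOpen c := by
    rw [← nv_rs hW', hc]
    have := nv_adm (n := 1) A hy₀ c
    rwa [pow_one] at this
  rw [X.basicOpen_of_isUnit hu] at h6
  have : x ∈ nv p y ∩ W' := by rw [h6]; exact hxW'
  exact this.1

section Pull

variable {X' V' : Scheme.{u}} {p' : V' ⟶ X'} {h : X' ⟶ X} {q : V' ⟶ V}
  {chart' : ∀ U : X'.Opens, Set (Γ(V', p' ⁻¹ᵁ U))}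

/-- `q` over `h` pulls admissible coordinates back to nowhere vanishing functions of weight one -/
structure MorS (p : V ⟶ X) (p' : V' ⟶ X') (h : X' ⟶ X) (q : V' ⟶ V)
    (chart : ∀ U : X.Opens, Set (Γ(V, p ⁻¹ᵁ U))) (chart' : ∀ U : X'.Opens, Set (Γ(V', p' ⁻¹ᵁ U))) : Prop where
  comm : p' ≫ h = q ≫ p
  crd : ∀ (U : X.Opens) (y : Γ(V, p ⁻¹ᵁ U)), y ∈ chart U →
    Crd p' chart' (h ⁻¹ᵁ U) (q.appLE (p ⁻¹ᵁ U) (p' ⁻¹ᵁ (h ⁻¹ᵁ U)) (sqle comm U) y)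

theorem appLE_eval₂ (hc : p' ≫ h = q ≫ p) (U : X.Opens) (Q : Polynomial Γ(X, U)) (y : Γ(V, p ⁻¹ᵁ U)) :
    q.appLE (p ⁻¹ᵁ U) (p' ⁻¹ᵁ (h ⁻¹ᵁ U)) (sqle hc U) (Q.eval₂ (p.app U).hom y) =
      (Q.map (h.app U).hom).eval₂ (p'.app (h ⁻¹ᵁ U)).hom
        (q.appLE (p ⁻¹ᵁ U) (p' ⁻¹ᵁ (h ⁻¹ᵁ U)) (sqle hc U) y) := by
  rw [Polynomial.eval₂_map]
  refine (Polynomial.hom_eval₂ Q _ (q.appLE (p ⁻¹ᵁ U) (p' ⁻¹ᵁ (h ⁻¹ᵁ U)) (sqle hc U)).hom y).trans ?_
  congr 1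
  ext c
  exact appLE_base hc U c

theorem appLE_rs (hc : p' ≫ h = q ≫ p) {O U : X.Opens} (hU : U ≤ O) (f : Γ(V, p ⁻¹ᵁ O)) :
    q.appLE (p ⁻¹ᵁ U) (p' ⁻¹ᵁ (h ⁻¹ᵁ U)) (sqle hc U) (rs p hU f) =
      rs p' (h.preimage_mono hU) (q.appLE (p ⁻¹ᵁ O) (p' ⁻¹ᵁ (h ⁻¹ᵁ O)) (sqle hc O) f) :=
  (appLE_rsec q (p.preimage_mono hU) (sqle hc U)
    ((p'.preimage_mono (h.preimage_mono hU)).trans (sqle hc O)) f).trans
    (rsec_appLE q (p'.preimage_mono (h.preimage_mono hU)) (sqle hc O) _ f).symm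

theorem MorS.adm (m : MorS p p' h q chart chart') {U : X.Opens} {y : Γ(V, p ⁻¹ᵁ U)} (hy : Adm p chart U y) :
    Crd p' chart' (h ⁻¹ᵁ U) (q.appLE (p ⁻¹ᵁ U) (p' ⁻¹ᵁ (h ⁻¹ᵁ U)) (sqle m.comm U) y) := by
  obtain ⟨U₀, hU, y₀, hy₀, rfl⟩ := hy
  rw [appLE_rs m.comm hU y₀]
  exact (m.crd U₀ y₀ hy₀).restrict _

/-- weight components commute with pull-back -/
theorem MorS.wc [IsAffineHom p'] (m : MorS p p' h q chart chart') (A : Atl p chart) (A' : Atl p' chart') (n : ℕ)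
    {O : X.Opens} (f : Γ(V, p ⁻¹ᵁ O)) :
    q.appLE (p ⁻¹ᵁ O) (p' ⁻¹ᵁ (h ⁻¹ᵁ O)) (sqle m.comm O) (WtComp.wc A n f) =
      WtComp.wc A' n (q.appLE (p ⁻¹ᵁ O) (p' ⁻¹ᵁ (h ⁻¹ᵁ O)) (sqle m.comm O) f) := by
  apply ext_base
  intro x hx
  obtain ⟨W, hW, -, y, Q, -, hxW, hy, hQ⟩ := exists_local A f (x := h x) hx hx
  refine ⟨h ⁻¹ᵁ W, h.preimage_mono hW, hxW, ?_⟩
  rw [← appLE_rs m.comm hW (WtComp.wc A n f), isWc A n f W hW y Q hy hQ, ← wc_rs A' n, ← appLE_rs m.comm hW f,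
    ← hQ, appLE_eval₂ m.comm, wc_of_crd A' n (m.adm hy), Polynomial.coeff_map, map_mul, map_pow,
    appLE_base m.comm]

theorem MorS.wt [IsAffineHom p] [IsAffineHom p'] (m : MorS p p' h q chart chart') (A : Atl p chart)
    (A' : Atl p' chart') {n : ℕ} {O : X.Opens} {f : Γ(V, p ⁻¹ᵁ O)} (hf : Wt p chart n O f) :
    Wt p' chart' n (h ⁻¹ᵁ O) (q.appLE (p ⁻¹ᵁ O) (p' ⁻¹ᵁ (h ⁻¹ᵁ O)) (sqle m.comm O) f) := by
  rw [wt_iff A'] 
  rw [← m.wc A A' n f, wc_of_wt A hf]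

/-- the non-vanishing locus of the pull-back -/
theorem MorS.nv [IsAffineHom p] [IsAffineHom p'] (m : MorS p p' h q chart chart') (A : Atl p chart)
    (A' : Atl p' chart') {n : ℕ} {O : X.Opens} {f : Γ(V, p ⁻¹ᵁ O)} (hf : Wt p chart n O f) :
    nv p' (q.appLE (p ⁻¹ᵁ O) (p' ⁻¹ᵁ (h ⁻¹ᵁ O)) (sqle m.comm O) f) = h ⁻¹' K689.Weight.nv p f := by
  have key : ∀ (W : X.Opens) (hW : W ≤ O) (y : Γ(V, p ⁻¹ᵁ W)) (c : Γ(X, W)), Adm p chart W y →
      rs p hW f = p.app W c * y ^ n →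
      K689.Weight.nv p' (q.appLE (p ⁻¹ᵁ O) (p' ⁻¹ᵁ (h ⁻¹ᵁ O)) (sqle m.comm O) f) ∩ (h ⁻¹ᵁ W : X'.Opens) =
        h ⁻¹' (K689.Weight.nv p f) ∩ (h ⁻¹ᵁ W : X'.Opens) := by
    intro W hW y c hy e
    have e1 : K689.Weight.nv p f ∩ W = X.basicOpen c := by
      rw [← nv_rs hW, e]
      exact nv_adm A hy c
    have hcrd := m.adm hy
    rw [← nv_rs (h.preimage_mono hW), ← appLE_rs m.comm hW, e, map_mul, map_pow, appLE_base m.comm]
    have e3 : X'.basicOpen (h.app W c) = h ⁻¹ᵁ (X.basicOpen c) := (Scheme.preimage_basicOpen h c).symm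
    have h0 : K689.Weight.nv p' (p'.app (h ⁻¹ᵁ W) (h.app W c)) = X'.basicOpen (h.app W c) := by
      ext x
      by_cases hx : x ∈ h ⁻¹ᵁ W
      · obtain ⟨W', hW', y', hWa, hxW', hy'⟩ := A'.exists_adm hx
        have i1 : K689.Weight.nv p' (p'.app (h ⁻¹ᵁ W) (h.app W c)) ∩ W' = X'.basicOpen (rsec hW' (h.app W c)) := by
          have := nv_adm (n := 0) A' hy' (rsec hW' (h.app W c))
          rw [pow_zero, mul_one] at this
          rw [← nv_rs hW', rs_app, this]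
        have i2 : X'.basicOpen (rsec hW' (h.app W c)) = W' ⊓ X'.basicOpen (h.app W c) := X'.basicOpen_res _ _
        rw [i2] at i1
        constructor
        · intro hh
          have : x ∈ K689.Weight.nv p' (p'.app (h ⁻¹ᵁ W) (h.app W c)) ∩ W' := ⟨hh, hxW'⟩
          rw [i1] at this
          exact this.2
        · intro hh
          have : x ∈ K689.Weight.nv p' (p'.app (h ⁻¹ᵁ W) (h.app W c)) ∩ W' := by rw [i1]; exact ⟨hxW', hh⟩
          exact this.1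
      · constructor
        · intro hh; exact absurd (nv_subset _ hh) hx
        · intro hh; exact absurd (X'.basicOpen_le _ hh) hx
    have h1 : K689.Weight.nv p' (p'.app (h ⁻¹ᵁ W) (h.app W c) *
        (q.appLE (p ⁻¹ᵁ W) (p' ⁻¹ᵁ (h ⁻¹ᵁ W)) (sqle m.comm W) y) ^ n) = X'.basicOpen (h.app W c) := by
      rw [nv_mul A' (Wt.base _) (hcrd.1.pow n), h0]
      by_cases hn : n = 0
      · subst hn
        rw [pow_zero, nv_one A']
        exact Set.inter_eq_left.2 (X'.basicOpen_le _)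
      · rw [nv_pow A' hcrd.1 n hn]
        refine Set.inter_eq_left.2 ?_
        exact Set.Subset.trans (X'.basicOpen_le (h.app W c)) hcrd.2
    rw [h1, e3]
    ext x
    have e1' := Set.ext_iff.1 e1 (h x)
    constructor
    · intro hx
      have := e1'.2 hx
      exact ⟨this.1, this.2⟩
    · intro hx
      exact e1'.1 ⟨hx.1, hx.2⟩
  ext x
  by_cases hx : x ∈ h ⁻¹ᵁ O
  · obtain ⟨W, hW, y, -, hxW, hy⟩ := A.exists_adm (x := h x) hx
    obtain ⟨c, hc⟩ := hf W hW y hy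
    have := Set.ext_iff.1 (key W hW y c hy hc) x
    constructor
    · intro h'; exact (this.1 ⟨h', hxW⟩).1
    · intro h'; exact (this.2 ⟨h', hxW⟩).1
  · constructor
    · intro h'
      have h2 : x ∈ (h ⁻¹ᵁ O : X'.Opens) := nv_subset (p := p')
        (q.appLE (p ⁻¹ᵁ O) (p' ⁻¹ᵁ (h ⁻¹ᵁ O)) (sqle m.comm O) f) h'
      exact absurd h2 hx
    · intro h'
      have h2 : h x ∈ O := nv_subset f h'
      exact absurd h2 hx

end Pull

end K701.WtComp
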